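import Cfsg.Agent.Gag.FinK

/-!
# Dihedral Sylow 2-subgroups of order 8 (for piece FinD)
-/

set_option autoImplicit false
set_option linter.style.haveILetI false

namespace Cfsg.Gag.Fin5

open Subgroup Cfsg.FT
open scoped Pointwise

universe u

variable {G : Type u} [Group G] {Γ K L A S : Subgroup G} {f x a b g t : G}

theorem d8_f4 (h : D8 A f x) : f ^ 2 * f ^ 2 = 1 := by
  rw [← pow_add, show 2 + 2 = orderOf f from h.of.symm, pow_orderOf_eq_one]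

theorem d8_xx (h : D8 A f x) : x * x = 1 := by rw [← pow_two, ← h.ox, pow_orderOf_eq_one]

theorem d8_xinv (h : D8 A f x) : x⁻¹ = x := inv_eq_of_mul_eq_one_right (d8_xx h)

theorem d8_cinv (h : D8 A f x) : (f ^ 2)⁻¹ = f ^ 2 := inv_eq_of_mul_eq_one_right (d8_f4 h)

theorem d8_c_ne (h : D8 A f x) : f ^ 2 ≠ 1 := fun e =>
  absurd (orderOf_dvd_of_pow_eq_one e) (by rw [h.of]; decide)

theorem d8_oc (h : D8 A f x) : orderOf (f ^ 2) = 2 :=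
  orderOf_eq_prime (by rw [pow_two, d8_f4 h]) (d8_c_ne h)

theorem d8_cx (h : D8 A f x) : Commute (f ^ 2) x := by
  have : x * f ^ 2 * x⁻¹ = f ^ 2 := by rw [← conj_pow, h.inv, inv_pow, d8_cinv h]
  exact (mul_inv_eq_iff_eq_mul.1 this).symm

theorem d8_cf : Commute (f ^ 2) f := (Commute.refl f).pow_left 2

theorem d8_finv (h : D8 A f x) : f⁻¹ = f ^ 2 * f := by
  rw [eq_comm, ← mul_eq_one_iff_eq_inv, mul_assoc, ← pow_two, d8_f4 h]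

theorem d8_fx (h : D8 A f x) : f * x * f⁻¹ = f ^ 2 * x := by
  rw [← h.inv, show f * x * (x * f * x⁻¹) = f * (x * x) * f * x⁻¹ by group, d8_xx h, d8_xinv h,
    mul_one, ← pow_two]

theorem d8_fA (h : D8 A f x) : f ∈ A := h.gen ▸ mem_sup_left (mem_zpowers f)

theorem d8_xA (h : D8 A f x) : x ∈ A := h.gen ▸ mem_sup_right (mem_zpowers x)

theorem d8_cA (h : D8 A f x) : f ^ 2 ∈ 𝐂[A] := by
  rw [h.gen, centY, cent_cycle, cent_cycle]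
  exact ⟨mem_cent1.2 d8_cf, mem_cent1.2 (d8_cx h)⟩

theorem d8_nc (h : D8 A f x) : ¬ Commute f x := fun e => d8_c_ne h (by
  have := d8_fx h
  rw [e.eq, mul_inv_cancel_right] at this
  exact right_eq_mul.1 this)

theorem d8_x_notin (h : D8 A f x) : x ∉ ⟪f ^ 2⟫ := fun e =>
  d8_nc h (mem_cent1.1 (zpowers_le.2 (mem_cent1.2 d8_cf) e)).symm

theorem d8_swap (h : D8 A f x) : D8 A f (x * f) where
  of := h.of
  ox := orderOf_eq_prime (by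
      rw [pow_two, show x * f * (x * f) = x * f * x⁻¹ * (x * x) * f by group, h.inv, d8_xx h]
      group) fun e => d8_nc h (by
    rw [eq_inv_of_mul_eq_one_left e]; exact (Commute.refl f).inv_right)
  inv := by rw [← h.inv]; group
  gen := le_antisymm (h.gen.le.trans (sup_le le_sup_left (zpowers_le.2 (by
      simpa using mul_mem (mem_sup_right (mem_zpowers (x * f)) : x * f ∈ ⟪f⟫ ⊔ ⟪x * f⟫)
        (inv_mem (mem_sup_left (mem_zpowers f)))))))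
    (sup_le (zpowers_le.2 (d8_fA h)) (zpowers_le.2 (mul_mem (d8_xA h) (d8_fA h))))
  card := h.card

theorem d8_cT : f ^ 2 ∈ ⟪f ^ 2⟫ ⊔ ⟪x⟫ := mem_sup_left (mem_zpowers _)

theorem d8_xT : x ∈ ⟪f ^ 2⟫ ⊔ ⟪x⟫ := mem_sup_right (mem_zpowers _)

theorem d8_swap_T : ⟪f ^ 2⟫ ⊔ ⟪x * f * f⟫ = ⟪f ^ 2⟫ ⊔ ⟪x⟫ := by
  rw [mul_assoc, ← pow_two]
  exact le_antisymm (sup_le le_sup_left (zpowers_le.2 (mul_mem d8_xT d8_cT)))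
    (sup_le le_sup_left (zpowers_le.2 (by
      simpa using mul_mem (d8_xT : x * f ^ 2 ∈ ⟪f ^ 2⟫ ⊔ ⟪x * f ^ 2⟫) (inv_mem d8_cT))))

theorem d8_memT (h : D8 A f x) (ht : t ∈ ⟪f ^ 2⟫ ⊔ ⟪x⟫) :
    t = 1 ∨ t = f ^ 2 ∨ t = x ∨ t = f ^ 2 * x := by
  obtain ⟨i, hi, j, hj, rfl⟩ := (mem_join_norm (norms_cycle
    (zpowers_le.2 (mem_cent1.2 (d8_cx h).symm)))).1 ht
  rcases mem_cycle2 (d8_f4 h) hi with rfl | rfl <;> rcases mem_cycle2 (d8_xx h) hj with rfl | rfl <;>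
    simp

theorem d8_klein (h : D8 A f x) : Klein (⟪f ^ 2⟫ ⊔ ⟪x⟫) := by
  refine ⟨?_, fun t ht => ?_⟩
  · have h1 : ⟪f ^ 2⟫ ⊓ ⟪x⟫ = ⊥ := eq_bot_iff.2 fun t ht =>
      (mem_cycle2 (d8_xx h) ht.2).elim id fun e => absurd (e ▸ ht.1) (d8_x_notin h)
    rw [← sdprod_card (sdprodEY (norms_cycle (zpowers_le.2 (mem_cent1.2 (d8_cx h).symm))) h1),
      Nat.card_zpowers, Nat.card_zpowers, d8_oc h, h.ox]
  · rcases d8_memT h ht with rfl | rfl | rfl | rfl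
    · exact one_mul 1
    · exact d8_f4 h
    · exact d8_xx h
    · rw [← pow_two, (d8_cx h).mul_pow, pow_two, pow_two x, d8_f4 h, d8_xx h, one_mul]

theorem d8_TA (h : D8 A f x) : ⟪f ^ 2⟫ ⊔ ⟪x⟫ ≤ A :=
  sup_le (zpowers_le.2 (pow_mem (d8_fA h) 2)) (zpowers_le.2 (d8_xA h))

theorem d8_fN (h : D8 A f x) : f ∈ 𝐍[⟪f ^ 2⟫ ⊔ ⟪x⟫] := by
  rw [← conj_eq_iff_mem_norm, conj_sup, conj_zpowers, conj_zpowers, d8_fx h, ← d8_cf.eq,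
    mul_inv_cancel_right, (d8_cx h).eq, pow_two f, ← mul_assoc, ← pow_two, d8_swap_T]

theorem d8_AN (h : D8 A f x) : A ≤ 𝐍[⟪f ^ 2⟫ ⊔ ⟪x⟫] :=
  h.gen.le.trans (sup_le (zpowers_le.2 (d8_fN h)) (zpowers_le.2 (normG _ d8_xT)))

theorem d8_memA (h : D8 A f x) (ha : a ∈ A) :
    a ∈ ⟪f ^ 2⟫ ⊔ ⟪x⟫ ∨ ∃ t ∈ ⟪f ^ 2⟫ ⊔ ⟪x⟫, a = t * f := by
  have h1 : a ∈ (⟪f ^ 2⟫ ⊔ ⟪x⟫) ⊔ ⟪f⟫ :=
    (h.gen.le.trans (sup_le le_sup_right (le_sup_right.trans le_sup_left))) ha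
  obtain ⟨t, ht, _, ⟨k, rfl⟩, rfl⟩ := (mem_join_norm (zpowers_le.2 (d8_fN h))).1 h1
  have h2 : (f ^ 2) ^ (k / 2) ∈ ⟪f ^ 2⟫ ⊔ ⟪x⟫ := zpow_mem d8_cT _
  have e : f ^ k = (f ^ 2) ^ (k / 2) * f ^ (k % 2) := by
    conv_lhs => rw [← Int.mul_ediv_add_emod k 2, zpow_add, zpow_mul]
    norm_cast
  dsimp only
  rcases Int.emod_two_eq_zero_or_one k with h3 | h3 <;> rw [e, h3]
  · exact Or.inl (by simpa using mul_mem ht h2)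
  · exact Or.inr ⟨_, mul_mem ht h2, by rw [zpow_one, mul_assoc]⟩

theorem d8_fC (h : D8 A f x) : f ∉ 𝐂[⟪f ^ 2⟫ ⊔ ⟪x⟫] := fun e => d8_nc h (e x d8_xT).symm

theorem d8_cent (h : D8 A f x) : A ⊓ 𝐂[⟪f ^ 2⟫ ⊔ ⟪x⟫] ≤ ⟪f ^ 2⟫ ⊔ ⟪x⟫ := fun _ ha =>
  (d8_memA h ha.1).elim id fun ⟨_, ht, e⟩ => absurd ((mul_mem_cancel_left
    (abelian_iff.1 (klein_ab (d8_klein h)) ht)).1 (e ▸ ha.2)) (d8_fC h)

theorem d8_ne (h : D8 A f x) : ⟪f ^ 2⟫ ⊔ ⟪x⟫ ≠ ⟪f ^ 2⟫ ⊔ ⟪x * f⟫ := fun e =>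
  d8_fC h (abelian_iff.1 (klein_ab (d8_klein h))
    ((mul_mem_cancel_left d8_xT).1 (e ▸ (d8_xT : x * f ∈ ⟪f ^ 2⟫ ⊔ ⟪x * f⟫))))

theorem d8_invol (h : D8 A f x) (ha : a ∈ A) (h2 : a * a = 1) :
    a ∈ ⟪f ^ 2⟫ ⊔ ⟪x⟫ ∨ a ∈ ⟪f ^ 2⟫ ⊔ ⟪x * f⟫ := by
  refine (d8_memA h ha).imp id fun ⟨t, ht, e⟩ => ?_
  rcases d8_memT h ht with h3 | h3 | h3 | h3 <;> rw [e, h3] at h2 ⊢
  · exact absurd (by simpa [pow_two] using h2) (d8_c_ne h)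
  · rw [← d8_finv h, ← mul_inv_rev, inv_eq_one, ← pow_two] at h2
    exact absurd h2 (d8_c_ne h)
  · exact d8_xT
  · rw [mul_assoc]; exact mul_mem d8_cT d8_xT

theorem d8_klein_eq [Finite G] (h : D8 A f x) (hK : Klein K) (hA : K ≤ A) :
    K = ⟪f ^ 2⟫ ⊔ ⟪x⟫ ∨ K = ⟪f ^ 2⟫ ⊔ ⟪x * f⟫ := by
  have h1 : K ≤ ⟪f ^ 2⟫ ⊔ ⟪x⟫ ∨ K ≤ ⟪f ^ 2⟫ ⊔ ⟪x * f⟫ := by
    by_contra h2
    obtain ⟨h3, h4⟩ := not_or.1 h2
    obtain ⟨a, ha, h5⟩ := SetLike.not_le_iff_exists.1 h3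
    obtain ⟨b, hb, h6⟩ := SetLike.not_le_iff_exists.1 h4
    have h7 := (d8_invol h (hA ha) (hK.2 a ha)).resolve_left h5
    have h8 := (d8_invol h (hA hb) (hK.2 b hb)).resolve_right h6
    rcases d8_invol h (hA (mul_mem ha hb)) (hK.2 _ (mul_mem ha hb)) with h9 | h9
    · exact h5 ((mul_mem_cancel_right h8).1 h9)
    · exact h6 ((mul_mem_cancel_left h7).1 h9)
  exact h1.imp (fun e => card_eq_of_le e (by rw [(d8_klein h).1, hK.1]))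
    fun e => card_eq_of_le e (by rw [(d8_klein (d8_swap h)).1, hK.1])

theorem d8_not_conj [Finite G] (h : D8 A f x) (hA : Syl 2 A Γ) (hg : g ∈ Γ) :
    g •ᶜ (⟪f ^ 2⟫ ⊔ ⟪x⟫) ≠ ⟪f ^ 2⟫ ⊔ ⟪x * f⟫ := fun e => by
  set T := ⟪f ^ 2⟫ ⊔ ⟪x⟫
  set T' := ⟪f ^ 2⟫ ⊔ ⟪x * f⟫
  have h1 : Syl 2 A (Γ ⊓ 𝐍[T']) := hA.subl (le_inf hA.le (d8_AN (d8_swap h))) inf_le_left
  have h2 : Syl 2 (g •ᶜ A) (Γ ⊓ 𝐍[T']) := ((sylJ hg).2 hA).subl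
    (le_inf (conj_le_of_mem hg hA.le) (e ▸ conj_norms g (d8_AN h))) inf_le_left
  obtain ⟨d, hd, e'⟩ := Sylow_trans h2 h1
  rw [conj_conj] at e'
  have hm : d * g ∈ Γ ⊓ 𝐍[A] := ⟨mul_mem hd.1 hg, conj_eq_iff_mem_norm.1 e'.symm⟩
  have hmT : (d * g) •ᶜ T = T' := by rw [← conj_conj, e, conj_eq_of_mem_norm hd.2]
  generalize d * g = m at hm hmT
  have h3 : m •ᶜ T' = T := (d8_klein_eq h (klein_conj (d8_klein (d8_swap h)) m)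
    (conj_le_of_mem_norm hm.2 (d8_TA (d8_swap h)))).resolve_right fun h4 =>
      d8_ne h (conj_inj.1 (hmT.trans h4.symm))
  have h4 : m ^ 2 ∈ 𝐍[T] := by rw [← conj_eq_iff_mem_norm, pow_two, ← conj_conj, hmT, h3]
  have h5 : constt {2} m ∈ 𝐍[T] := d8_AN h ((mem_normal_Hall
    (hA.subl (le_inf hA.le (normG A)) inf_le_left).hall ⟨le_inf hA.le (normG A), inf_le_right⟩
      (constt_mem _ hm)).2 (p_elt_constt _ m))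
  have h6 : constt {2}ᶜ m ∈ 𝐍[T] := by
    refine mem_of_sq_odd ?_ (by rw [← consttX]; exact constt_mem _ h4)
    rw [← Nat.not_even_iff_odd, even_iff_two_dvd]
    exact piElt_compl.1 (p_elt_constt _ m)
  have h7 : m ∈ 𝐍[T] := consttC {2} m ▸ mul_mem h5 h6
  exact d8_ne h ((conj_eq_of_mem_norm h7).symm.trans hmT)

theorem d8_conj_eq [Finite G] (h : D8 A f x) (hA : Syl 2 A Γ) (hg : g ∈ Γ)
    (hle : g •ᶜ (⟪f ^ 2⟫ ⊔ ⟪x⟫) ≤ A) : g •ᶜ (⟪f ^ 2⟫ ⊔ ⟪x⟫) = ⟪f ^ 2⟫ ⊔ ⟪x⟫ :=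
  (d8_klein_eq h (klein_conj (d8_klein h) g) hle).resolve_right (d8_not_conj h hA hg)

theorem d8_pro [Finite G] (h : D8 A f x) (hA : Syl 2 A Γ) (hg : g ∈ Γ) (hL : L ≤ Γ)
    (h1 : ⟪f ^ 2⟫ ⊔ ⟪x⟫ ≤ L) (h2 : g •ᶜ (⟪f ^ 2⟫ ⊔ ⟪x⟫) ≤ L) :
    ∃ c ∈ L, c •ᶜ (⟪f ^ 2⟫ ⊔ ⟪x⟫) = g •ᶜ (⟪f ^ 2⟫ ⊔ ⟪x⟫) := by
  obtain ⟨S, hS, hTS⟩ := Sylow_superset h1 (klein_pgroup (d8_klein h))
  obtain ⟨c, hc, h3⟩ := Sylow_Jsub hS h2 (klein_pgroup (klein_conj (d8_klein h) g))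
  obtain ⟨a, ha, h4⟩ := Sylow_Jsub hA (hS.le.trans hL) hS.pgroup
  have e1 := d8_conj_eq h hA ha ((conj_le_conj.2 hTS).trans h4)
  have e2 := d8_conj_eq h hA (mul_mem ha (mul_mem (hL hc) hg)) (by
    rw [← conj_conj, ← conj_conj]; exact (conj_le_conj.2 h3).trans h4)
  rw [← conj_conj, ← conj_conj] at e2
  exact ⟨c⁻¹, inv_mem hc, (conj_eq_iff.1 (conj_inj.1 (e2.trans e1.symm))).symm⟩

theorem d8_syl_cent [Finite G] (h : D8 A f x) (hA : Syl 2 A Γ) :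
    Syl 2 (⟪f ^ 2⟫ ⊔ ⟪x⟫) (Γ ⊓ 𝐂[⟪f ^ 2⟫ ⊔ ⟪x⟫]) := by
  refine max_pgroup_Sylow (le_inf ((d8_TA h).trans hA.le) (abelian_iff.1 (klein_ab (d8_klein h))))
    (klein_pgroup (d8_klein h)) fun S h1 h2 h3 => le_antisymm ?_ h1
  obtain ⟨a, ha, h4⟩ := Sylow_Jsub hA (h2.trans inf_le_left) h3
  have e1 := d8_conj_eq h hA ha ((conj_le_conj.2 h1).trans h4)
  have h5 := conj_cents a (h2.trans inf_le_right)
  rw [e1] at h5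
  have h6 := (le_inf h4 h5).trans (d8_cent h)
  rwa [← e1, conj_le_conj] at h6

theorem d8_exists_three [Finite G] (h : D8 A f x) (hA : Syl 2 A Γ) (hg : g ∈ Γ)
    (e : g * f ^ 2 * g⁻¹ = x) : ∃ n ∈ Γ ⊓ 𝐍[⟪f ^ 2⟫ ⊔ ⟪x⟫], n ^ 2 ∉ 𝐂[⟪f ^ 2⟫ ⊔ ⟪x⟫] := by
  set T := ⟪f ^ 2⟫ ⊔ ⟪x⟫ with hT
  have hTab : T ≤ 𝐂[T] := abelian_iff.1 (klein_ab (d8_klein h))
  have h1 : Syl 2 (g •ᶜ A) (Γ ⊓ 𝐂₁[x]) := ((sylJ hg).2 hA).subl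
    (le_inf (conj_le_of_mem hg hA.le) (by
      rw [← e, cent1_conj, conj_le_conj]; exact le_cent1.2 (d8_cA h))) inf_le_left
  obtain ⟨S, hS, hTS⟩ := Sylow_superset (H := Γ ⊓ 𝐂₁[x])
    (le_inf ((d8_TA h).trans hA.le) (le_cent1.2 (hTab d8_xT))) (klein_pgroup (d8_klein h))
  have h2 : T < S := lt_of_le_of_ne hTS fun h3 => by
    have := hS.card_eq h1
    rw [← h3, card_conj, h.card, (d8_klein h).1] at this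
    exact absurd this (by decide)
  obtain ⟨s, hs, hsT⟩ := SetLike.exists_of_lt (nilpotent_proper_norm (pgroup_nil hS.pgroup) h2)
  have hsC : s ∉ 𝐂[T] := fun h3 => hsT (((d8_syl_cent h hA).eq_of_le
    (hS.pgroup.to_le (inf_le_left : S ⊓ 𝐂[T] ≤ S)) (le_inf hTS hTab)
    (inf_le_inf_right _ (hS.le.trans inf_le_left))).le ⟨hs.1, h3⟩)
  have hsx : s * x = x * s := mem_cent1.1 (hS.le hs.1).2
  have h3 : s * f ^ 2 * s⁻¹ = f ^ 2 * x := by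
    rcases d8_memT h ((memJ_norm hs.2).2 d8_cT) with h4 | h4 | h4 | h4
    · exact absurd (by simpa using h4) (d8_c_ne h)
    · refine absurd ?_ hsC
      rw [hT, centY, cent_cycle, cent_cycle]
      exact ⟨mem_cent1.2 (mul_inv_eq_iff_eq_mul.1 h4), mem_cent1.2 hsx⟩
    · rw [mul_inv_eq_iff_eq_mul, ← hsx, mul_right_inj] at h4
      exact absurd (h4 ▸ mem_zpowers _) (d8_x_notin h)
    · exact h4
  refine ⟨f * s, ⟨mul_mem (hA.le (d8_fA h)) (hS.le hs.1).1, mul_mem (d8_fN h) hs.2⟩, fun h4 => ?_⟩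
  have h5 : f * s * f ^ 2 * (f * s)⁻¹ = x := by
    rw [show f * s * f ^ 2 * (f * s)⁻¹ = f * (s * f ^ 2 * s⁻¹) * f⁻¹ by group, h3,
      show f * (f ^ 2 * x) * f⁻¹ = f ^ 2 * (f * x * f⁻¹) by group, d8_fx h, ← mul_assoc, d8_f4 h,
      one_mul]
  have h6 : f * s * x * (f * s)⁻¹ = f ^ 2 * x := by
    rw [← d8_fx h, mul_assoc f, hsx]; group
  have h7 : (f * s) ^ 2 * f ^ 2 * ((f * s) ^ 2)⁻¹ = f ^ 2 * x := by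
    rw [← h6, ← h5, pow_two (f * s)]; group
  rw [← h4 _ d8_cT, mul_inv_cancel_right, left_eq_mul] at h7
  exact d8_x_notin h (h7 ▸ one_mem _)

end Cfsg.Gag.Fin5
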