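import Cfsg.Agent.Gag.Defs

/-!
# A four-group acting on a group of odd order
-/

set_option autoImplicit false

namespace Cfsg.Gag

open Subgroup Cfsg.FT
open scoped Pointwise

universe u

variable {G : Type u} [Group G] {D T F L X Y : Subgroup G} {s l : G}

theorem Klein.ab (h : Klein T) : IsMulCommutative T := abelian_iff_forall.2 fun x hx y hy => by
  rw [← inv_eq_of_mul_eq_one_right (h.2 _ (T.mul_mem hx hy)), mul_inv_rev,
    inv_eq_of_mul_eq_one_right (h.2 x hx), inv_eq_of_mul_eq_one_right (h.2 y hy)]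

theorem Klein.abelem (h : Klein T) : IsElementaryAbelian 2 T :=
  ⟨h.ab, fun x hx => by rw [pow_two]; exact h.2 x hx⟩

theorem Klein.pgroup (h : Klein T) : IsPGroup 2 T := abelem_pgroup h.abelem

theorem Klein.not_cyclic (h : Klein T) : ¬ IsCyclic T := fun hc => by
  have := card_dvd_of_abelem_cyclic h.abelem hc
  rw [h.1] at this
  omega

theorem Klein.ne_bot (h : Klein T) : T ≠ ⊥ := fun e => by
  have := h.1
  rw [e, card_bot] at this
  omega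

theorem Klein.orderOf (h : Klein T) (hs : s ∈ T) (h1 : s ≠ 1) : orderOf s = 2 :=
  orderOf_eq_prime (by rw [pow_two]; exact h.2 s hs) h1

theorem Klein.coprime (h : Klein T) {n : ℕ} (hn : Odd n) : n.Coprime (Nat.card T) := by
  rw [h.1]; exact (Nat.Coprime.pow_right 2 hn.coprime_two_right)

theorem Klein.gen [Finite G] (h : Klein T) (hs : s ∈ T) (hl : l ∈ T) (h1 : s ≠ 1) (h2 : l ≠ 1)
    (h3 : s ≠ l) : T = ⟪l⟫ ⊔ ⟪s⟫ := by
  have hle : ⟪l⟫ ⊔ ⟪s⟫ ≤ T := sup_le (zpowers_le.2 hl) (zpowers_le.2 hs)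
  have hlt : ⟪l⟫ < ⟪l⟫ ⊔ ⟪s⟫ := left_lt_sup.2 fun e => by
    obtain ⟨k, hk⟩ := mem_zpowers_iff.1 (zpowers_le.1 e)
    rw [← zpow_mod_orderOf, h.orderOf hl h2] at hk
    rcases Int.emod_two_eq_zero_or_one k with e | e
    · exact h1 (by simpa [e] using hk.symm)
    · exact h3 (by simpa [e] using hk.symm)
  have := card_mul_le_of_lt (h.pgroup.to_le hle) hlt
  rw [Nat.card_zpowers, h.orderOf hl h2] at this
  exact (card_eq_of_le hle (h.1 ▸ this)).symm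

theorem Klein.quo (h : Klein T) (hn : T ≤ 𝐍[F]) (ho : Odd (Nat.card F)) : Klein (T ⁄ F) :=
  ⟨(card_quotient_of_TI hn (coprime_TIg (h.coprime ho))).trans h.1, fun t ht => by
    obtain ⟨x, hx, hx', rfl⟩ := mem_quo.1 ht
    rw [← coset_mul hx' hx', h.2 x hx, coset_one]⟩

/-- `[C_D(s), T]` -/
abbrev w3Q (D T : Subgroup G) (s : G) : Subgroup G := ⁅D ⊓ 𝐂₁[s], T⁆

/-- `⟨C_{[C_D(s), T]}(T) : s ∈ T#⟩` -/
def w3J (D T : Subgroup G) : Subgroup G := ⨆ s ∈ nz T, w3Q D T s ⊓ 𝐂[T]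

theorem w3J_mono (h : D ≤ L) : w3J D T ≤ w3J L T :=
  iSup₂_mono fun _ _ => inf_le_inf_right _ (commSg T (inf_le_inf_right _ h))

theorem le_w3J (hs : s ∈ T) (h1 : s ≠ 1) : w3Q D T s ⊓ 𝐂[T] ≤ w3J D T :=
  le_iSup₂ (f := fun s (_ : s ∈ nz T) => w3Q D T s ⊓ 𝐂[T]) s ⟨hs, h1⟩

theorem Klein.norm_cent1 (h : Klein T) (hn : T ≤ 𝐍[D]) (hs : s ∈ T) : T ≤ 𝐍[D ⊓ 𝐂₁[s]] :=
  normsGI hn (le_cent1.2 (abelian_iff.1 h.ab hs))

theorem Klein.Q_le (h : Klein T) (hn : T ≤ 𝐍[D]) (hs : s ∈ T) : w3Q D T s ≤ D ⊓ 𝐂₁[s] :=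
  commg_subl.2 (h.norm_cent1 hn hs)

theorem Klein.J_le (h : Klein T) (hn : T ≤ 𝐍[D]) : w3J D T ≤ D ⊓ 𝐂[T] :=
  iSup₂_le fun _ hs => inf_le_inf_right _ ((h.Q_le hn hs.1).trans inf_le_left)

theorem Klein.J_quo [Finite G] (h : Klein T) (hF : F ⊴ D) (hT : T ≤ 𝐍[F])
    (ho : Odd (Nat.card F)) : w3J (D ⁄ F) (T ⁄ F) ≤ w3J D T ⁄ F := by
  refine iSup₂_le fun t ht => ?_
  obtain ⟨s, hs, hs', rfl⟩ := mem_quo.1 ht.1
  have h1 : s ≠ 1 := fun e => ht.2 (by rw [e, coset_one]; rfl)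
  refine le_trans (le_of_eq ?_) (quotientS F (le_w3J hs h1))
  rw [coprime_norm_quotient_cent (commg_normr _ _) hT (h.coprime ho) (.inr (abelian_sol h.ab)),
    quotientR (inf_le_left.trans hF.2) hT, coprime_quotient_cent1 (.inl hF.1) hs'
      (by rw [h.orderOf hs h1]; exact ho.coprime_two_right)]

theorem Klein.le_iSup_Q [Finite G] (h : Klein T) (hn : T ≤ 𝐍[D]) (ho : Odd (Nat.card D))
    (hD : ⁅D, T⁆ = D) : D ≤ ⨆ s ∈ nz T, w3Q D T s := by
  set Qs := ⨆ s ∈ nz T, w3Q D T s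
  have h1 : D ≤ Qs ⊔ (D ⊓ 𝐂[T]) := coprime_abelian_gen_cent1_le h.ab h.not_cyclic hn (h.coprime ho)
    fun s hs h1 => by
      rw [← coprime_cent_prod (h.norm_cent1 hn hs) (h.coprime (oddSg inf_le_left ho))
        (.inr (abelian_sol h.ab))]
      exact sup_le_sup (le_iSup₂ (f := fun s (_ : s ∈ nz T) => w3Q D T s) s ⟨hs, h1⟩)
        (inf_le_inf_right _ inf_le_left)
  have h2 : D ⊓ 𝐂[T] ≤ 𝐍[Qs] := norms_iSup fun s => norms_iSup fun hs =>
    normsR (normsG (inf_le_inf_left _ (cent_le_cent1 hs.1))) (cents_norm inf_le_right)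
  have h3 : T ≤ 𝐍[Qs] := norms_iSup fun s => norms_iSup fun _ => commg_normr _ _
  calc D = ⁅D, T⁆ := hD.symm
    _ ≤ ⁅Qs ⊔ (D ⊓ 𝐂[T]), T⁆ := commSg T h1
    _ = ⁅Qs, T⁆ := commg_sup_cent' h2 inf_le_right
    _ ≤ Qs := commg_subl.2 h3

theorem Klein.w3_noncent [Finite G] (h : Klein T) (hn : T ≤ 𝐍[D]) (ho : Odd (Nat.card D))
    (hD : ⁅D, T⁆ = D) (hF : F ⊴ D) (hT : T ≤ 𝐍[F]) (ha : IsMulCommutative F) (hc : ⁅F, D⁆ = F) :
    F ⊓ 𝐂[T] ≤ w3J D T := by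
  set W := ⁅F, T⁆ ⊔ (w3J D T ⊓ F)
  have hoF := oddSg hF.1 ho
  have hW : W ≤ F := sup_le (commg_subl.2 hT) inf_le_right
  have hFW : F ≤ 𝐍[W] := sub_abelian_norm ha hW
  have hsol : Group.IsSolvable T := abelian_sol h.ab
  have key : ∀ s ∈ nz T, ⁅w3Q D T s, F⁆ ≤ W := fun s hs => by
    have hQ := h.Q_le hn hs.1
    have hsT : ⟪s⟫ ≤ T := zpowers_le.2 hs.1
    have hQF : w3Q D T s ≤ 𝐍[F] := hQ.trans (inf_le_left.trans hF.2)
    rw [commGC, ← coprime_cent_prod (hsT.trans hT) (coprimegS hsT (h.coprime hoF))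
      (solOr_cycle F s)]
    refine commg_sup_le ((commg_subl.2 (hsT.trans hT)).trans hFW) (inf_le_left.trans hFW) ?_ ?_
    · exact (commg_subl.2 (normsR hQF (norms_cycle (hQ.trans inf_le_right)))).trans
        ((commgS F hsT).trans le_sup_left)
    · have h1 : ⁅F ⊓ 𝐂[⟪s⟫], w3Q D T s⁆ ≤ w3Q D T s ⊓ F := le_inf
        (commg_subr.2 ((by rw [cent_cycle]; exact inf_le_inf_right _ hF.1 :
          F ⊓ 𝐂[⟪s⟫] ≤ D ⊓ 𝐂₁[s]).trans (commg_norml _ _)))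
        ((commSg _ inf_le_left).trans (commg_subl.2 hQF))
      refine h1.trans ?_
      rw [← coprime_cent_prod (normsI (commg_normr (D ⊓ 𝐂₁[s]) T) hT)
        (h.coprime (oddSg inf_le_right hoF)) (.inr hsol)]
      exact sup_le_sup (commSg T inf_le_right) (le_inf
        ((inf_le_inf_right _ inf_le_left).trans (le_w3J hs.1 hs.2)) (inf_le_left.trans inf_le_right))
  have h1 : F ≤ W := by
    rw [← hc, commGC]
    refine (commSg F (h.le_iSup_Q hn ho hD)).trans ?_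
    rw [iSup_subtype']
    exact commg_iSup_le (fun s => commg_subr.1 ((commgS _ hW).trans (key s s.2))) fun s => key s s.2
  have h2 := group_modr (K := ⁅F, T⁆) (H := w3J D T ⊓ F) (L := 𝐂[T])
    (inf_le_right.trans (commg_norml _ _)) (inf_le_left.trans ((h.J_le hn).trans inf_le_right))
  rw [coprime_abel_cent_TI hT (h.coprime hoF) ha, bot_sup_eq] at h2
  exact (inf_le_inf_right _ h1).trans (h2.le.trans inf_le_left)

theorem der_center_syl_le [Finite G] {p : ℕ} [Fact p.Prime] {R : Subgroup G} (hR : Syl p R D) :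
    ⁅D, D⁆ ⊓ 𝐙[D] ⊓ R ≤ ⁅R, R⁆ := by
  obtain ⟨S, rfl⟩ := syl_iff_exists_sylow.1 hR
  rintro x ⟨⟨h1, h2⟩, y, hy, rfl⟩
  rw [← map_commutator]
  refine mem_map_of_mem _ (commutator_inf_center_inf_sylow_le S ⟨⟨?_, ?_⟩, hy⟩)
  · rw [← Subgroup.map_subtype_commutator] at h1
    obtain ⟨z, hz, e⟩ := h1
    exact D.subtype_injective e ▸ hz
  · exact mem_center_iff.2 fun g => Subtype.ext (h2.2 g g.2)

theorem Klein.w3_pgroup [Finite G] (h : Klein T) (hn : T ≤ 𝐍[D]) (ho : Odd (Nat.card D))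
    (hD : ⁅D, T⁆ = D) (hnil : Group.IsNilpotent D) (hZ : 𝐙[D] ≤ 𝐂[T])
    (hJ : 𝐙[D] ⊓ w3J D T = ⊥) : D = ⊥ := by
  by_contra hb
  have hlt : 𝐙[D] < D := lt_of_le_of_ne inf_le_left fun e =>
    hb (hD.symm.trans (commG1P.2 (e ▸ hZ)))
  have h2 : ¬ ucn 2 D ≤ 𝐙[D] := fun e => by
    have := ucn_central 1 D
    rw [ucn1, quotientS1 e] at this
    exact center_nil_ne_bot (quotient_nil _ hnil) ((quotient_neq1 (center_normal D)).2 hlt) this.symm
  obtain ⟨s, hs, h1, hx⟩ := coprime_abelian_exists_cent1 h.ab h.not_cyclic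
    (char_norm_trans (ucn_char 2 D) hn) (h.coprime (oddSg (ucn_sub 2 D) ho)) h2
  set X := ucn 2 D ⊓ 𝐂₁[s]
  have hX : X ≤ D ⊓ 𝐂₁[s] := inf_le_inf_right _ (ucn_sub 2 D)
  have hXD : ⁅X, D⁆ ≤ 𝐙[D] := (le_ucn2.1 inf_le_left).2
  refine hx (le_inf (hX.trans inf_le_left) (centsC.1 ((h.le_iSup_Q hn ho hD).trans
    (iSup₂_le fun l hl => ?_))))
  have hQ := h.Q_le hn hl.1
  by_cases e : s = l
  · subst e
    refine commG1P'.1 (eq_bot_iff.2 (hJ ▸ le_inf ?_ (le_trans (le_inf ?_ ?_) (le_w3J hs h1))))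
    · exact (commgS X (hQ.trans inf_le_left)).trans hXD
    · exact commg_subr.2 (hX.trans (commg_norml _ _))
    · exact (commgS X (hQ.trans inf_le_left)).trans (hXD.trans hZ)
  · have h3 : w3Q D T l ≤ ⁅D, ⟪s⟫⁆ := by
      rw [w3Q, h.gen hs hl.1 h1 hl.2 e, commGC, sup_comm, commg_sup_cent' (cents_norm
        (sub_abelian_cent2 h.ab (zpowers_le.2 hl.1) (zpowers_le.2 hs)))
        (centsC.1 (by rw [cent_cycle]; exact inf_le_right)), commGC]
      exact commSg _ inf_le_left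
    refine h3.trans (commG1P.1 (three_subgroup ?_ ?_))
    · rw [commG1P'.2 (by rw [cent_cycle]; exact inf_le_right : X ≤ 𝐂[⟪s⟫]), commutator_bot_left]
    · exact commG1P.2 (hXD.trans (hZ.trans (centS (zpowers_le.2 hs))))

theorem w3_aux (n : ℕ) : ∀ {G : Type u} [Group G] [Finite G] (D T : Subgroup G), Nat.card D = n →
    Klein T → T ≤ 𝐍[D] → Odd (Nat.card D) → ⁅D, T⁆ ⊓ 𝐂[T] ≤ w3J D T := by
  induction n using Nat.strong_induction_on with | _ n ih =>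
  intro G _ _ D T hc h hn ho
  subst hc
  have hsT : Group.IsSolvable T := abelian_sol h.ab
  by_cases hD : ⁅D, T⁆ = D
  swap
  · have hle : ⁅D, T⁆ ≤ D := commg_subl.2 hn
    have := ih _ (card_lt_of_lt (lt_of_le_of_ne hle hD)) ⁅D, T⁆ T rfl h (commg_normr _ _)
      (oddSg hle ho)
    rw [coprime_commGid hn (h.coprime ho)] at this
    exact this.trans (w3J_mono hle)
  rw [hD]
  by_contra hJ
  have hJle := h.J_le hn
  have key : ∀ F : Subgroup G, F ≠ ⊥ → F ⊴ D → T ≤ 𝐍[F] →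
      D ⊓ 𝐂[T] ≤ (F ⊓ 𝐂[T]) ⊔ w3J D T := fun F hb hF hT => by
    have hoF := oddSg hF.1 ho
    have := ih _ (ltn_quotient hb hF.1) (D ⁄ F) (T ⁄ F) rfl (h.quo hT hoF) (quotient_norms F hn)
      (quotient_odd F ho)
    rw [coprime_quo_commg_eq hF.2 hT hD] at this
    have h1 := (quotientSK (inf_le_left.trans hF.2) (hJle.trans (inf_le_left.trans hF.2))).1
      ((quotient_subcent D T F).trans (this.trans (h.J_quo hF hT hoF)))
    rw [← group_modr (hJle.trans (inf_le_left.trans hF.2)) (hJle.trans inf_le_right)]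
    exact le_inf h1 inf_le_right
  have key' : ∀ F : Subgroup G, F ≠ ⊥ → F ⊴ D → T ≤ 𝐍[F] → ¬ F ⊓ 𝐂[T] ≤ w3J D T :=
    fun F hb hF hT e => hJ ((key F hb hF hT).trans (sup_le e le_rfl))
  have hb : D ≠ ⊥ := fun e => hJ (e ▸ inf_le_left.trans bot_le)
  have hsol : Group.IsSolvable D := feit_thompson ho
  obtain ⟨p, F, hp, hE, hF, hFD⟩ := sol_exists_normal_abelem hsol hb (join_norms (normG D) hn)
  haveI := Fact.mk hp
  have hFn : F ⊴ D := ⟨hFD, le_sup_left.trans hF.norm⟩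
  have hT : T ≤ 𝐍[F] := le_sup_right.trans hF.norm
  have hZn : 𝐙[D] ⊴ D := center_normal D
  have hZT : 𝐙[D] ≤ 𝐂[T] := by
    by_contra e
    refine key' ⁅𝐙[D], T⁆ (mt commG1P.1 e) (sub_center_normal (commg_subl.2 (norms_center hn)))
      (commg_normr _ _) ?_
    rw [coprime_abel_cent_TI (norms_center hn) (h.coprime (oddSg inf_le_left ho)) (center_abelian D)]
    exact bot_le
  have hZJ : 𝐙[D] ⊓ w3J D T = ⊥ := by
    by_contra e
    exact key' _ e (sub_center_normal inf_le_left) (cents_norm (centsC.1 (inf_le_left.trans hZT)))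
      (inf_le_left.trans inf_le_right)
  have hFZ : F ≤ 𝐙[D] := by
    rcases hF.cents_or (join_norms (normG D) hn) hFn.2 with e | e
    · exact le_inf hFD (centsC.1 e)
    · exact absurd (h.w3_noncent hn ho hD hFn hT hE.1 e) (key' F hF.1 hFn hT)
  obtain ⟨R, hR, hTR⟩ := sol_coprime_Sylow_exists p (.inl hsol) hn (h.coprime ho)
  rcases hR.le.eq_or_lt with rfl | hlt
  · exact hb (h.w3_pgroup hn ho hD (pgroup_nil hR.pgroup) hZT hZJ)
  have h1 : D ⊓ 𝐂[T] ≤ ⁅D, D⁆ := by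
    have hT' : T ≤ 𝐍[⁅D, D⁆] := normsR hn hn
    have := coprime_abel_cent_TI (quotient_norms ⁅D, D⁆ hn) (coprime_quo2 _ (h.coprime ho))
      (der_abelian D)
    rw [coprime_quo_commg_eq (der_norm D) hT' hD] at this
    exact (quotient_sub1 (inf_le_left.trans (der_norm D))).1
      (eq_bot_iff.2 (this ▸ quotient_subcent D T _))
  have h2 : F ≤ ⁅R, R⁆ := le_trans (le_inf (le_inf ((le_inf hFD (hFZ.trans hZT)).trans h1) hFZ)
    (hR.le_of_normal (abelem_pgroup hE) hFn)) (der_center_syl_le hR)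
  have hoR := oddSg hR.le ho
  have h3 := (ih _ (card_lt_of_lt hlt) R T rfl h hTR hoR).trans (w3J_mono hR.le)
  have h4 : ⁅R ⊓ 𝐂[T], R ⊓ 𝐂[T]⁆ ≤ w3J D T := by
    refine (dergS ((inf_le_inf_right _ hR.le).trans (key F hF.1 hFn hT))).trans ?_
    rw [der_cprod (centsC.1 (inf_le_left.trans (hFZ.trans (inf_le_right.trans
      (centS (hJle.trans inf_le_left)))))), derG1P.2 (abelianS inf_le_left hE.1), bot_sup_eq]
    exact der_sub _
  have hN : R ⊓ 𝐂[T] ≤ 𝐍[⁅R, T⁆] := inf_le_left.trans (commg_norml _ _)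
  have h5 : ⁅R, R⁆ ≤ ⁅R, T⁆ ⊔ ⁅R ⊓ 𝐂[T], R ⊓ 𝐂[T]⁆ := by
    conv_lhs => rw [← coprime_cent_prod hTR (h.coprime hoR) (.inr hsT), der1_join]
    exact sup_le (sup_le_sup_right (der_sub _) _) ((commg_subl.2 hN).trans le_sup_left)
  refine key' F hF.1 hFn hT ((inf_le_inf_right _ (h2.trans h5)).trans ?_)
  rw [group_modr ((der_sub _).trans hN) ((der_sub _).trans inf_le_right)]
  exact sup_le h3 h4

/-- `C_{[D,T]}(T)` is generated by the `C_{[C_D(s),T]}(T)` -/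
theorem w3 [Finite G] (h : Klein T) (hn : T ≤ 𝐍[D]) (ho : Odd (Nat.card D))
    (hL : ∀ s ∈ T, s ≠ 1 → ⁅D ⊓ 𝐂₁[s], T⁆ ⊓ 𝐂[T] ≤ L) : ⁅D, T⁆ ⊓ 𝐂[T] ≤ L :=
  (w3_aux _ D T rfl h hn ho).trans (iSup₂_le fun s hs => hL s hs.1 hs.2)

end Cfsg.Gag
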