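import Cfsg.Agent.Gag.Two
import Cfsg.Agent.Gag.W3
import Cfsg.Agent.Gag.FinD8

/-!
# Gagola, piece Conj: one class of involutions
-/

set_option autoImplicit false

namespace Cfsg.Gag

open Subgroup Cfsg.FT Two Fin5
open scoped Pointwise

universe u

namespace Cj

variable {G : Type u} [Group G] [Finite G] {A : Subgroup G} {a b f x : G}

theorem klein_mem (h : Klein A) (ha : a ∈ A) (hb : b ∈ A) (h1 : a ≠ 1) (h2 : b ≠ 1) (h3 : a ≠ b)
    (hx : x ∈ A) : x = 1 ∨ x = a ∨ x = b ∨ x = b * a := by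
  rw [h.gen ha hb h1 h2 h3] at hx
  obtain ⟨k, hk, l, hl, rfl⟩ := (mem_join_norm (zpowers_le.2 (sub_abelian_norm h.ab
    (zpowers_le.2 hb) ha))).1 hx
  rcases cyc2 (h.2 b hb) hk with rfl | rfl <;> rcases cyc2 (h.2 a ha) hl with rfl | rfl <;> simp

theorem klein_conj (hG : commutator G = ⊤) (hA : Syl 2 A ⊤) (h : Klein A) (ha : a ∈ A) (hb : b ∈ A)
    (h1 : a ≠ 1) (h2 : b ≠ 1) : IsConj a b := by
  have h0 := abelian_Sylow_der1_TI_center hA h.ab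
  rw [← commutator_def, hG, inf_top_eq, top_inf_eq] at h0
  have key : ∀ a ∈ A, a ≠ 1 → ∃ c ∈ A, IsConj a c ∧ c ≠ 1 ∧ c ≠ a := fun a ha h1 => by
    by_contra! e
    refine h1 (mem_bot.1 (h0 ▸ mem_inf.2 ⟨ha, fun n hn => mul_inv_eq_iff_eq_mul.1
      (e _ ((memJ_norm hn).2 ha) (isConj_iff.2 ⟨n, rfl⟩) (by simpa using h1))⟩))
  by_cases h3 : a = b
  · exact h3 ▸ IsConj.refl a
  obtain ⟨c, hc, e, c1, c2⟩ := key a ha h1
  obtain ⟨d, hd, e', d1, d2⟩ := key b hb h2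
  rcases klein_mem h ha hb h1 h2 h3 hc with rfl | rfl | rfl | rfl
  · exact absurd rfl c1
  · exact absurd rfl c2
  · exact e
  rcases klein_mem h ha hb h1 h2 h3 hd with rfl | rfl | rfl | rfl
  · exact absurd rfl d1
  · exact e'.symm
  · exact absurd rfl d2
  · exact e.trans e'.symm

theorem d8_x (hG : commutator G = ⊤) (hA : Syl 2 A ⊤) (h : D8 A f x) : IsConj (f ^ 2) x := by
  have h1 := card_mul_relIndex (zpowers_le.2 (d8_fA h))
  rw [Nat.card_zpowers, h.of, h.card] at h1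
  have h2 : ∀ y ∈ ⟪f⟫, orderOf y = 2 → y = f ^ 2 := fun y hy e => by
    have h3 := Ohm1_cyclic_eq (cycle_cyclic f) (zpowers_le.2 hy) (by rw [Nat.card_zpowers, e])
    rw [Ohm1_cyclic_eq (cycle_cyclic f) (zpowers_le.2 (pow_mem (mem_zpowers f) 2))
      (by rw [Nat.card_zpowers, d8_oc h])] at h3
    exact (cyc2 (sq (f ^ 2) ▸ sq (f ^ 2) ▸ d8_f4 h) (h3 ▸ mem_zpowers y)).resolve_left
      fun e' => by simp [e'] at e
  obtain ⟨g, hg⟩ := thompson hA (M := ⟪f⟫) (by omega) (d8_xA h)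
    (fun e => d8_x_notin h (h2 x e h.ox ▸ mem_zpowers _)) (d8_xx h) (hG ▸ mem_top x)
  have e : IsConj x (g⁻¹ * x * g) := isConj_iff.2 ⟨g⁻¹, by simp⟩
  rw [← h2 _ hg (by rw [← h.ox]; simpa using (MulAut.conj g⁻¹).orderOf_eq x)]
  exact e.symm

theorem d8_T (hG : commutator G = ⊤) (hA : Syl 2 A ⊤) (h : D8 A f x) (ha : a ∈ ⟪f ^ 2⟫ ⊔ ⟪x⟫)
    (h1 : a ≠ 1) : IsConj (f ^ 2) a := by
  rcases d8_memT h ha with rfl | rfl | rfl | rfl
  · exact absurd rfl h1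
  · exact IsConj.refl _
  · exact d8_x hG hA h
  · exact (d8_x hG hA h).trans (isConj_iff.2 ⟨f, d8_fx h⟩)

end Cj

open Cj

theorem stConj : StConj.{u} := by
  intro G _ _ A hG hA h
  have key : ∀ s : G, orderOf s = 2 → ∃ a ∈ A, IsConj s a ∧ a ≠ 1 ∧ a * a = 1 := fun s hs => by
    obtain ⟨g, -, hg⟩ := Sylow_Jsub hA (le_top : ⟪s⟫ ≤ ⊤) (prime_pgroup (by rw [Nat.card_zpowers, hs]))
    refine ⟨_, hg (conj_mem_conj.2 (mem_zpowers s)), isConj_iff.2 ⟨g, rfl⟩, fun e => ?_, ?_⟩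
    · simp [show s = 1 by simpa using e] at hs
    · rw [conj_mul, ← sq, ← hs, pow_orderOf_eq_one, mul_one, mul_inv_cancel]
  refine ⟨fun s t hs ht => ?_, fun hK e => hK.ne_bot ?_⟩
  · obtain ⟨a, ha, e, a1, a2⟩ := key s hs
    obtain ⟨b, hb, e', b1, b2⟩ := key t ht
    refine e.trans (IsConj.trans ?_ e'.symm)
    rcases h with h | ⟨f, x, h⟩
    · exact klein_conj hG hA h ha hb a1 b1
    · have k : ∀ a ∈ A, a ≠ 1 → a * a = 1 → IsConj (f ^ 2) a := fun a ha a1 a2 =>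
        (d8_invol h ha a2).elim (d8_T hG hA h · a1) (d8_T hG hA (d8_swap h) · a1)
      exact (k a ha a1 a2).symm.trans (k b hb b1 b2)
  · have := abelian_Sylow_focal hA hK.ab
    rwa [← commutator_def, hG, inf_top_eq, top_inf_eq, commG1P'.2 e] at this

end Cfsg.Gag
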