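import Cfsg.Agent.Gag.Defs
import Cfsg.Agent.CT.FullyRam
import Cfsg.Agent.CT.GoodClasses

/-! # Nondegeneracy of the commutator pairing and fully ramified characters -/

set_option autoImplicit false

namespace Cfsg.Gag

open Subgroup Cfsg.FT

universe u

theorem uniq_over_central_iff {Γ : Type u} [Group Γ] [Finite Γ] {N : Subgroup Γ} [N.Normal]
    [Fintype N] (hN : N ≤ center Γ) (lam : N →* ℂˣ) :
    (∀ χ χ' : IrrCharacter Γ, classInner (fun n : N => χ.1 n) (fun n => (lam n : ℂ)) ≠ 0 →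
      classInner (fun n : N => χ'.1 n) (fun n => (lam n : ℂ)) ≠ 0 → χ = χ') ↔
    ∀ g : Γ, (∀ (x : Γ) (h : x * g * x⁻¹ * g⁻¹ ∈ N), lam ⟨_, h⟩ = 1) → g ∈ N := by
  have h1 := card_over_central_eq_card_good hN lam
  have h2 : ∀ (x : Γ) (h : x * 1 * x⁻¹ * 1⁻¹ ∈ N), lam ⟨_, h⟩ = 1 := fun x h => by
    rw [← map_one lam]
    congr 2
    simp
  constructor
  · intro h g hg
    have h3 : Subsingleton {χ : IrrCharacter Γ //
        classInner (fun n : N => χ.1 n) (fun n => (lam n : ℂ)) ≠ 0} :=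
      ⟨fun a b => Subtype.ext (h _ _ a.2 b.2)⟩
    have h4 := Finite.card_le_one_iff_subsingleton.2 h3
    rw [h1, Finite.card_le_one_iff_subsingleton] at h4
    have h5 := congrArg Subtype.val (@Subsingleton.elim _ h4 ⟨_, g, rfl, hg⟩ ⟨_, 1, rfl, h2⟩)
    exact (QuotientGroup.eq_one_iff g).1 (isConj_one_left.1
      (ConjClasses.mk_eq_mk_iff_isConj.1 h5))
  · intro h χ χ' hχ hχ'
    have h3 : Subsingleton {C : ConjClasses (Γ ⧸ N) // ∃ g : Γ, ConjClasses.mk (g : Γ ⧸ N) = C ∧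
        ∀ (x : Γ) (h : x * g * x⁻¹ * g⁻¹ ∈ N), lam ⟨_, h⟩ = 1} := ⟨by
      rintro ⟨_, a, rfl, ha⟩ ⟨_, b, rfl, hb⟩
      refine Subtype.ext (congrArg ConjClasses.mk ?_)
      rw [(QuotientGroup.eq_one_iff a).2 (h a ha), (QuotientGroup.eq_one_iff b).2 (h b hb)]⟩
    have h4 := Finite.card_le_one_iff_subsingleton.2 h3
    rw [← h1, Finite.card_le_one_iff_subsingleton] at h4
    exact congrArg Subtype.val (@Subsingleton.elim _ h4 ⟨χ, hχ⟩ ⟨χ', hχ'⟩)

variable {G : Type u} [Group G]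

namespace CExt

variable (X : CExt G)

/-- the central character as an irreducible character of the kernel -/
noncomputable def theta : IrrCharacter X.π.ker := IrrCharacter.ofHom X.lam

theorem ker_le_comap (U : Subgroup G) : X.π.ker ≤ U.comap X.π := fun z hz => by
  rw [mem_comap, MonoidHom.mem_ker.1 hz]; exact U.one_mem

theorem le_norm_ker (U : Subgroup X.E) : U ≤ normalizer (X.π.ker : Set X.E) := by
  rw [normalizer_eq_top]; exact le_top

theorem le_ezStab_theta (U : Subgroup X.E) : U ≤ ezStab X.theta := fun g _ =>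
  centralizer_le_ezStab _ fun z hz => (mem_center_iff.1 (X.cen hz) g).symm

theorem relIndex_ker_comap (U : Subgroup G) : X.π.ker.relIndex (U.comap X.π) = Nat.card U := by
  rw [relIndex_ker, map_comap_eq_self_of_surjective X.surj]

theorem commute_of_comm_mem {a b : X.E} (h : a * b * a⁻¹ * b⁻¹ ∈ X.π.ker) :
    Commute (X.π a) (X.π b) := by
  rw [MonoidHom.mem_ker] at h
  simp only [map_mul, map_inv, mul_inv_eq_iff_eq_mul, one_mul] at h
  exact h

theorem nd_iff_good (U : Subgroup G) : X.cp.ND U ↔ ∀ g : X.E, X.π g ∈ U →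
    (∀ x : X.E, X.π x ∈ U → ∀ h : x * g * x⁻¹ * g⁻¹ ∈ X.π.ker, X.lam ⟨_, h⟩ = 1) →
      g ∈ X.π.ker := by
  constructor
  · intro h g hg h1
    by_contra h2
    obtain ⟨y, hy, h3, h4⟩ := h _ hg h2
    obtain ⟨y, rfl⟩ := X.surj y
    exact h4 ((X.cp.symm_eq_one h3.symm).2 ((X.cp_β h3.symm).trans (h1 y hy _)))
  · intro h x hx h1
    obtain ⟨x, rfl⟩ := X.surj x
    by_contra! h2
    refine h1 (h x hx fun y hy h3 => ?_)
    have h4 := X.commute_of_comm_mem h3
    exact (X.cp_β h4).symm.trans ((X.cp.symm_eq_one h4.symm).2 (h2 _ hy h4.symm))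

theorem nd_top_iff [Fintype X.π.ker] : X.cp.ND ⊤ ↔ ∀ χ χ' : IrrCharacter X.E,
    classInner (fun n : X.π.ker => χ.1 n) (fun n => (X.lam n : ℂ)) ≠ 0 →
      classInner (fun n : X.π.ker => χ'.1 n) (fun n => (X.lam n : ℂ)) ≠ 0 → χ = χ' := by
  rw [uniq_over_central_iff X.cen, nd_iff_good]
  exact ⟨fun h g h1 => h g trivial fun x _ => h1 x, fun h g _ h1 => h g fun x => h1 x trivial⟩

theorem nd_iff (U : Subgroup G) : X.cp.ND U ↔ X.theta.UniqOver (U.comap X.π) := by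
  have := Fintype.ofFinite (X.π.ker.subgroupOf (U.comap X.π))
  have h1 := uniq_over_central_iff (N := X.π.ker.subgroupOf (U.comap X.π))
    (fun z hz => mem_center_iff.2 fun g => Subtype.ext (mem_center_iff.1 (X.cen hz) g))
    (X.lam.comp (subgroupOfEquivOfLe (X.ker_le_comap U)).toMonoidHom)
  rw [nd_iff_good, IrrCharacter.UniqOver]
  simp only [rmult_ne_zero_iff_subgroupOf (X.ker_le_comap U)]
  refine Iff.trans ?_ h1.symm
  exact ⟨fun h g h2 => h g g.2 fun x hx h3 => h2 ⟨x, hx⟩ h3,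
    fun h g hg h2 => h ⟨g, hg⟩ fun x h3 => h2 x x.2 h3⟩

theorem ND.isSquare {X : CExt G} {U : Subgroup G} (h : X.cp.ND U) : ∃ e, e ^ 2 = Nat.card U := by
  obtain ⟨ψ, hψ⟩ := exists_rmult_over (X.ker_le_comap U) X.theta
  exact ⟨_, (((X.nd_iff U).1 h).rmult_sq (X.ker_le_comap U) (X.le_norm_ker _)
    (X.le_ezStab_theta _) hψ).trans (X.relIndex_ker_comap U)⟩

end CExt

theorem stSylND : StSylND.{u} := by
  intro G _ _ X U P p hp h hP
  have := Fact.mk hp
  obtain ⟨k, hk⟩ := hP.pgroup.exists_card_eq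
  rw [X.nd_iff] at h ⊢
  refine h.sylow (p := p) (X.ker_le_comap P) (comap_mono hP.le) (X.le_norm_ker _)
    (X.le_ezStab_theta _) ((X.relIndex_ker_comap P).trans hk) ?_
  rw [relIndex_comap, map_comap_eq_self_of_surjective X.surj]
  exact hP.index

theorem stNDSyl : StNDSyl.{u} := by
  intro G _ _ X U h
  obtain ⟨χ, hχ⟩ := exists_rmult_over (X.ker_le_comap U) X.theta
  rw [X.nd_iff]
  refine IrrCharacter.uniqOver_of_le_rmult_sq (X.ker_le_comap U) (X.le_norm_ker _)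
    (X.le_ezStab_theta _) (ψ := χ) (Nat.le_of_dvd (pow_pos (Nat.pos_of_ne_zero hχ) 2) ?_)
  rw [X.relIndex_ker_comap, Nat.dvd_iff_prime_pow_dvd_dvd]
  intro p k hp hk
  have := Fact.mk hp
  obtain ⟨P, hP, h1⟩ := h p hp
  rw [X.nd_iff] at h1
  obtain ⟨ψ, hψ⟩ := exists_rmult_over (X.ker_le_comap P) X.theta
  have h2 := h1.rmult_sq (X.ker_le_comap P) (X.le_norm_ker _) (X.le_ezStab_theta _) hψ
  rw [X.relIndex_ker_comap, card_Syl hP] at h2
  refine ((pow_dvd_pow p ((hp.pow_dvd_iff_le_factorization Nat.card_pos.ne').1 hk)).trans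
    h2.symm.dvd).trans (pow_dvd_pow_of_dvd ?_ 2)
  rw [rmult_trans (X.ker_le_comap P) (comap_mono hP.le) χ]
  refine Finset.dvd_sum fun φ _ => ?_
  by_cases h3 : rmult φ X.theta = 0
  · rw [h3, mul_zero]; exact dvd_zero _
  · rw [h1 φ ψ h3 hψ]; exact Dvd.intro_left _ rfl

end Cfsg.Gag
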