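import Cfsg.Agent.Gag.Form
import Cfsg.Agent.S4593

/-!
# Gagola, piece WS: the case `O(C) = 1`
-/

set_option autoImplicit false

namespace Cfsg.Gag.WS

open Subgroup Cfsg.FT
open scoped Pointwise

universe u

variable {G : Type u} [Group G] {A C D K K' L M N V X Y : Subgroup G} {β : G → G → ℂˣ} {a g n : G}

theorem conj_le_ncl (hg : g ∈ C) : g •ᶜ V ≤ ncl V C := le_iSup₂_of_le g hg le_rfl

theorem le_ncl : V ≤ ncl V C := by simpa using conj_le_ncl (V := V) C.one_mem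

theorem norm_ncl : C ≤ 𝐍[ncl V C] := normsP''.2 fun g hg => by
  rw [ncl, conj_iSup]
  refine iSup_le fun x => ?_
  rw [conj_iSup]
  refine iSup_le fun hx => ?_
  rw [conj_conj]
  exact conj_le_ncl (C.mul_mem hg hx)

theorem ncl_normal (hV : V ≤ C) : ncl V C ⊴ C :=
  ⟨iSup₂_le fun _ hg => conj_le_of_mem hg hV, norm_ncl⟩

variable [Finite G]

theorem syl_ncl (hS : Syl 2 A C) : Syl 2 A (ncl A C) := hS.subl le_ncl (ncl_normal hS.le).le

theorem ncl_le_of_norm (hS : Syl 2 A C) (hA : A ≤ M) (hM : ncl A C ≤ 𝐍[M]) : ncl A C ≤ M :=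
  iSup₂_le fun g hg => by
    obtain ⟨x, hx, e⟩ := Sylow_trans (syl_ncl hS) ((sylJnorm (norm_ncl hg)).2 (syl_ncl hS))
    rw [e]
    exact conj_le_of_mem_norm (hM hx) hA

theorem comm_TI (hS : Syl 2 A C) (ha : IsMulCommutative A) (hN : N ≤ C ⊓ 𝐍[A]) :
    ⁅A, N⁆ ⊓ 𝐂[N] = ⊥ := by
  have h1 : ⁅A, N⁆ ≤ A := commg_subl.2 (hN.trans inf_le_right)
  have := abelian_Sylow_der1_TI_center (hS.subl le_sup_left (sup_le hS.le (hN.trans inf_le_left))) ha
  refine eq_bot_iff.2 (le_trans (le_inf (le_inf (inf_le_left.trans h1)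
    (inf_le_left.trans (commgSS le_sup_left le_sup_right))) ?_) this.le)
  exact centsS inf_le_left (centsY (inf_le_left.trans (h1.trans (abelian_iff.1 ha))) inf_le_right)

theorem le_comm_of_four (hS : Syl 2 A C) (ha : IsMulCommutative A) (hn : n ∈ C ⊓ 𝐍[A]) (hV : V ≤ A)
    (hnV : n ∈ 𝐍[V]) (h4 : Nat.card V = 4) (hc : n ∉ 𝐂[V]) : V ≤ ⁅A, ⟪n⟫⁆ := by
  have hW : V ⊓ ⁅A, ⟪n⟫⁆ ≠ ⊥ := fun e => hc (zpowers_le.1 (commG1P'.1 (eq_bot_iff.2
    (le_trans (le_inf (commg_subl.2 (zpowers_le.2 hnV)) (commSg _ hV)) e.le))))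
  have hd : Nat.card ↥(V ⊓ ⁅A, ⟪n⟫⁆) ∣ 2 ^ 2 := (card_dvd_of_le inf_le_left).trans h4.dvd
  obtain ⟨k, hk, e⟩ := (Nat.dvd_prime_pow Nat.prime_two).1 hd
  interval_cases k
  · exact absurd (card_eq_one.1 e) hW
  · have h2 : ⟪n⟫ ≤ 𝐂[V ⊓ ⁅A, ⟪n⟫⁆] := cents_prime_of_coprime (e ▸ Nat.prime_two)
      (normsI (zpowers_le.2 hnV) (commg_normr _ _)) (by rw [e]; simp)
    exact absurd (eq_bot_iff.2 (le_trans (le_inf inf_le_right (centsC.1 h2))
      (comm_TI hS ha (zpowers_le.2 hn)).le)) hW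
  · exact inf_eq_left.1 (card_eq_of_le inf_le_left (by rw [e, h4]; rfl))

theorem inner (hZ : K ⊓ 𝐂[K] = ⊥) (hO : core {2}ᶜ K = ⊥) (hV : Syl 2 V K) (hab : IsMulCommutative V)
    (ha : a ∈ 𝐍[K]) (h2 : PiElt {2} a) (hc : a ∈ 𝐂[V]) : ∃ v ∈ V, v⁻¹ * a ∈ 𝐂[K] := by
  obtain ⟨P, hP⟩ := hV.exists_sylow
  obtain ⟨j, hj⟩ := piElt_singleton.1 h2
  obtain ⟨k, hk⟩ := Cfsg.Agent.S4593.result (G := K) (eq_bot_iff.2 fun z hz => by
      have : (z : G) ∈ K ⊓ 𝐂[K] := ⟨z.2, fun y hy =>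
        congrArg Subtype.val (mem_center_iff.1 hz ⟨y, hy⟩)⟩
      rw [hZ] at this
      exact Subtype.ext this)
    ((map_eq_bot_iff_of_injective _ K.subtype_injective).1 ((core_compl_eq 2 K).symm.trans hO)) P
    (hP ▸ (abelian_subgroupOf hV.le).2 hab) (K.normalizerMonoidHom ⟨a, ha⟩)
    (by
      have : orderOf (K.normalizerMonoidHom ⟨a, ha⟩) ∣ 2 ^ j :=
        (orderOf_map_dvd _ _).trans (by rw [← hj, ← orderOf_coe])
      obtain ⟨i, -, e⟩ := (Nat.dvd_prime_pow Nat.prime_two).1 this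
      exact ⟨i, e⟩)
    (fun x hx => Subtype.ext (by
      rw [hP] at hx
      show a * x * a⁻¹ = x
      rw [← hc x.1 hx, mul_inv_cancel_right]))
  have hca : (k : G)⁻¹ * a ∈ 𝐂[K] := fun y hy => by
    have : a * y * a⁻¹ = k * y * (k : G)⁻¹ := congrArg Subtype.val (hk ⟨y, hy⟩)
    calc y * ((k : G)⁻¹ * a) = (k : G)⁻¹ * (k * y * (k : G)⁻¹) * a := by group
      _ = _ := by rw [← this]; group
  have hkc : (k : G) ∈ 𝐂[V] := by
    simpa using mul_mem hc (inv_mem (centS hV.le hca))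
  have hcm : Commute (k : G) ((k : G)⁻¹ * a) := hca _ k.2
  have hk2 : (k : G) ^ 2 ^ j = 1 := by
    have h1 := hcm.mul_pow (2 ^ j)
    rw [mul_inv_cancel_left, ← hj, pow_orderOf_eq_one, hj] at h1
    have : (k : G) ^ 2 ^ j ∈ K ⊓ 𝐂[K] :=
      mem_inf.2 ⟨pow_mem k.2 _, eq_inv_of_mul_eq_one_left h1.symm ▸ inv_mem (pow_mem hca _)⟩
    rwa [hZ] at this
  exact ⟨k, zpowers_le.1 (hV.le_of_norms' (piElt_singleton_iff_pgroup.1 (piElt_of_pow_eq_one
    (piNat_prime_pow Nat.prime_two (Set.mem_singleton 2) j) hk2)) (zpowers_le.2 k.2)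
    (zpowers_le.2 (cent_sub _ hkc))), hca⟩

/-- a non-abelian minimal normal subgroup of `ncl A C` -/
structure Cmp (A C K : Subgroup G) : Prop where
  le : K ≤ ncl A C
  min : MinNormalIn K (ncl A C)
  nab : ⁅K, K⁆ ≠ ⊥

omit [Finite G] in
theorem isComp_iff (hO : core {2}ᶜ C = ⊥) : IsComp A C K ↔ Cmp A C K := by
  rw [IsComp, hO, sup_bot_eq, le_bot_iff]
  exact ⟨fun h => ⟨h.2.1.le, ⟨fun e => h.2.2.1 (by simp [e]), h.2.1.norm,
    fun X h1 h2 => h.2.2.2 X bot_le h1 h2⟩, h.2.2.1⟩,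
    fun h => ⟨bot_le, ⟨h.le, h.min.norm⟩, h.nab, fun L _ h1 h2 => h.min.eq_or h1 h2⟩⟩

namespace Cmp

section
omit [Finite G]
variable (hK : Cmp A C K)
include hK

theorem normal : K ⊴ ncl A C := ⟨hK.le, hK.min.norm⟩

theorem der : ⁅K, K⁆ = K := hK.min.eq (der_sub K) hK.normal.der.norm hK.nab

theorem cen : K ⊓ 𝐂[K] = ⊥ := (hK.min.eq_or inf_le_left hK.normal.center.norm).resolve_right
  fun e => hK.nab (commG1P.2 (inf_eq_left.1 e))

theorem conj (hg : g ∈ C) : Cmp A C (g •ᶜ K) where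
  le := conj_le_of_mem_norm (norm_ncl hg) hK.le
  min := conj_eq_of_mem_norm (norm_ncl (V := A) hg) ▸ minNormalJ.2 hK.min
  nab := by rw [← conj_commutator]; exact conj_ne_bot.2 hK.nab

theorem TI (hK' : Cmp A C K') (hne : K ≠ K') : K ⊓ K' = ⊥ :=
  (hK.min.TI_or_le hK'.min.norm).resolve_right fun e =>
    hne (hK'.min.eq e hK.min.norm hK.min.ne_bot)

theorem cents (hK' : Cmp A C K') (hne : K ≠ K') : K ≤ 𝐂[K'] :=
  hK.normal.cents_of_TI hK'.normal (hK.TI hK' hne)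

end

variable (hK : Cmp A C K) (hS : Syl 2 A C)
include hK hS

theorem syl : Syl 2 (K ⊓ A) K := inf_comm A K ▸ Sylow_setI_normal hK.normal (syl_ncl hS)

variable (hO : core {2}ᶜ C = ⊥) (h : AF A β)
include hO h

theorem split : (K ⊓ A) ⊔ (A ⊓ 𝐂[K]) = A := by
  refine le_antisymm (sup_le inf_le_right inf_le_left) fun a ha => ?_
  obtain ⟨v, hv, hc⟩ := inner hK.cen (eq_bot_iff.2 ((hK.normal.core_le _).trans
    (((ncl_normal hS.le).core_le _).trans hO.le))) (hK.syl hS) (abelianS inf_le_right h.ab)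
    (hK.min.norm (le_ncl ha)) ((piSub_singleton.2 hS.pgroup).piElt ha)
    (sub_abelian_cent h.ab inf_le_right ha)
  rw [← mul_inv_cancel_left v a]
  exact mul_mem (mem_sup_left hv) (mem_sup_right (mem_inf.2 ⟨A.mul_mem (A.inv_mem hv.2) ha, hc⟩))

theorem ncl_le : ncl A C ≤ K ⊔ 𝐂[K] :=
  ncl_le_of_norm hS ((hK.split hS hO h).ge.trans (sup_le_sup inf_le_left inf_le_right))
    (normsY hK.min.norm (norms_cent hK.min.norm))

theorem simp (hL : L ⊴ K) : L = ⊥ ∨ L = K := hK.min.eq_or hL.le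
  ((hK.ncl_le hS hO h).trans (sup_le hL.norm (cents_norm (centS hL.le))))

theorem norm_le : K ⊓ 𝐍[K ⊓ A] ≤ 𝐍[A] := by
  have := normsY (A := K ⊓ 𝐍[K ⊓ A]) inf_le_right
    (cents_norm (centsC.1 ((inf_le_right (a := A)).trans (centS inf_le_left))))
  rwa [hK.split hS hO h] at this

omit hO in
theorem focal : K ⊓ A = ⁅K ⊓ A, K ⊓ 𝐍[K ⊓ A]⁆ := by
  rw [← abelian_Sylow_focal (hK.syl hS) (abelianS inf_le_right h.ab), hK.der,
    inf_eq_left.2 inf_le_left]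

theorem le_perp : A ⊓ 𝐂[K] ≤ h.perp (K ⊓ A) :=
  (inf_le_inf_left _ (centS inf_le_left)).trans ((h.cent_le_perp_comm (hK.norm_le hS hO h)).trans
    (h.perp_anti ((hK.focal hS h).le.trans (commSg _ inf_le_right))))

theorem nd : (K ⊓ A) ⊓ h.perp (K ⊓ A) = ⊥ := by
  have := h.perp_sup (U := K ⊓ A) (V := A ⊓ 𝐂[K]) inf_le_right inf_le_left
  rw [hK.split hS hO h, h.perp_top] at this
  exact eq_bot_iff.2 (le_trans (le_inf inf_le_right (inf_le_left.trans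
    ((h.le_perp_comm inf_le_right inf_le_left).2 (hK.le_perp hS hO h)))) this.ge)

theorem perp_eq : h.perp (K ⊓ A) = A ⊓ 𝐂[K] := by
  have := group_modr (K := K ⊓ A) (H := A ⊓ 𝐂[K])
    (inf_le_left.trans (sub_abelian_norm h.ab inf_le_right)) (hK.le_perp hS hO h)
  rwa [hK.split hS hO h, hK.nd hS hO h, bot_sup_eq, inf_eq_right.2 (h.perp_le _)] at this

end Cmp

/-- induction hypothesis -/
def IH (m : ℕ) : Prop := ∀ (L : Type u) [Group L] [Finite L] [IsSimpleGroup L],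
  Nat.card L ≤ m → ¬ IsMulCommutative L →
  ∀ (A : Subgroup L) (β : L → L → ℂˣ), Syl 2 A ⊤ → AF A β → Nat.card A = 4

theorem Cmp.card (hK : Cmp A C K) (hS : Syl 2 A C) (hO : core {2}ᶜ C = ⊥) (h : AF A β)
    (ih : IH.{u} (Nat.card C)) : Nat.card ↥(K ⊓ A) = 4 := by
  haveI : Nontrivial K := (nontrivial_iff_ne_bot K).2 hK.min.ne_bot
  haveI : IsSimpleGroup K := ⟨fun H hH => (hK.simp hS hO h (normalIn_map_subtype.2 hH)).imp
    (map_eq_bot_iff_of_injective _ K.subtype_injective).1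
    fun e => map_injective K.subtype_injective (e.trans (map_subtype_top K).symm)⟩
  rw [← Nat.card_congr (subgroupOfEquivOfLe (inf_le_left : K ⊓ A ≤ K)).toEquiv]
  refine ih K (card_le_of_le (hK.le.trans (ncl_normal hS.le).le)) (fun e => hK.nab (derG1P.2 e))
    _ (fun a b => β a b) (by simpa using (hK.syl hS).subgroupOf le_rfl)
    ⟨(abelian_subgroupOf inf_le_left).2 (abelianS inf_le_right h.ab),
      fun a ha b hb c hc => h.mul_left _ ha.2 _ hb.2 _ hc.2,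
      fun a ha b hb c hc => h.mul_right _ ha.2 _ hb.2 _ hc.2, fun a ha => h.alt _ ha.2,
      fun a ha h1 => ?_, fun n hn a ha b hb => h.inv _ (hK.norm_le hS hO h ⟨n.2, ?_⟩) _ ha.2 _ hb.2⟩
  · obtain ⟨b, hb, e⟩ := h.restrict_nd inf_le_right (hK.nd hS hO h) a ha
      fun e => h1 (Subtype.ext e)
    exact ⟨⟨b, hb.1⟩, hb, e⟩
  · rwa [norm_subgroupOf inf_le_left] at hn

theorem klein_of_nd (h : AF A β) (hV : V ≤ A) (hd : V ⊓ h.perp V = ⊥) (h4 : Nat.card V = 4) :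
    Klein V := ⟨h4, fun t ht => by
  have hd' : orderOf t ∣ 2 ^ 2 := (V.orderOf_dvd_natCard ht).trans h4.dvd
  obtain ⟨k, hk, e⟩ := (Nat.dvd_prime_pow Nat.prime_two).1 hd'
  rw [← sq, ← orderOf_dvd_iff_pow_eq_one, e]
  interval_cases k
  · simp
  · simp
  · have h1 : ⟪t⟫ = V := card_eq_of_le (zpowers_le.2 ht) (by rw [Nat.card_zpowers, e, h4]; rfl)
    have h2 : t ∈ V ⊓ h.perp V := ⟨ht, h1 ▸ (h.mem_perp_cycle (hV ht)).2 ⟨hV ht, h.alt t (hV ht)⟩⟩
    rw [hd, mem_bot] at h2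
    simp [h2] at e⟩

variable (hS : Syl 2 A C) (hO : core {2}ᶜ C = ⊥) (h : AF A β)
include hS hO h

theorem abelian_le (hM : M ⊴ ncl A C) (ha : IsMulCommutative M) : M ≤ A ⊓ 𝐂[ncl A C] := by
  have h1 := (nilpotent_pcoreC {2} (abelian_nil ha)).sup_eq
  rw [eq_bot_iff.2 ((hM.core_le _).trans (((ncl_normal hS.le).core_le _).trans hO.le)),
    sup_bot_eq] at h1
  have h2 : M ≤ A := (syl_ncl hS).le_of_normal (h1 ▸ pcore_pgroup' 2 M) hM
  exact le_inf h2 (centsC.1 (ncl_le_of_norm hS (sub_abelian_cent h.ab h2) (norms_cent hM.norm)))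

theorem nocomp (hD : D ⊴ ncl A C) (hn : ∀ K, Cmp A C K → ¬ K ≤ D) : D ≤ A ⊓ 𝐂[ncl A C] := by
  refine abelian_le hS hO h hD (derG1P.1 ?_)
  by_contra h1
  obtain ⟨M, hM, hl⟩ := minnormal_exists h1 hD.der.norm
  have h2 : M ≤ D := hl.trans (der_sub D)
  have h3 := abelian_le hS hO h ⟨h2.trans hD.le, hM.norm⟩
    (derG1P.1 (not_not.1 fun e => hn M ⟨h2.trans hD.le, hM, e⟩ h2))
  exact hM.ne_bot (eq_bot_iff.2 (le_trans (le_inf (le_inf (h3.trans inf_le_left)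
    (hl.trans (dergS hD.le))) (h3.trans (inf_le_right.trans (centS inf_le_left))))
    (abelian_Sylow_der1_TI_center (syl_ncl hS) h.ab).le))

theorem ncl_le_sup (hL : ∀ K, Cmp A C K → K ≤ L) : ncl A C ≤ A ⊔ L := by
  obtain ⟨D, ⟨hD, hl⟩, hm⟩ := exists_minimal_of_wellFoundedLT
    (fun D => D ⊴ ncl A C ∧ ncl A C ≤ D ⊔ L) ⟨_, normal_refl _, le_sup_left⟩
  refine hl.trans (sup_le_sup_right ((nocomp hS hO h hD fun K hK hKD => ?_).trans inf_le_left) L)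
  have h1 := group_modl (K := K) (H := 𝐂[K]) (cent_sub K) hKD
  rw [inf_eq_right.2 (hD.le.trans (hK.ncl_le hS hO h))] at h1
  have h2 := hm (y := 𝐂[K] ⊓ D) ⟨⟨inf_le_right.trans hD.le, normsI (norms_cent hK.min.norm) hD.norm⟩,
    hl.trans (sup_le (h1.le.trans (sup_le ((hL K hK).trans le_sup_right) le_sup_left))
      le_sup_right)⟩ inf_le_right
  exact hK.min.ne_bot (eq_bot_iff.2 ((le_inf le_rfl (hKD.trans (h2.trans inf_le_left))).trans hK.cen.le))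

theorem cent_comps (hY : Y ≤ ncl A C) (hc : ∀ K, Cmp A C K → Y ≤ 𝐂[K]) : Y ≤ A ⊓ 𝐂[ncl A C] :=
  le_trans (le_inf hY (le_iInf₂ hc)) (nocomp hS hO h (D := ncl A C ⊓ ⨅ (K) (_ : Cmp A C K), 𝐂[K])
    (norm_normalI (norms_iInf fun _ => norms_iInf fun hK => norms_cent hK.min.norm))
    fun K hK hl => hK.min.ne_bot (eq_bot_iff.2 ((le_inf le_rfl
      (hl.trans (inf_le_right.trans (iInf₂_le K hK)))).trans hK.cen.le)))

theorem odd_bot (hX : X ≤ C) (ho : Odd (Nat.card X)) (hA : A ≤ 𝐍[X])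
    (hc : ∀ K, Cmp A C K → X ≤ 𝐂[K]) : X = ⊥ := by
  have h2 : ¬ 2 ∣ Nat.card X := ho.not_two_dvd_nat
  have h1 : A ≤ 𝐂[X] := commG1P.1 (eq_bot_iff.2 (le_trans (le_inf ((cent_comps hS hO h
    ((commSg _ le_ncl).trans (commg_subl.2 (hX.trans norm_ncl)))
    fun K hK => (commg_subr.2 hA).trans (hc K hK)).trans inf_le_left) (commg_subr.2 hA))
    (coprime_TIg (coprime_pgroup hS.pgroup h2)).le))
  have h3 : X ≤ C ⊓ 𝐂[ncl A C] := le_inf hX (centsC.1 ((ncl_le_sup hS hO h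
    fun K hK => centsC.1 (hc K hK)).trans (sup_le h1 le_rfl)))
  have h4 : C ⊓ 𝐂[ncl A C] ⊴ C := subcent_normal' norm_ncl
  have h5 := pNil_iff_forall.1 (Burnside_normal_complement (Sylow_setI_normal h4 hS)
    (inf_le_left.trans (inf_le_right.trans (centS (inf_le_left.trans le_ncl)))))
  exact eq_bot_iff.2 fun x hx => hO.le (h4.core_le _ (h5 x (h3 hx) ((piSub_compl.2 h2).piElt hx)))

theorem wfacts0 (ih : IH.{u} (Nat.card C)) : WFacts h C := by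
  have hC := fun K => (isComp_iff (A := A) (K := K) hO).1
  have hnt : ∀ K, Cmp A C K → K ⊓ A ≠ ⊥ := fun K hK e => by simpa [e] using hK.card hS hO h ih
  have hΛ := ncl_normal hS.le
  refine ⟨fun K hK => klein_of_nd h inf_le_right ((hC K hK).nd hS hO h) ((hC K hK).card hS hO h ih),
    fun K hK => ?_, fun K hK => (hC K hK).nd hS hO h, fun K hK => ?_, fun K hK => ?_,
    fun X hX ho hA hc => ?_, fun L _ hL hN g hg => ?_, fun X hX ho hA K hK x hx => ?_,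
    fun K K' hK hK' hne => ?_, fun n hn h4 => ?_, fun K hK L _ hL => ?_⟩
  · replace hK := hC K hK
    obtain ⟨n, hn, hc⟩ := SetLike.not_le_iff_exists.1
      fun e : K ⊓ 𝐍[K ⊓ A] ≤ 𝐂[K ⊓ A] => hnt K hK ((hK.focal hS h).trans (commG1P'.2 e))
    have h1 := hK.norm_le hS hO h hn
    exact ⟨n, ⟨hn.1, h1⟩, le_antisymm (le_inf ((commgS _ (zpowers_le.2 hn.1)).trans
      (commg_subr.2 (le_ncl.trans hK.min.norm))) (commg_subl.2 (zpowers_le.2 h1)))
      (le_comm_of_four hS h.ab ⟨hΛ.le (hK.le hn.1), h1⟩ inf_le_right hn.2 (hK.card hS hO h ih) hc)⟩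
  · rw [(hC K hK).perp_eq hS hO h, commG1P.2 inf_le_right]
    exact bot_le
  · rw [hO, sup_bot_eq]
    exact (((hC K hK).simp hS hO h (ncl_normal inf_le_left)).resolve_left
      fun e => hnt K (hC K hK) (eq_bot_iff.2 (le_ncl.trans e.le))).symm
  · exact (odd_bot hS hO h hX ho hA fun K hK => commG1P.1 (eq_bot_iff.2
      ((hc K ((isComp_iff hO).2 hK)).trans hO.le))).le.trans bot_le
  · obtain ⟨n, hn, y, hy, rfl⟩ := (Frattini_arg hΛ (syl_ncl hS)).symm.exists_mul hg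
    obtain ⟨a, ha, k, hk, rfl⟩ := (mem_join_norm' (hS.le.trans hN)).1 (sup_comm A L ▸
      ncl_le_sup hS hO h (fun K hK => hL K ((isComp_iff hO).2 hK)) hy)
    exact ⟨n * a, mul_mem hn ⟨hS.le ha, normG A ha⟩, k, hk, (mul_assoc _ _ _).symm⟩
  · replace hK := hC K hK
    by_contra hne
    rw [← conj_eq_iff_mem_norm] at hne
    have hK' := hK.conj (hX hx)
    obtain ⟨v, hv, h1⟩ := exists_ne_one (hnt K hK)
    have h2 : PiElt {2} v := (piSub_singleton.2 hS.pgroup).piElt hv.2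
    have h3 : x * v * x⁻¹ ∈ x •ᶜ K := conj_mem_conj.2 hv.1
    have h4 : x * v * x⁻¹ * v⁻¹ = 1 := ((h2.conj x).mul h2.inv
      (hK'.cents hK hne h3 _ (K.inv_mem hv.1)).symm).eq_one
      ((piSub_compl.2 ho.not_two_dvd_nat).piElt (by
        simpa [mul_assoc] using X.mul_mem hx ((memJ_norm (hA hv.2)).2 (X.inv_mem hx))))
    rw [mul_inv_eq_one] at h4
    exact h1 (mem_bot.1 (hK'.TI hK hne ▸ mem_inf.2 ⟨h4 ▸ h3, hv.1⟩))
  · rw [(hC K' hK').perp_eq hS hO h]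
    exact le_inf inf_le_right (inf_le_left.trans ((hC K hK).cents (hC K' hK') hne))
  · by_contra hne
    have hn' : n ∈ C ⊓ 𝐍[A] := ⟨hΛ.le hn.1, hn.2⟩
    have h1 : ⁅A, ⟪n⟫⁆ ≤ A := commg_subl.2 (zpowers_le.2 hn.2)
    have h2 := cent_comps hS hO h (h1.trans le_ncl) fun K hK => by
      have : n ∈ 𝐂[K ⊓ A] := not_not.1 fun e => hne ⟨K, (isComp_iff hO).2 hK, card_eq_of_le
        (le_comm_of_four hS h.ab hn' inf_le_right (zpowers_le.1 (normsI (zpowers_le.2 (hK.min.norm hn.1)) (zpowers_le.2 hn.2)))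
          (hK.card hS hO h ih) e) (by rw [h4, hK.card hS hO h ih])⟩
      refine le_trans ((h.le_perp_comm h1 inf_le_right).2 (le_trans ?_
        (h.cent_le_perp_comm (zpowers_le.2 hn.2)))) ((hK.perp_eq hS hO h).le.trans inf_le_right)
      exact le_inf inf_le_right (centsC.1 (zpowers_le.2 this))
    have h3 := comm_TI hS h.ab (zpowers_le.2 hn')
    rw [inf_eq_left.2 (h2.trans (inf_le_right.trans (centS (zpowers_le.2 hn.1))))] at h3
    simp [h3] at h4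
  · rw [hO]
    exact (hC K hK).simp hS hO h hL

end Cfsg.Gag.WS
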