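import Cfsg.Agent.Gag.W3
import Cfsg.Agent.Gag.WS1
import Cfsg.Agent.Gag.M1A

/-!
# Gagola: assembly of the core statement
-/

set_option autoImplicit false
set_option linter.unusedSectionVars false

namespace Cfsg.Gag.Core

open Subgroup Cfsg.FT
open scoped Pointwise

universe u

variable {G : Type u} [Group G] [Finite G] {A H K L M P R S T U : Subgroup G} {a f x w : G} {p : ℕ}

theorem comp_of_min (hK : MinNormalIn K ⊤) (hS : MinNormalIn S K) (hSK : S ≤ K)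
    (nab : ¬ IsMulCommutative S) : Comp S := by
  have hKn : K ⊴ ⊤ := ⟨le_top, hK.norm⟩
  have hc : ∀ g : G, MinNormalIn (g •ᶜ S) K := fun g => by
    have := (minNormalJ (g := g)).2 hS
    rwa [hKn.conj_eq (mem_top g)] at this
  have hTI : ∀ g : G, g ∉ 𝐍[S] → g •ᶜ S ⊓ S = ⊥ := fun g hg =>
    ((hc g).TI_or_le hS.norm).resolve_right fun e => hg (mem_norm_of_conj_le e)
  have hcent : ∀ g : G, g ∉ 𝐍[S] → g •ᶜ S ≤ 𝐂[S] := fun g hg =>
    NormalIn.cents_of_TI ⟨conj_le_of_mem_norm (hK.norm (mem_top g)) hSK, (hc g).norm⟩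
      ⟨hSK, hS.norm⟩ (hTI g hg)
  have hgen : ncl S ⊤ = K := hK.eq (iSup₂_le fun g hg => conj_le_of_mem_norm (hK.norm hg) hSK)
    WS.norm_ncl fun e => hS.ne_bot (eq_bot_iff.2 (WS.le_ncl.trans e.le))
  haveI : Nontrivial S := (nontrivial_iff_ne_bot S).2 hS.ne_bot
  refine ⟨⟨fun L hL => ?_⟩, nab, fun g s hs h1 h2 => ?_, hcent, fun p hp P hP => ?_⟩
  · have h1 := normalIn_map_subtype.2 hL
    have h2 : K ≤ 𝐍[L.map S.subtype] := hgen.ge.trans (iSup₂_le fun g _ => by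
      by_cases hg : g ∈ 𝐍[S]
      · exact (conj_eq_of_mem_norm hg).le.trans h1.norm
      · exact cents_norm (centsS h1.le (hcent g hg)))
    exact (hS.eq_or h1.le h2).imp (map_eq_bot_iff_of_injective _ S.subtype_injective).1
      fun e => map_injective S.subtype_injective (e.trans (map_subtype_top S).symm)
  · by_contra hg
    have h3 : g * s * g⁻¹ ∈ g •ᶜ S ⊓ S := ⟨conj_mem_conj.2 hs, h2⟩
    rw [hTI g hg, mem_bot] at h3
    exact h1 (by simpa using h3)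
  · haveI := Fact.mk hp
    have := Sylow_setI_normal ⟨hSK, hS.norm⟩ (Sylow_setI_normal hKn hP)
    rwa [inf_assoc, inf_eq_right.2 hSK] at this

theorem exists_comp [Nontrivial G]
    (hn : ∀ N : Subgroup G, N.Normal → N ≠ ⊥ → ¬ IsMulCommutative N) : ∃ S : Subgroup G, Comp S := by
  obtain ⟨K, hK, -⟩ := minnormal_exists (U := (⊤ : Subgroup G)) (A := ⊤) top_ne_bot (normG _)
  obtain ⟨S, hS, hSK⟩ := minnormal_exists hK.ne_bot (normG K)
  have hKn : K ⊴ ⊤ := ⟨le_top, hK.norm⟩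
  refine ⟨S, comp_of_min hK hS hSK fun ha => hn K (normalIn_top.1 hKn) hK.ne_bot (hK.abelian ?_)⟩
  have h1 : S ≤ fit K := Fitting_max ⟨hSK, hS.norm⟩ (abelian_nil ha)
  have h2 : fit K = K := hK.eq (Fitting_sub K) hKn.fit.norm fun e =>
    hS.ne_bot (eq_bot_iff.2 (h1.trans e.le))
  exact solvableS h2.ge (nilpotent_sol (Fitting_nil K))

theorem comp_normal (h : Comp S) (hL : L ⊴ S) : L = ⊥ ∨ L = S := by
  haveI := h.simple
  exact hL.normal.eq_bot_or_eq_top.imp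
    (fun e => eq_bot_iff.2 (disjoint_self.1 ((subgroupOf_eq_bot.1 e).mono_right hL.le) ▸ le_rfl))
    fun e => hL.le.antisymm (subgroupOf_eq_top.1 e)

theorem comp_der (h : Comp S) : ⁅S, S⁆ = S :=
  (comp_normal h (der_normal S)).resolve_left (mt derG1P.1 h.nab)

theorem comp_center (h : Comp S) : S ⊓ 𝐂[S] = ⊥ :=
  (comp_normal h (center_normal S)).resolve_right (mt center_eq_iff.1 h.nab)

theorem der_le_ker (X : CP G) (hL : L ≤ 𝐂₁[a]) : ⁅L, L⁆ ≤ X.ker a := commg_le_iff.2 fun x hx y hy =>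
  ⟨⟨x, hL hx⟩ * ⟨y, hL hy⟩ * ⟨x, hL hx⟩⁻¹ * ⟨y, hL hy⟩⁻¹, by
    simp only [SetLike.mem_coe, MonoidHom.mem_ker, map_mul, map_inv]
    rw [mul_right_comm (X.psi a _), mul_inv_cancel, one_mul, mul_inv_cancel], rfl⟩

theorem sol_of_cyclic (hP : Syl 2 P H) (hc : IsCyclic P) : Group.IsSolvable H := by
  haveI := Fact.mk Nat.prime_two
  exact sol_of_quo (feit_thompson (Nat.odd_iff.2 (Nat.two_dvd_ne_zero.1 (p'core_not_dvd 2 H))))
    (pcore_normal _ H).norm (pgroup_sol (cyclic_Sylow_pNil hP hc (by simp)).quo_pgroup)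

/-- the primes at which `S` is not of central type -/
def bad (X : CP G) (S : Subgroup G) : Set ℕ := {p | ∃ P, Syl p P ⊤ ∧ ¬ X.ND (P ⊓ S)}

theorem bad_card (hR : StR.{u}) {X : CP G} (hX : Hyp X) (hS : Comp S) (hp : p.Prime)
    (hb : p ∈ bad X S) (hP : Syl p P ⊤) : Nat.card P = p ^ 4 ∧ Nat.card ↥(P ⊓ S) = p ^ 3 := by
  haveI := Fact.mk hp
  obtain ⟨P', h1, h2⟩ := hb
  obtain ⟨-, h3, h4⟩ := (hR G X S P' p hX hS hp h1).2 h2
  exact ⟨(hP.card_eq h1).trans h3, ((hS.syl p hp P hP).card_eq (hS.syl p hp P' h1)).trans h4⟩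

theorem cent_pi (hR : StR.{u}) {X : CP G} (hX : Hyp X) (hS : Comp S) : PiSub (bad X S)ᶜ 𝐂[S] := by
  intro p hp hd hb
  haveI := Fact.mk hp
  obtain ⟨z, hz, ho⟩ : ∃ z ∈ 𝐂[S], orderOf z = p := by
    obtain ⟨z, hz⟩ := exists_prime_orderOf_dvd_card' p hd
    exact ⟨z, z.2, by rw [orderOf_coe, hz]⟩
  have h1 : z ≠ 1 := fun e => hp.one_lt.ne (by rw [← ho, e, orderOf_one])
  obtain ⟨P, hP, hzP⟩ := Sylow_superset (le_top (a := ⟪z⟫))
    (IsPGroup.of_card (n := 1) (by rw [Nat.card_zpowers, ho, pow_one]))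
  obtain ⟨h3, h4⟩ := bad_card hR hX hS hp hb hP
  have hle : (P ⊓ S) ⊔ ⟪z⟫ ≤ P := sup_le inf_le_left hzP
  have h5 := card_mul_le_of_lt (hP.pgroup.to_le hle) (left_lt_sup.2 fun e =>
    h1 (mem_bot.1 (comp_center hS ▸ ⟨(zpowers_le.1 e).2, hz⟩)))
  have h6 : P ≤ X.ker z := (card_eq_of_le hle (by rwa [h4, ← pow_succ, ← h3] at h5)).ge.trans
    (sup_le (inf_le_right.trans ((comp_der hS).ge.trans (der_le_ker X (le_cent1.2 hz))))
      (zpowers_le.2 (X.mem_ker.2 ⟨Commute.refl z, X.alt z⟩)))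
  obtain ⟨y, hy, -, h7⟩ := hX.syl p hp P hP z (zpowers_le.1 hzP) h1
  exact h7 (X.mem_ker.1 (h6 hy)).2

theorem exists_over (hR : StR.{u}) {X : CP G} (hX : Hyp X) (hS : Comp S)
    (hs : S.Normal → Group.IsSolvable (⊤ ⁄ (S ⊔ 𝐂[S]))) :
    ∃ U, S ⊴ U ∧ PiNat (bad X S) (S.relIndex U) ∧ PiNat (bad X S)ᶜ (U.relIndex ⊤) := by
  by_cases hb : ∃ p, p.Prime ∧ p ∈ bad X S
  swap
  · exact ⟨S, normal_refl S, by simpa using piNat_one _, fun p hp _ h => hb ⟨p, hp, h⟩⟩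
  obtain ⟨p, hp, P, hP, hb⟩ := hb
  have hn := ((hR G X S P p hX hS hp hP).2 hb).1
  have hSn : ∀ L : Subgroup G, L ≤ 𝐍[S] := fun L => le_normalizer_of_normal
  have hM : S ⊔ 𝐂[S] ⊴ ⊤ := ⟨le_top, normsY (hSn _) (norms_cent (hSn _))⟩
  obtain ⟨Y, hY⟩ := Hall_exists (bad X S) (hs hn)
  have h1 : Hall (bad X S)ᶜ ((S ⊔ 𝐂[S]) ⁄ S) (pre _ Y ⁄ S) := by
    refine Hall.mk' (quotientS S (sub_cosetpre Y)) ?_ ?_
    · rw [quotientYidl (hSn _)]; exact (cent_pi hR hX hS).quo S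
    · rw [relIndex_quo_of_le le_sup_left (hSn _), relIndex_pre, compl_compl]; exact hY.pi
  obtain ⟨Z, -, hZ⟩ := h1.exists_sdprod ((normal_cosetpre Y).quo S)
  rw [compl_compl] at hZ
  have h2 : pre S Z ≤ pre _ Y := (sub_cosetpre_quo (le_sup_left.trans (sub_cosetpre Y))).2 hZ.le
  refine ⟨pre S Z, normal_cosetpre Z, by rw [relIndex_pre]; exact hZ.pi, ?_⟩
  rw [← relIndex_mul_relIndex _ _ _ h2 le_top, relIndex_pre_left _ (hSn _),
    relIndex_pre_left _ hM.norm]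
  exact hZ.index.mul hY.index

theorem nd_sub (X : CExt G) (hP : P ≤ U) (h : X.cp.ND P) : (X.sub U).cp.ND (P.subgroupOf U) :=
  fun x hx h1 =>
    let ⟨y, hy, h2, h3⟩ := h x hx fun e => h1 (Subtype.ext e)
    have h4 : Commute x ⟨y, hP hy⟩ := Subtype.ext h2
    ⟨⟨y, hP hy⟩, hy, h4, by rw [X.sub_β U h4]; exact h3⟩

theorem noGood_of_sub (X : CExt G) (hT : T ≤ U) (h : NoGood (X.sub U).cp ⊤ (T.subgroupOf U)) :
    NoGood X.cp U T := fun y hy hc ho => by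
  obtain ⟨m, hm, h1, h2⟩ := h ⟨y, hy.1⟩ ⟨mem_top _, by rw [norm_subgroupOf hT]; exact hy.2⟩
    (by rw [cent_subgroupOf hT]; exact hc) (by rwa [← orderOf_coe])
  rw [norm_subgroupOf hT] at hm
  exact ⟨m, ⟨m.2, hm.2⟩, h1.map U.subtype, by rwa [X.sub_β U h1] at h2⟩

theorem klein_sub (h : Klein T) (hT : T ≤ U) : Klein (T.subgroupOf U) :=
  ⟨(Nat.card_congr (subgroupOfEquivOfLe hT).toEquiv).trans h.1, fun t ht => Subtype.ext (h.2 t ht)⟩

theorem sup_zpowers_sub (a b : U) : (⟪(a : G)⟫ ⊔ ⟪(b : G)⟫).subgroupOf U = ⟪a⟫ ⊔ ⟪b⟫ :=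
  (eq_subgroupOf_of_map (by rw [Subgroup.map_sup, MonoidHom.map_zpowers, MonoidHom.map_zpowers]; rfl)).symm

theorem d8_f (h : D8 A f x) : f ∈ A := h.gen ▸ mem_sup_left (mem_zpowers f)

theorem d8_x (h : D8 A f x) : x ∈ A := h.gen ▸ mem_sup_right (mem_zpowers x)

theorem d8_sub (h : D8 A f x) (hA : A ≤ U) :
    D8 (A.subgroupOf U) ⟨f, hA (d8_f h)⟩ ⟨x, hA (d8_x h)⟩ :=
  ⟨by rw [← orderOf_coe]; exact h.of, by rw [← orderOf_coe]; exact h.ox, Subtype.ext h.inv,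
    by rw [← sup_zpowers_sub, ← h.gen],
    (Nat.card_congr (subgroupOfEquivOfLe hA).toEquiv).trans h.card⟩

theorem d8_swap (h : D8 A f x) : D8 A f (x * f) := by
  haveI := Fact.mk Nat.prime_two
  have h1 : x * x = 1 := by rw [← pow_two, ← h.ox, pow_orderOf_eq_one]
  refine ⟨h.of, orderOf_eq_prime ?_ fun e => ?_, by rw [← h.inv]; group, ?_, h.card⟩
  · have := h.inv
    rw [inv_eq_of_mul_eq_one_right h1] at this
    rw [pow_two, ← mul_assoc, this, inv_mul_cancel]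
  · have := h.ox
    rw [eq_inv_of_mul_eq_one_left e, orderOf_inv, h.of] at this
    omega
  · refine le_antisymm (h.gen.le.trans (sup_le le_sup_left (zpowers_le.2 ?_)))
      (sup_le (zpowers_le.2 (d8_f h)) (zpowers_le.2 (A.mul_mem (d8_x h) (d8_f h))))
    simpa using mul_mem (mem_sup_right (mem_zpowers (x * f))) (inv_mem (mem_sup_left (mem_zpowers f)))

theorem conj_sub (hC : StConj.{u}) (hS : ⁅S, S⁆ = S) (hA : Syl 2 A S)
    (h : Klein A ∨ ∃ f x : G, D8 A f x) :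
    (∀ s ∈ S, ∀ t ∈ S, orderOf s = 2 → orderOf t = 2 → ∃ g ∈ S, g * s * g⁻¹ = t) ∧
      (Klein A → ¬ 𝐍[A] ≤ 𝐂[A]) := by
  haveI := Fact.mk Nat.prime_two
  obtain ⟨h1, h2⟩ := hC S (A.subgroupOf S) (map_injective S.subtype_injective
    (by rw [Subgroup.map_subtype_commutator, map_subtype_top, hS]))
    (by simpa using hA.subgroupOf le_rfl)
    (h.imp (klein_sub · hA.le) fun ⟨f, x, h⟩ => ⟨_, _, d8_sub h hA.le⟩)
  refine ⟨fun s hs t ht os ot => ?_, fun hK e => h2 (klein_sub hK hA.le) ?_⟩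
  · obtain ⟨g, hg⟩ := isConj_iff.1 (h1 ⟨s, hs⟩ ⟨t, ht⟩ (by rwa [← orderOf_coe]) (by rwa [← orderOf_coe]))
    exact ⟨g, g.2, congrArg Subtype.val hg⟩
  · rw [norm_subgroupOf hA.le, cent_subgroupOf hA.le]
    exact comap_mono e

theorem pgroup_le [Fact p.Prime] (hS : S ⊴ U) (hi : ¬ p ∣ S.relIndex U) (hP : IsPGroup p P)
    (hU : P ≤ U) : P ≤ S := by
  obtain ⟨R, hR, hl⟩ := Sylow_superset hU hP
  exact hl.trans (inf_eq_left.1 (((Sylow_setI_normal hS hR).trans_index hS.le hi).eq_of_le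
    hR.pgroup inf_le_left hR.le).symm)

theorem inv_mem_of_odd (hS : S ⊴ U) (hi : ¬ 2 ∣ S.relIndex U) (ha : a ∈ U) (ho : orderOf a = 2) :
    a ∈ S :=
  haveI := Fact.mk Nat.prime_two
  zpowers_le.1 (pgroup_le hS hi
    (IsPGroup.of_card (n := 1) (by rw [Nat.card_zpowers, ho, pow_one])) (zpowers_le.2 ha))

theorem coreK (hC : StConj.{u}) (hK : StCharK.{u}) (hF : StFinK.{u}) (X : CExt G) (hn : S ⊴ ⊤)
    (hS : ⁅S, S⁆ = S) (hX : X.cp.ND ⊤) (hi : ¬ 2 ∣ S.relIndex ⊤) (hT : Syl 2 T S) (hk : Klein T)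
    (h3 : ∀ R, Syl 3 R ⊤ → R ≤ S ∧ IsMulCommutative R ∧ X.cp.ND R) : False := by
  haveI := Fact.mk Nat.prime_two
  haveI := Fact.mk Nat.prime_three
  obtain ⟨h1, h2⟩ := conj_sub hC hS hT (.inl hk)
  have hT' := hT.trans_index le_top hi
  refine hF G X.cp T hT' hk (h2 hk) (fun R hR => ?_) (hK G X T (fun y hy _ => ?_) hT' hk
    fun s t os ot => ?_)
  · obtain ⟨h4, h5, h6⟩ := h3 R hR
    have h7 := abelian_Sylow_der1_TI_center (hR.subl h4 le_top) h5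
    rw [hS, inf_eq_left.2 h4] at h7
    exact ⟨h5, h6, eq_bot_iff.2 ((inf_le_inf_left _ (centS inf_le_right)).trans h7.le)⟩
  · obtain ⟨m, -, h⟩ := hX y (mem_top y) hy
    exact ⟨m, h⟩
  · obtain ⟨g, -, e⟩ := h1 s (inv_mem_of_odd hn hi (mem_top s) os) t
      (inv_mem_of_odd hn hi (mem_top t) ot) os ot
    exact isConj_iff.2 ⟨g, e⟩

theorem coreD (hC : StConj.{u}) (hD : StCharD.{u}) (hF : StFinD.{u}) (X : CExt G) (hn : S ⊴ ⊤)
    (hS : ⁅S, S⁆ = S) (hX : X.cp.ND ⊤) (hA : Syl 2 A S) (hd : D8 A f x) (hw : w ∉ S)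
    (hw2 : w * w = 1) (hwA : w ∈ 𝐂[A]) (hP : Syl 2 (A ⊔ ⟪w⟫) ⊤) (hnd : X.cp.ND (A ⊔ ⟪w⟫))
    (h3 : ∀ R, Syl 3 R ⊤ → IsMulCommutative R ∧ X.cp.ND R) : False := by
  haveI := Fact.mk Nat.prime_two
  have hSn : ∀ L : Subgroup G, L ≤ 𝐍[S] := fun L => le_top.trans hn.norm
  have ho : orderOf w = 2 := orderOf_eq_prime (by rw [pow_two, hw2]) fun e => hw (e ▸ S.one_mem)
  have h1 := hP.quo (hSn _)
  have hw' : coset S w ≠ 1 := fun e => hw (coset_idr (hSn ⊤ (mem_top w)) e)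
  rw [quotientY (hSn _) (hSn _), quotientS1 hA.le, bot_sup_eq,
    quotient_cycle (hSn ⊤ (mem_top w))] at h1
  obtain ⟨Y, hY⟩ := Hall_exists {2}ᶜ (sol_of_cyclic h1 (cycle_cyclic _))
  have h2 : (pre S Y).index = 2 := by
    rw [← relIndex_top_right, relIndex_pre_left _ (hSn _), hY.relIndex_eq, compl_compl,
      ← card_Hall h1.hall, Nat.card_zpowers]
    exact orderOf_eq_prime (by rw [← coset_pow (hSn ⊤ (mem_top w)), pow_two, hw2, coset_one]) hw'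
  have h4 : ¬ 2 ∣ S.relIndex (pre S Y) := by rw [relIndex_pre]; exact piSub_compl.1 hY.pi
  have h5 := normal_cosetpre Y
  generalize pre S Y = Γ at h2 h4 h5
  have hA' := hA.trans_index h5.le h4
  obtain ⟨h6, -⟩ := conj_sub hC hS hA (.inr ⟨f, x, hd⟩)
  have h7 : ∀ s ∈ Γ, ∀ t ∈ Γ, orderOf s = 2 → orderOf t = 2 → ∃ g ∈ Γ, g * s * g⁻¹ = t :=
    fun s hs t ht os ot =>
      let ⟨g, hg, e⟩ := h6 s (inv_mem_of_odd h5 h4 hs os) t (inv_mem_of_odd h5 h4 ht ot) os ot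
      ⟨g, h5.le hg, e⟩
  have key : ∀ y, D8 A f y → NoGood X.cp Γ (⟪f ^ 2⟫ ⊔ ⟪y⟫) := fun y hy => by
    refine noGood_of_sub X (sup_le (zpowers_le.2 (hA'.le (A.pow_mem (d8_f hy) 2)))
      (zpowers_le.2 (hA'.le (d8_x hy)))) ?_
    have := hD Γ (X.sub Γ) _ _ _ (fun z hz oz => ?_) (by simpa using hA'.subgroupOf le_rfl)
      (d8_sub hy hA'.le) fun s t os ot => ?_
    · rwa [← sup_zpowers_sub] at this
    · obtain ⟨m, -, h8, h9⟩ := hX z (mem_top _) fun e => hz (Subtype.ext e)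
      have h10 : Commute z ⟨m ^ 2, Γ.sq_mem_of_index_two h2 m⟩ := Subtype.ext (h8.pow_right 2)
      refine ⟨_, h10, ?_⟩
      rw [X.sub_β Γ h10, X.cp.pow_right h8]
      intro e
      have h11 := X.cp.pow_eq_one_of_left h8 (pow_orderOf_eq_one (z : G))
      rw [orderOf_coe] at h11
      exact h9 (orderOf_eq_one_iff.1 (Nat.eq_one_of_dvd_coprimes oz.coprime_two_right
        (orderOf_dvd_of_pow_eq_one h11) (orderOf_dvd_of_pow_eq_one e)))
    · obtain ⟨g, hg, e⟩ := h7 s s.2 t t.2 (by rwa [orderOf_coe]) (by rwa [orderOf_coe])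
      exact isConj_iff.2 ⟨⟨g, hg⟩, Subtype.ext e⟩
  exact hF G X.cp Γ A f x w h2 hA' hd (fun e => hw (inv_mem_of_odd h5 h4 e ho)) hw2 hwA hnd h7 h3
    (key x hd) (key _ (d8_swap hd))

theorem stCore_of (hR : StR.{u}) (h2 : StTwo.{u}) (hC : StConj.{u}) (h3 : StThree.{u})
    (hCK : StCharK.{u}) (hCD : StCharD.{u}) (hFK : StFinK.{u}) (hFD : StFinD.{u}) :
    StCore.{u} := by
  intro G _ _ _ X hX
  haveI := Fact.mk Nat.prime_two
  haveI := Fact.mk Nat.prime_three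
  by_contra hn
  obtain ⟨S, hS⟩ := exists_comp fun N h1 h2 h3 => hn ⟨N, h1, h2, h3⟩
  obtain ⟨P, hP⟩ := Sylow_exists 2 (⊤ : Subgroup G)
  have hA := hS.syl 2 Nat.prime_two P hP
  have hT := h2 G X.cp S P hX hS hP
  have hT' : Klein (P ⊓ S) ∨ ∃ f x, D8 (P ⊓ S) f x := hT.imp id fun ⟨f, x, _, h, _⟩ => ⟨f, x, h⟩
  obtain ⟨U, hU, h4, h5⟩ := exists_over hR hX hS fun hn => by
    have hSn : ∀ L : Subgroup G, L ≤ 𝐍[S] := fun L => le_normalizer_of_normal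
    have hM : ∀ L : Subgroup G, L ≤ 𝐍[S ⊔ 𝐂[S]] := fun L => normsY (hSn _) (norms_cent (hSn _))
    refine sol_of_cyclic (hP.quo (hM P)) ?_
    rcases hT with hk | ⟨f, x, w, -, -, -, -, e⟩
    · have h6 : 𝐂[P ⊓ S] ⊓ P ≤ S ⊔ 𝐂[S] := fun a ha => by
        obtain ⟨v, hv, h7⟩ := WS.inner (comp_center hS) ((comp_normal hS (pcore_normal _ S)).resolve_right
          fun e => p'core_not_dvd 2 S (by
            rw [e]; exact (show 2 ∣ _ by rw [hk.1]; norm_num).trans (card_dvd_of_le hA.le)))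
          hA hk.ab (hSn ⊤ (mem_top a)) (PiSub.piElt (piSub_singleton.2 hP.pgroup) ha.2) ha.1
        simpa using mul_mem (mem_sup_left hv.2) (mem_sup_right h7)
      refine isCyclic_of_card_dvd_prime (p := 2) ?_
      rw [card_quotient (hM P)]
      refine (indexgS P h6).trans ?_
      rw [inf_relIndex_right]
      exact index_cent_p2group_dvd hP.pgroup (normsI (normG P) (hSn P)) hk.pgroup hk.1.le
    · exact cyclicS (quotientS _ (e.le.trans (sup_le_sup_right (inf_le_right.trans le_sup_left) _)))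
        (cyclic_quo_join_cycle (hM ⊤ (mem_top w)))
  have hnd : X.cp.ND U := stNDSyl G X U fun p hp => by
    haveI := Fact.mk hp
    by_cases hb : p ∈ bad X.cp S
    · obtain ⟨Q, hQ⟩ := Sylow_exists p U
      exact ⟨Q, hQ, hX.syl p hp Q (hQ.trans_index le_top (h5.not_dvd hp fun h => h hb))⟩
    · obtain ⟨Q, hQ⟩ := Sylow_exists p (⊤ : Subgroup G)
      exact ⟨Q ⊓ S, (hS.syl p hp Q hQ).trans_index hU.le (h4.not_dvd hp hb),
        by_contra fun h => hb ⟨Q, hQ, h⟩⟩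
  have h6 : ∀ Q, Syl 3 Q ⊤ → IsMulCommutative ↥(Q ⊓ S) ∧ X.cp.ND (Q ⊓ S) := fun Q hQ =>
    have := h3 G X.cp S _ Q hX hS hA hT' hQ
    ⟨this, (hR G X.cp S Q 3 hX hS Nat.prime_three hQ).1 this⟩
  have h7 : ∀ R : Subgroup U, Syl 3 R ⊤ →
      R ≤ S.subgroupOf U ∧ IsMulCommutative R ∧ (X.sub U).cp.ND R := fun R hR' => by
    have h8 := hR'.map U.subtype
    rw [map_subtype_top] at h8
    have h9 := pgroup_le hU (h4.not_dvd Nat.prime_three fun ⟨Q, hQ, h⟩ => h (h6 Q hQ).2)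
      h8.pgroup h8.le
    obtain ⟨Q, hQ, e⟩ := (h8.subl h9 hU.le).exists_inf_eq le_top
    have h10 := h6 Q hQ
    rw [e] at h10
    rw [eq_subgroupOf_of_map (X := R) rfl]
    exact ⟨comap_mono h9, (abelian_subgroupOf h8.le).2 h10.1, nd_sub X h8.le h10.2⟩
  have h8 : S.subgroupOf U ⊴ ⊤ := by simpa using hU.subgroupOf U
  have h9 : ⁅S.subgroupOf U, S.subgroupOf U⁆ = S.subgroupOf U := by
    rw [commutator_subgroupOf hU.le hU.le, comp_der hS]
  have h10 : (X.sub U).cp.ND ⊤ := by simpa using nd_sub X le_rfl hnd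
  by_cases hb : 2 ∈ bad X.cp S
  · obtain ⟨Q, hQ⟩ := Sylow_exists 2 U
    have hQ' := hQ.trans_index le_top (h5.not_dvd Nat.prime_two fun h => h hb)
    rcases h2 G X.cp S Q hX hS hQ' with hk | ⟨f, x, w, hd, hw, hw2, hwA, e⟩
    · have := (bad_card hR hX hS Nat.prime_two hb hQ').2
      rw [hk.1] at this
      omega
    have hQS : Q ⊓ S ≤ U := inf_le_right.trans hU.le
    have hwU : w ∈ U := hQ.le (e.ge (mem_sup_right (mem_zpowers w)))
    have e' : (Q ⊓ S).subgroupOf U ⊔ ⟪(⟨w, hwU⟩ : U)⟫ = Q.subgroupOf U := eq_subgroupOf_of_map (by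
      rw [Subgroup.map_sup, MonoidHom.map_zpowers, map_subgroupOf_eq_of_le hQS]; exact e.symm)
    exact coreD (w := ⟨w, hwU⟩) hC hCD hFD (X.sub U) h8 h9 h10
      ((hS.syl 2 Nat.prime_two Q hQ').subgroupOf hU.le) (d8_sub hd hQS) hw (Subtype.ext hw2)
      (by rw [cent_subgroupOf hQS]; exact hwA) (by simpa [e'] using hQ.subgroupOf le_rfl)
      (e' ▸ nd_sub X hQ.le (hX.syl 2 Nat.prime_two Q hQ')) fun R hR' => (h7 R hR').2
  · rcases hT with hk | ⟨f, x, w, hd, -⟩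
    · exact coreK hC hCK hFK (X.sub U) h8 h9 h10 (by rw [relIndex_top_right]; exact h4.not_dvd Nat.prime_two hb)
        (hA.subgroupOf hU.le) (klein_sub hk (hA.le.trans hU.le)) h7
    · obtain ⟨e, he⟩ := CExt.ND.isSquare (by_contra fun h => hb ⟨P, hP, h⟩)
      rw [hd.card] at he
      have : e < 3 := by nlinarith
      interval_cases e <;> omega

end Cfsg.Gag.Core
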