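import Cfsg.Agent.Gag.Defs
import Cfsg.Agent.Grp.TransferFormula

/-!
# Transfer of an involution centralized by the normalizer of a Sylow 2-subgroup
-/

set_option autoImplicit false

namespace Cfsg.Gag.Two

open Subgroup Cfsg.FT
open scoped Pointwise IsMulCommutative

theorem prod_eq_one_of_pgroup {P X A : Type*} [Group P] [MulAction P X] [Fintype X] [CommMonoid A]
    {p : ℕ} [Fact p.Prime] (hP : IsPGroup p P) (T : X → A) (hi : ∀ (g : P) x, T (g • x) = T x)
    (hp : ∀ x, T x ^ p = 1) (hf : ∀ x, (∀ g : P, g • x = x) → T x = 1) : ∏ x, T x = 1 := by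
  classical
  letI := Fintype.ofFinite (MulAction.orbitRel.Quotient P X)
  rw [← Finset.prod_fiberwise Finset.univ (Quotient.mk (MulAction.orbitRel P X))]
  refine Finset.prod_eq_one fun ω _ => ?_
  obtain ⟨a, rfl⟩ := Quotient.exists_rep ω
  have h1 : ∀ x, Quotient.mk (MulAction.orbitRel P X) x = Quotient.mk _ a ↔
      x ∈ MulAction.orbit P a := fun x => Quotient.eq
  rw [Finset.prod_congr rfl (g := fun _ => T a) fun x hx => by
    obtain ⟨g, rfl⟩ := (h1 x).1 (Finset.mem_filter.1 hx).2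
    exact hi g a, Finset.prod_const]
  obtain ⟨k, hk⟩ := hP.card_orbit a
  rw [show (Finset.univ.filter fun x => Quotient.mk (MulAction.orbitRel P X) x =
    Quotient.mk _ a).card = p ^ k by
      rw [← hk, Nat.card_eq_card_toFinset]
      exact congrArg _ (Finset.ext fun x => by simp [h1])]
  rcases k with _ | k
  · rw [hf a (MulAction.mem_fixedPoints_iff_card_orbit_eq_one.2 (by simpa using hk)), one_pow]
  · rw [pow_succ', pow_mul, hp, one_pow]

variable {G : Type*} [Group G] [Finite G]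

theorem transfer_inv' (P : Sylow 2 G) {A : Type*} [CommGroup A] (φ : (P : Subgroup G) →* A) {z : G}
    (h2 : z * z = 1) {R : Subgroup G} (hR : IsPGroup 2 R) (hRz : R ≤ 𝐂₁[z]) {s : A} (hz2 : s ^ 2 = 1)
    (hs : ∀ x : G, (∀ u ∈ R, x⁻¹ * u * x ∈ (P : Subgroup G)) →
      ∃ h : x⁻¹ * z * x ∈ (P : Subgroup G), φ ⟨_, h⟩ = s) : MonoidHom.transfer φ z = s := by
  classical
  letI := Fintype.ofFinite (G ⧸ (P : Subgroup G))
  have hi : z⁻¹ = z := inv_eq_of_mul_eq_one_right h2
  have ho : ∀ q : G ⧸ (P : Subgroup G), (q.out : G ⧸ (P : Subgroup G)) = q := Quotient.out_eq'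
  let f : G → A := fun x => if h : x⁻¹ * z * x ∈ (P : Subgroup G) then φ ⟨_, h⟩ else 1
  have f1 : ∀ x, ∀ u ∈ (P : Subgroup G), f (x * u) = f x := fun x u hu => by
    have e : (x * u)⁻¹ * z * (x * u) = u⁻¹ * (x⁻¹ * z * x) * u := by group
    by_cases h : x⁻¹ * z * x ∈ (P : Subgroup G)
    · have h' : (x * u)⁻¹ * z * (x * u) ∈ (P : Subgroup G) := e ▸ (memJ_norm' (normG _ hu)).2 h
      simp only [f, dif_pos h, dif_pos h']
      rw [show (⟨_, h'⟩ : (P : Subgroup G)) = ⟨u, hu⟩⁻¹ * ⟨_, h⟩ * ⟨u, hu⟩ from Subtype.ext e,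
        map_mul, map_mul, map_inv, inv_mul_cancel_comm]
    · simp only [f, dif_neg h, dif_neg fun h' => h ((memJ_norm' (normG _ hu)).1 (e ▸ h'))]
  have f2 : ∀ x : G, f (x : G ⧸ (P : Subgroup G)).out = f x := fun x => by
    obtain ⟨u, hu⟩ := QuotientGroup.mk_out_eq_mul (P : Subgroup G) x
    rw [hu, f1 x u u.2]
  have f3 : ∀ x, f x ^ 2 = 1 := fun x => by
    by_cases h : x⁻¹ * z * x ∈ (P : Subgroup G)
    · simp only [f, dif_pos h]
      rw [← map_pow, ← map_one φ]
      congr 1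
      exact Subtype.ext (by simp [sq, mul_assoc, ← mul_assoc z z, h2])
    · simp [f, dif_neg h]
  have hfix : ∀ q : G ⧸ (P : Subgroup G), z • q = q ↔ q.out⁻¹ * z * q.out ∈ (P : Subgroup G) :=
    fun q => by
      conv_lhs => rw [← ho q, MulAction.Quotient.smul_coe, eq_comm, QuotientGroup.eq]
      rw [smul_eq_mul, mul_assoc]
  have h1 : ∏ q : G ⧸ (P : Subgroup G), (f q.out * s) = 1 := by
    refine prod_eq_one_of_pgroup hR _ (fun u q => ?_) (fun q => by rw [mul_pow, f3, hz2, one_mul])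
      fun q hq => ?_
    · obtain ⟨x, rfl⟩ := QuotientGroup.mk_surjective q
      have e : ((u : G) * x)⁻¹ * z * (u * x) = x⁻¹ * z * x := by
        rw [mul_inv_rev, mul_assoc, mul_assoc, ← mul_assoc z, ← mem_cent1.1 (hRz u.2)]
        group
      rw [show u • (x : G ⧸ (P : Subgroup G)) = ((u : G) * x : G) from rfl, f2, f2]
      simp only [f, e]
    · obtain ⟨h, e⟩ := hs q.out fun u hu => by
        have := hq ⟨u, hu⟩
        rw [← ho q, show (⟨u, hu⟩ : R) • (q.out : G ⧸ (P : Subgroup G)) =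
          (u * q.out : G) from rfl, eq_comm, QuotientGroup.eq] at this
        rwa [mul_assoc]
      simp only [f, dif_pos h, e]
      rw [← sq, hz2]
  have h3 : MonoidHom.transfer φ z = ∏ q : G ⧸ (P : Subgroup G), f q.out := by
    rw [transfer_eq_prod_section φ Quotient.out ho, ← mul_inv_eq_one, ← Finset.prod_inv_distrib,
      ← Finset.prod_mul_distrib]
    have hzz : ∀ q : G ⧸ (P : Subgroup G), z • z • q = q := fun q => by
      rw [← mul_smul, h2, one_smul]
    have h4 : ∀ q : G ⧸ (P : Subgroup G), z • q = q → φ ⟨q.out⁻¹ * (z * (z⁻¹ • q).out),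
        inv_mul_mul_section_mem Quotient.out ho z q⟩ * (f q.out)⁻¹ = 1 := fun q hq => by
      simp only [f, dif_pos ((hfix q).1 hq), mul_inv_eq_one]
      congr 1
      exact Subtype.ext (by simp only [hi, hq, mul_assoc])
    refine Finset.prod_ninvolution (fun q => z • q) (fun q => ?_) (fun q h e => h (h4 q e))
      (fun _ => Finset.mem_univ _) hzz
    by_cases hq : z • q = q
    · rw [hq, h4 q hq, one_mul]
    · have hq' : ¬ z • z • q = z • q := fun e => hq ((hzz q).symm.trans e).symm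
      simp only [f, dif_neg (mt (hfix q).2 hq), dif_neg (mt (hfix _).2 hq'), inv_one, mul_one]
      rw [← map_mul, ← map_one φ]
      congr 1
      exact Subtype.ext (by simp [hi, hzz, mul_assoc, ← mul_assoc z z, h2])
  obtain ⟨m, hm⟩ : Odd (P : Subgroup G).index := Nat.odd_iff.2 (Nat.two_dvd_ne_zero.1 P.not_dvd_index)
  rw [Finset.prod_mul_distrib, ← h3, Finset.prod_const, Finset.card_univ, ← Nat.card_eq_fintype_card,
    ← index_eq_card, hm, pow_succ, pow_mul, hz2, one_pow, one_mul] at h1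
  rw [eq_inv_of_mul_eq_one_left h1, inv_eq_of_mul_eq_one_right (by rw [← sq, hz2])]

theorem transfer_inv (P : Sylow 2 G) {A : Type*} [CommGroup A] (φ : (P : Subgroup G) →* A) {z : G}
    (hz : z ∈ (P : Subgroup G)) (h2 : z * z = 1) (hN : 𝐍[(P : Subgroup G)] ≤ 𝐂₁[z]) :
    MonoidHom.transfer φ z = φ ⟨z, hz⟩ := by
  refine transfer_inv' P φ h2 P.2 ((normG _).trans hN)
    (by rw [← map_pow, ← map_one φ]; exact congrArg φ (Subtype.ext ((sq z).trans h2))) fun x hx => ?_
  have hn : x⁻¹ ∈ 𝐍[(P : Subgroup G)] :=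
    mem_norm_of_conj_le (conj_le_iff_forall.2 fun u hu => by simpa using hx u hu)
  have e : x⁻¹ * z * x = z := by rw [mem_cent1.1 (hN hn), inv_mul_cancel_right]
  exact ⟨e.symm ▸ hz, by simp only [e]⟩

/-- Thompson's transfer lemma -/
theorem thompson {P M : Subgroup G} (hP : Syl 2 P ⊤) (hi : M.relIndex P = 2) {z : G}
    (hz : z ∈ P) (hzM : z ∉ M) (h2 : z * z = 1) (hd : z ∈ commutator G) :
    ∃ x : G, x⁻¹ * z * x ∈ M := by
  obtain ⟨P, rfl⟩ := syl_top_iff.1 hP
  by_contra! hne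
  haveI := normal_of_index_eq_two hi
  haveI : IsMulCommutative (P ⧸ M.subgroupOf (P : Subgroup G)) :=
    (isCyclic_of_prime_card (p := 2) hi).isMulCommutative
  have h1 := Abelianization.commutator_subset_ker
    (MonoidHom.transfer (QuotientGroup.mk' (M.subgroupOf (P : Subgroup G)))) hd
  rw [MonoidHom.mem_ker, transfer_inv' P _ h2 (R := ⟪z⟫) (P.2.to_le (zpowers_le.2 hz))
    (zpowers_le.2 (cent1id z)) (s := QuotientGroup.mk' _ ⟨z, hz⟩)
    (by rw [← map_pow, QuotientGroup.mk'_apply, QuotientGroup.eq_one_iff]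
        exact sq_mem_of_index_two hi _)
    fun x hx => ⟨hx z (mem_zpowers z), QuotientGroup.eq.2 ((mul_mem_iff_of_index_two hi).2
      (iff_of_false (fun e => hne x (inv_mem_iff.1 e)) hzM))⟩] at h1
  exact hzM ((QuotientGroup.eq_one_iff (N := M.subgroupOf (P : Subgroup G)) _).1 h1)

theorem mem_der_top (P : Sylow 2 G) {z : G} (hz : z ∈ (P : Subgroup G)) (h2 : z * z = 1)
    (hN : 𝐍[(P : Subgroup G)] ≤ 𝐂₁[z]) (hd : z ∈ commutator G) :
    z ∈ ⁅(P : Subgroup G), (P : Subgroup G)⁆ := by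
  have h1 := Abelianization.commutator_subset_ker
    (MonoidHom.transfer (Abelianization.of : (P : Subgroup G) →* _)) hd
  rw [MonoidHom.mem_ker, transfer_inv P _ hz h2 hN] at h1
  rw [← Subgroup.map_subtype_commutator]
  exact ⟨_, (QuotientGroup.eq_one_iff _).1 h1, rfl⟩

/-- an involution of `P ∩ H'` centralized by `N_H(P)` lies in `P'` -/
theorem mem_der {P H : Subgroup G} (hP : Syl 2 P H) {z : G} (hz : z ∈ P) (h2 : z * z = 1)
    (hN : H ⊓ 𝐍[P] ≤ 𝐂₁[z]) (hd : z ∈ ⁅H, H⁆) : z ∈ ⁅P, P⁆ := by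
  obtain ⟨Q, e⟩ := hP.exists_sylow
  have := mem_der_top Q (z := ⟨z, hP.le hz⟩) (e ▸ hz) (Subtype.ext h2)
    (fun n hn => mem_cent1.2 (Subtype.ext (mem_cent1.1 (hN ⟨n.2, by
      rwa [e, norm_subgroupOf hP.le] at hn⟩))))
    (by rwa [commutator_def, ← subgroupOf_self H, commutator_subgroupOf le_rfl le_rfl])
  rwa [e, commutator_subgroupOf hP.le hP.le] at this

end Cfsg.Gag.Two
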