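import Cfsg.Agent.Gag.Form
import Cfsg.Agent.Gag.W3

/-!
# Piece W: components of centralizers of involutions
-/

set_option autoImplicit false
set_option linter.unusedSectionVars false

namespace Cfsg.Gag

open Subgroup Cfsg.FT
open scoped Pointwise

universe u

variable {G : Type u} [Group G] {A C C' K K' L T U V X Y : Subgroup G} {β : G → G → ℂˣ}
  {a b g n s t : G}

theorem conj_le_ncl (hg : g ∈ C) : g •ᶜ V ≤ ncl V C :=
  le_iSup₂ (f := fun g (_ : g ∈ C) => g •ᶜ V) g hg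

theorem le_ncl (V C : Subgroup G) : V ≤ ncl V C := by simpa using conj_le_ncl (V := V) C.one_mem

theorem ncl_le (h : V ≤ L) (hn : C ≤ 𝐍[L]) : ncl V C ≤ L :=
  iSup₂_le fun _ hg => conj_le_of_mem_norm (hn hg) h

theorem ncl_mono (h : U ≤ V) (h' : C ≤ C') : ncl U C ≤ ncl V C' :=
  iSup₂_le fun _ hg => (conj_le_conj.2 h).trans (conj_le_ncl (h' hg))

theorem ncl_conj_le (g : G) : g •ᶜ ncl V C ≤ ncl (g •ᶜ V) (g •ᶜ C) := by
  rw [conj_le_iff]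
  refine iSup₂_le fun x hx => conj_le_iff.1 ?_
  rw [conj_conj, show g * x = (g * x * g⁻¹) * g by group, ← conj_conj]
  exact conj_le_ncl (conj_mem_conj.2 hx)

theorem ncl_conj (g : G) : g •ᶜ ncl V C = ncl (g •ᶜ V) (g •ᶜ C) :=
  (ncl_conj_le g).antisymm (le_conj_iff.2 (by
    simpa only [inv_conj_conj] using ncl_conj_le (V := g •ᶜ V) (C := g •ᶜ C) g⁻¹))

theorem ncl_norm (V C : Subgroup G) : C ≤ 𝐍[ncl V C] := normsP''.2 fun g hg => by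
  rw [conj_le_iff]
  exact iSup₂_le fun x hx => conj_le_iff.1 (by rw [conj_conj]; exact conj_le_ncl (C.mul_mem hg hx))

theorem norms_ncl (h : X ≤ 𝐍[V]) (h' : X ≤ 𝐍[C]) : X ≤ 𝐍[ncl V C] := normsP'.2 fun g hg => by
  rw [ncl_conj, conj_eq_of_mem_norm (h hg), conj_eq_of_mem_norm (h' hg)]

theorem commStab_conj_le (g : G) : g •ᶜ commStab Y K ≤ commStab (g •ᶜ Y) (g •ᶜ K) :=
  le_commStab.2 ⟨conj_norms g (le_commStab.1 le_rfl).1, by
    rw [← conj_commutator, conj_le_conj]; exact (le_commStab.1 le_rfl).2⟩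

theorem norms_commStab (h : X ≤ 𝐍[Y]) (h' : X ≤ 𝐍[K]) : X ≤ 𝐍[commStab Y K] :=
  normsP''.2 fun g hg => by
    simpa only [conj_eq_of_mem_norm (h hg), conj_eq_of_mem_norm (h' hg)] using
      commStab_conj_le (Y := Y) (K := K) g

theorem IsComp.conj [Finite G] (h : IsComp A C K) (g : G) (e : ncl A C' = g •ᶜ ncl A C)
    (e' : C' = g •ᶜ C) : IsComp A C' (g •ᶜ K) := by
  unfold IsComp
  rw [e, e', pcoreJ, ← conj_sup, ← conj_commutator, conj_le_conj, conj_le_conj, normalJ]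
  refine ⟨h.1, h.2.1, h.2.2.1, fun L h1 h2 h3 => ?_⟩
  refine (h.2.2.2 (g⁻¹ •ᶜ L) (conj_le_iff.1 h1) (le_conj_iff.1 h2) ?_).imp
    (fun e => by rw [← e, conj_inv_conj]) fun e => by rw [← e, conj_inv_conj]
  rw [norm_conj]
  exact conj_le_iff.1 h3

/-- involutions of `A` -/
def Inv (A : Subgroup G) (a : G) : Prop := a ∈ A ∧ orderOf a = 2

theorem Inv.ne (h : Inv A a) : a ≠ 1 := fun e => by have := h.2; rw [e, orderOf_one] at this; omega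

theorem Inv.sq (h : Inv A a) : a * a = 1 := by rw [← pow_two, ← h.2, pow_orderOf_eq_one]

theorem Inv.conj (h : Inv A a) (hn : n ∈ 𝐍[A]) : Inv A (n * a * n⁻¹) :=
  ⟨(memJ_norm hn).2 h.1, by rw [← h.2]; exact ((MulAut.conj n).orderOf_eq a)⟩

theorem Klein.inv (h : Klein T) (hT : T ≤ A) (hs : s ∈ T) (h1 : s ≠ 1) : Inv A s :=
  ⟨hT hs, h.orderOf hs h1⟩

theorem klein_of_inv (hA : IsMulCommutative A) (hb : Inv A b) (ht : Inv A t) (hne : t ≠ b) :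
    Klein (⟪b⟫ ⊔ ⟪t⟫) := by
  have hc : ⟪t⟫ ≤ 𝐂[⟪b⟫] := sub_abelian_cent2 hA (zpowers_le.2 ht.1) (zpowers_le.2 hb.1)
  have hi : ⟪b⟫ ⊓ ⟪t⟫ = ⊥ := by
    refine ((prime_minnormal (V := ⟪t⟫) (A := ⊥)
      (by rw [Nat.card_zpowers, ht.2]; exact Nat.prime_two) bot_le).eq_or inf_le_right
      bot_le).resolve_right fun e => ?_
    obtain ⟨k, hk⟩ := mem_zpowers_iff.1 (zpowers_le.1 (inf_eq_right.1 e))
    rw [← zpow_mod_orderOf, hb.2] at hk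
    rcases Int.emod_two_eq_zero_or_one k with e | e
    · exact ht.ne (by simpa [e] using hk.symm)
    · exact hne (by simpa [e] using hk.symm)
  refine ⟨?_, fun x hx => ?_⟩
  · rw [← sdprod_card (sdprodEY (cents_norm hc) hi), Nat.card_zpowers, Nat.card_zpowers, hb.2, ht.2]
  · rw [← pow_two]
    exact (abelem_sup (cycle_abelem (by rw [pow_two, hb.sq])) (cycle_abelem (by rw [pow_two, ht.sq]))
      hc).2 x hx

/-- `O(C(a))` -/
abbrev oc (a : G) : Subgroup G := core {2}ᶜ 𝐂₁[a]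

theorem oc_le (a : G) : oc a ≤ 𝐂₁[a] := pcore_sub _ _

theorem oc_norm (a : G) : 𝐂₁[a] ≤ 𝐍[oc a] := (pcore_normal _ _).2

theorem oc_odd [Finite G] (a : G) : Odd (Nat.card (oc a)) :=
  Nat.odd_iff.2 (Nat.two_dvd_ne_zero.1 (@p'core_not_dvd _ _ _ 2 ⟨Nat.prime_two⟩ _))

theorem oc_conj [Finite G] (g a : G) : oc (g * a * g⁻¹) = g •ᶜ oc a := by
  rw [oc, cent1_conj, pcoreJ]

/-- a component of the centralizer of an involution of `A` -/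
def Cp (A : Subgroup G) (b : G) (K : Subgroup G) : Prop := Inv A b ∧ IsComp A 𝐂₁[b] K

theorem Cp.conj [Finite G] (k : Cp A b K) (hn : n ∈ 𝐍[A]) : Cp A (n * b * n⁻¹) (n •ᶜ K) :=
  ⟨k.1.conj hn, k.2.conj n (by rw [ncl_conj, conj_eq_of_mem_norm hn, cent1_conj]) (cent1_conj n b)⟩

theorem Cp.conj' [Finite G] (k : Cp A b K) (hg : g ∈ 𝐂₁[b]) : Cp A b (g •ᶜ K) :=
  ⟨k.1, k.2.conj g (conj_eq_of_mem_norm (ncl_norm _ _ hg)).symm (conj_eq_of_mem hg).symm⟩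

theorem Cp.oc_le (k : Cp A b K) : oc b ≤ K := k.2.1

theorem Cp.ncl_norm (k : Cp A b K) : ncl A 𝐂₁[b] ≤ 𝐍[K] := le_sup_left.trans k.2.2.1.2

theorem Cp.A_norm (k : Cp A b K) : A ≤ 𝐍[K] := (le_ncl _ _).trans k.ncl_norm

/-- elements acting trivially on `K / O(C(b))` -/
abbrev tr (K : Subgroup G) (b : G) : Subgroup G := commStab K (oc b)

/-- the standing hypotheses of piece W -/
structure WC (h : AF A β) : Prop where
  syl : Syl 2 A ⊤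
  wf : ∀ a, Inv A a → WFacts h 𝐂₁[a]
  big : 4 < Nat.card (Ohm1 2 A)

/-- the canonical form of the components with Sylow 2-subgroup `V` -/
def AF.kv (h : AF A β) (V : Subgroup G) : Subgroup G := ncl V 𝐂[h.perp V]

theorem AF.A_cent (h : AF A β) (ha : a ∈ A) : A ≤ 𝐂₁[a] := le_cent1.2 (abelian_iff.1 h.ab ha)

theorem AF.A_oc (h : AF A β) (ha : a ∈ A) : A ≤ 𝐍[oc a] := (h.A_cent ha).trans (oc_norm a)

theorem AF.kv_le (h : AF A β) (hV : V ≤ A) : h.kv V ≤ 𝐂[h.perp V] :=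
  ncl_le (sub_abelian_cent2 h.ab hV (h.perp_le V)) (normG _)

theorem AF.kv_conj (h : AF A β) (hn : n ∈ 𝐍[A]) (V : Subgroup G) :
    h.kv (n •ᶜ V) = n •ᶜ h.kv V := by rw [AF.kv, AF.kv, ncl_conj, h.perp_conj hn, cent_conj]

namespace WC

variable [Finite G] {h : AF A β} (c : WC h)
include c

theorem cop (ho : Odd (Nat.card X)) (hU : U ≤ A) : (Nat.card X).Coprime (Nat.card U) := by
  haveI := Fact.mk Nat.prime_two
  exact (coprime_pgroup (c.syl.pgroup.to_le hU) (Nat.two_dvd_ne_zero.2 (Nat.odd_iff.1 ho))).symm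

theorem cop1 (ho : Odd (Nat.card X)) (ha : a ∈ A) : (Nat.card X).Coprime (Nat.card ⟪a⟫) :=
  c.cop ho (zpowers_le.2 ha)

omit c [Finite G] in
theorem K_le (k : Cp A b K) (hA : IsMulCommutative A) : K ≤ 𝐂₁[b] := k.2.2.1.1.trans
  (sup_le (ncl_le (le_cent1.2 (abelian_iff.1 hA k.1.1)) (normG _)) (oc_le b))

theorem klein (k : Cp A b K) : Klein (K ⊓ A) := (c.wf b k.1).klein K k.2

theorem nd (k : Cp A b K) : (K ⊓ A) ⊓ h.perp (K ⊓ A) = ⊥ := (c.wf b k.1).nd K k.2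

theorem mem_perp (k : Cp A b K) : b ∈ h.perp (K ⊓ A) := by
  obtain ⟨n, hn, e⟩ := (c.wf b k.1).exn K k.2
  rw [← e]
  refine h.cent_le_perp_comm (zpowers_le.2 hn.2) ⟨k.1.1, ?_⟩
  rw [SetLike.mem_coe, cent_cycle]
  exact cent1C.1 (K_le k h.ab hn.1)

theorem perp_tr (k : Cp A b K) : h.perp (K ⊓ A) ≤ tr K b :=
  le_commStab.2 ⟨(h.perp_le _).trans (h.A_oc k.1.1), (c.wf b k.1).perp K k.2⟩

theorem comm_tr (k : Cp A b K) (hX : X ≤ 𝐂₁[b]) (hK : X ≤ 𝐍[K]) (hT : T ≤ h.perp (K ⊓ A)) :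
    ⁅X, T⁆ ≤ tr K b :=
  (commgS X (hT.trans (c.perp_tr k))).trans
    (commg_subr.2 (norms_commStab hK (hX.trans (oc_norm b))))

theorem norm (k : Cp A b K) (ha : a ∈ A) : oc a ⊓ 𝐂₁[b] ≤ 𝐍[K] :=
  (c.wf b k.1).norm _ inf_le_right (oddSg inf_le_left (oc_odd a))
    (normsGI (h.A_oc ha) (h.A_cent k.1.1)) K k.2

theorem cent_norm (k : Cp A b K) : 𝐂[h.perp (K ⊓ A)] ≤ 𝐍[K] := fun g hg => by
  have k' := k.conj' (cent_le_cent1 (c.mem_perp k) hg)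
  by_contra hne
  have h1 := (c.wf b k.1).orth _ _ k'.2 k.2 (mt conj_eq_iff_mem_norm.1 hne)
  refine (c.klein k').ne_bot (eq_bot_iff.2 (c.nd k ▸ le_inf (le_inf ?_ inf_le_right) h1))
  rw [← conj_le_conj (g := g), conj_eq_of_mem_cent (centS h1 hg)]
  exact inf_le_left

theorem kv_le (k : Cp A b K) : h.kv (K ⊓ A) ≤ K := ncl_le inf_le_left (c.cent_norm k)

theorem eq_kv (k : Cp A b K) : K = h.kv (K ⊓ A) ⊔ oc b := by
  refine le_antisymm ?_ (sup_le (c.kv_le k) k.oc_le)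
  have hK := K_le k h.ab
  have h1 : K ≤ oc b ⊔ (K ⊓ 𝐂[h.perp (K ⊓ A)]) :=
    coprime_sub_join_cent k.oc_le ((h.perp_le _).trans (h.A_oc k.1.1)) (c.cop (oc_odd b) (h.perp_le _))
      (.inr (abelian_sol (abelianS (h.perp_le _) h.ab))) le_rfl (hK.trans (oc_norm b))
      (commGC _ K ▸ (c.wf b k.1).perp K k.2)
  refine ((c.wf b k.1).gen K k.2).le.trans (sup_le (ncl_le ((le_ncl _ _).trans le_sup_left)
    (h1.trans (sup_le (normsG le_sup_right) (normsY ?_ ?_)))) le_sup_right)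
  · exact inf_le_right.trans (ncl_norm _ _)
  · exact inf_le_left.trans (hK.trans (oc_norm b))

theorem exists_n (k : Cp A b K) :
    ∃ n ∈ ncl A 𝐂[h.perp (K ⊓ A)] ⊓ 𝐍[A], ⁅A, ⟪n⟫⁆ = K ⊓ A := by
  haveI := Fact.mk Nat.prime_two
  obtain ⟨n, hn, e⟩ := (c.wf b k.1).exn K k.2
  set B := h.perp (K ⊓ A)
  set N := ncl A 𝐂[B]
  have hK := K_le k h.ab
  have hAN : A ≤ N := le_ncl _ _
  have hNb : N ≤ 𝐂₁[b] := (ncl_le (sub_abelian_cent h.ab (h.perp_le _)) (normG _)).trans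
    (cent_le_cent1 (c.mem_perp k))
  have hn1 := hn.1
  rw [c.eq_kv k, sup_comm] at hn1
  obtain ⟨d, hd, y, hy, rfl⟩ := (mem_join_norm ((c.kv_le k).trans (hK.trans (oc_norm b)))).1 hn1
  have hyN : y ∈ N := ncl_mono inf_le_right le_rfl hy
  set H := (oc b ⊔ A) ⊓ N
  have hyH : y ∈ 𝐍[H] := by
    refine zpowers_le.1 (normsGI (zpowers_le.2 ?_) (zpowers_le.2 hyN))
    have h1 : d * y ∈ 𝐍[oc b ⊔ A] :=
      zpowers_le.1 (normsY (zpowers_le.2 (oc_norm b (hK hn.1))) (zpowers_le.2 hn.2))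
    simpa using mul_mem (inv_mem (normG _ (mem_sup_left hd))) h1
  have hS : Syl 2 A H := c.syl.subl (le_inf le_sup_right hAN) le_top
  obtain ⟨z, hz, ez⟩ := Sylow_trans hS ((sylJnorm hyH).2 hS)
  have hm : z⁻¹ * y ∈ 𝐍[A] := conj_eq_iff_mem_norm.1 (by rw [← conj_conj, ez, inv_conj_conj])
  refine ⟨z⁻¹ * y, ⟨N.mul_mem (N.inv_mem hz.2) hyN, hm⟩, ?_⟩
  have h2 : (oc b ⊔ A) ⊓ 𝐍[A] ≤ 𝐂[A] := by
    rw [group_modr (h.A_oc k.1.1) (normG A), coprime_norm_cent (h.A_oc k.1.1)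
      (c.cop (oc_odd b) le_rfl)]
    exact sup_le inf_le_right (abelian_iff.1 h.ab)
  have h3 : z⁻¹ * d⁻¹ ∈ 𝐂[A] := h2 ⟨(oc b ⊔ A).mul_mem ((oc b ⊔ A).inv_mem hz.1)
    ((oc b ⊔ A).inv_mem (mem_sup_left hd)), by
    simpa [mul_assoc] using mul_mem hm (inv_mem hn.2)⟩
  have key : ∀ m m' : G, m' ∈ 𝐍[A] → m * m'⁻¹ ∈ 𝐂[A] → ⁅A, ⟪m⟫⁆ ≤ ⁅A, ⟪m'⟫⁆ := fun m m' h1 h2 => by
    have h4 : ⟪m⟫ ≤ ⟪m'⟫ ⊔ 𝐂[A] := zpowers_le.2 (by
      simpa using mul_mem (mem_sup_right h2) (mem_sup_left (mem_zpowers m')))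
    rw [commGC, commGC A]
    refine (commSg A h4).trans (commg_sup_cent ?_ le_rfl).le
    exact cents_norm (centS (commg_subr.2 (zpowers_le.2 h1)))
  rw [← e]
  exact le_antisymm (key _ _ hn.2 (by simpa [mul_assoc] using h3))
    (key _ _ hm (by simpa [mul_assoc] using inv_mem h3))

theorem exists_cp (k : Cp A b K) (ht : Inv A t) (hB : t ∈ h.perp (K ⊓ A)) :
    ∃ K', Cp A t K' ∧ K' ⊓ A = K ⊓ A := by
  obtain ⟨n, hn, e⟩ := c.exists_n k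
  obtain ⟨K', h1, h2⟩ := (c.wf t ht).ex n ⟨ncl_mono le_rfl (cent_le_cent1 hB) hn.1, hn.2⟩
    (e ▸ (c.klein k).1)
  exact ⟨K', ⟨ht, h1⟩, h2.trans e⟩

theorem c2 (k : Cp A b K) (k' : Cp A t K') (e : K' ⊓ A = K ⊓ A) (hX : X ≤ 𝐂₁[b]) (hK : X ≤ 𝐍[K])
    (hK' : X ≤ 𝐍[K']) (ht : X ≤ tr K' t) : X ≤ tr K b := by
  haveI := Fact.mk Nat.prime_two
  have h1 : h.kv (K ⊓ A) ≤ K ⊓ K' := le_inf (c.kv_le k) (e ▸ c.kv_le k')
  have hKb := (K_le k h.ab).trans (oc_norm b)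
  have hKt := (K_le k' h.ab).trans (oc_norm t)
  have h2 : oc b ⊔ (oc t ⊓ (K ⊓ K')) ⊴ K := by
    refine ⟨sup_le k.oc_le (inf_le_right.trans inf_le_left), (c.eq_kv k).le.trans (sup_le
      (normsY (h1.trans (inf_le_left.trans hKb)) (normsGI (h1.trans (inf_le_right.trans hKt)) h1))
      (normsG le_sup_left))⟩
  have h3 : oc t ⊓ (K ⊓ K') ≤ oc b := by
    refine sup_eq_left.1 (((c.wf b k.1).simp K k.2 _ le_sup_left h2).resolve_right fun e' => ?_)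
    have h4 : PiSub {2}ᶜ K := e' ▸ (pcore_pgroup _ _).sup ((pcore_pgroup _ _).inf_left _)
      (inf_le_right.trans (inf_le_left.trans hKb))
    exact piSub_compl.1 (h4.inf_left A) (by rw [(c.klein k).1]; norm_num)
  refine le_commStab.2 ⟨hX.trans (oc_norm b), ?_⟩
  rw [c.eq_kv k, commGC]
  refine commg_sup_le (h1.trans (inf_le_left.trans hKb)) (normG _) (le_trans (le_inf ?_ ?_) h3)
    (commg_subl.2 (hX.trans (oc_norm b)))
  · exact (commSg X (h1.trans inf_le_right)).trans (commGC X K' ▸ (le_commStab.1 ht).2)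
  · exact (commSg X h1).trans (commg_subl.2 (normsI hK hK'))

theorem exists_inv (hU : U ≤ A) (h1 : U ≠ ⊥) : ∃ t ∈ U, Inv A t :=
  let ⟨t, ht, e⟩ := @exists_order_p _ _ _ _ _ ⟨Nat.prime_two⟩ (c.syl.pgroup.to_le hU) h1
  ⟨t, ht, hU ht, e⟩

theorem exists_klein (k : Cp A b K) : ∃ T, Klein T ∧ b ∈ T ∧ T ≤ h.perp (K ⊓ A) := by
  have hb := c.mem_perp k
  obtain ⟨y, hy, h1⟩ := h.restrict_nd (h.perp_le (K ⊓ A))
    (by rw [h.perp_perp inf_le_right, inf_comm, c.nd k]) b hb k.1.ne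
  have hyA := h.perp_le _ hy
  obtain ⟨t, ht, ht'⟩ := c.exists_inv (zpowers_le.2 hyA) (zpowers_ne_bot.2 fun e =>
    h1 (e ▸ h.one_right k.1.1))
  refine ⟨_, klein_of_inv h.ab k.1 ht' fun e => ?_, mem_sup_left (mem_zpowers b),
    sup_le (zpowers_le.2 hb) (zpowers_le.2 (zpowers_le.2 hy ht))⟩
  obtain ⟨i, rfl⟩ := mem_zpowers_iff.1 ht
  exact h1 (by rw [← e, h.zpow_left hyA hyA, h.alt y hyA, one_zpow])

theorem orth_of_meet (k : Cp A b K) (k' : Cp A t K') (hne : K ⊓ A ≠ K' ⊓ A)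
    (hm : h.perp (K ⊓ A) ⊓ h.perp (K' ⊓ A) ≠ ⊥) : K ⊓ A ≤ h.perp (K' ⊓ A) := by
  obtain ⟨s, hs, hs'⟩ := c.exists_inv (inf_le_left.trans (h.perp_le _)) hm
  obtain ⟨L, l, e⟩ := c.exists_cp k hs' hs.1
  obtain ⟨L', l', e'⟩ := c.exists_cp k' hs' hs.2
  rw [← e, ← e'] at hne ⊢
  exact (c.wf s hs').orth _ _ l.2 l'.2 fun e => hne (e ▸ rfl)

theorem big' : 4 < Nat.card A := c.big.trans_le (card_le_of_le (Ohm_sub 2 A))

theorem eq_perp (h3 : StWL3.{u}) (k : Cp A b K) (k' : Cp A t K')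
    (hm : h.perp (K ⊓ A) ⊓ h.perp (K' ⊓ A) = ⊥) : K' ⊓ A = h.perp (K ⊓ A) := by
  obtain ⟨n, hn, e⟩ := c.exists_n k
  obtain ⟨m, hm', e'⟩ := c.exists_n k'
  have := h3 G A β h c.syl c.big' n hn.2 m hm'.2 (e ▸ c.klein k) (e' ▸ c.klein k')
  rw [e, e'] at this
  exact this hm

theorem orth (h3 : StWL3.{u}) (k : Cp A b K) (k' : Cp A t K') (hne : K ⊓ A ≠ K' ⊓ A) :
    K ⊓ A ≤ h.perp (K' ⊓ A) := by
  by_cases hm : h.perp (K ⊓ A) ⊓ h.perp (K' ⊓ A) = ⊥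
  · rw [c.eq_perp h3 k k' hm, h.perp_perp inf_le_right]
  · exact c.orth_of_meet k k' hne hm

end WC

end Cfsg.Gag
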