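import Cfsg.Agent.Gag.FinBase
import Cfsg.Agent.FT.App.A4568b

/-!
# Piece WL1: abelian Sylow 2-subgroups of rank at most two
-/

set_option autoImplicit false
set_option linter.style.haveILetI false

namespace Cfsg.Gag

open Subgroup Cfsg.FT
open scoped Pointwise

universe u

namespace WL

variable {G : Type u} [Group G] [Finite G] {A V : Subgroup G} {n x y : G}

theorem odd_relIndex (hS : Syl 2 A ⊤) : Odd (A.relIndex 𝐍[A]) := by
  haveI := Fact.mk Nat.prime_two
  exact Nat.not_even_iff_odd.1 fun h =>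
    (hS.subl (normG A) le_top).index (even_iff_two_dvd.1 h)

theorem pow_idx (hn : n ∈ 𝐍[A]) : n ^ A.relIndex 𝐍[A] ∈ A :=
  Fin5.pow_relIndex_mem' ⟨normG A, le_rfl⟩ hn

/-- an element of `N(A)` acting trivially on `Ω₁(A)` centralises `A` -/
theorem cent_of_ohm (hS : Syl 2 A ⊤) (ha : IsMulCommutative A) (hn : n ∈ 𝐍[A])
    (hc : n ∈ 𝐂[Ohm1 2 A]) : n ∈ 𝐂[A] := by
  haveI := Fact.mk Nat.prime_two
  obtain ⟨k, m, hm, e⟩ := Nat.exists_eq_two_pow_mul_odd (orderOf_pos n).ne'
  refine Fin5.mem_of_pow_coprime (a := 2 ^ k) (b := A.relIndex 𝐍[A]) ?_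
    (abelian_iff.1 ha (pow_idx hn)) (Nat.Coprime.pow_left _ (odd_relIndex hS).coprime_two_left)
  refine zpowers_le.1 (coprime_abelian_faithful_Ohm1 hS.pgroup
    (zpowers_le.2 (pow_mem hn _)) ?_ ha (zpowers_le.2 (pow_mem hc _)))
  rw [Nat.card_zpowers]
  intro h2
  have h3 : orderOf (n ^ 2 ^ k) ∣ m :=
    orderOf_dvd_of_pow_eq_one (by rw [← pow_mul, ← e, pow_orderOf_eq_one])
  exact Nat.not_even_iff_odd.2 hm (even_iff_two_dvd.2 (h2.trans h3))

omit [Finite G] in
/-- the action of `N` on `V` -/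
def act {N : Subgroup G} (h : N ≤ 𝐍[V]) : N →* MulAut V :=
  V.normalizerMonoidHom.comp (inclusion h)

omit [Finite G] in
theorem act_apply {N : Subgroup G} (h : N ≤ 𝐍[V]) (g : N) (v : V) :
    (act h g v : G) = g * v * (g : G)⁻¹ := rfl

omit [Finite G] in
theorem act_eq_one {N : Subgroup G} (h : N ≤ 𝐍[V]) (g : N) : act h g = 1 ↔ (g : G) ∈ 𝐂[V] :=
  ⟨fun e v hv => by
    have := act_apply h g ⟨v, hv⟩
    rw [e] at this
    exact eq_mul_inv_iff_mul_eq.1 this,
   fun e => MulEquiv.ext fun v => Subtype.ext (by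
    rw [act_apply, ← e v v.2, mul_inv_cancel_right]; rfl)⟩

end WL

theorem stWL1 : StWL1.{u} := fun G _ _ _ hab A hS ha h4 => by
  haveI := Fact.mk Nat.prime_two
  obtain ⟨P, rfl⟩ := syl_top_iff.1 hS
  have hcom : commutator G = ⊤ := (IsSimpleGroup.eq_bot_or_eq_top_of_normal _
    inferInstance).resolve_left fun e => hab ⟨⟨fun a b =>
      commutatorElement_eq_one_iff_mul_comm.1 (mem_bot.1 (e ▸ commutator_mem_commutator
        (mem_top a) (mem_top b)))⟩⟩
  have hns : ¬ Group.IsSolvable G := fun h =>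
    (IsSolvable.commutator_lt_top_of_nontrivial G).ne hcom
  have hN : 𝐍[(P : Subgroup G)] ≤ 𝐍[Ohm1 2 (P : Subgroup G)] := norms_Ohm1 2 le_rfl
  set e := (𝐂[(P : Subgroup G)]).relIndex 𝐍[(P : Subgroup G)] with he
  have hk : (WL.act hN).ker = (𝐂[(P : Subgroup G)]).subgroupOf 𝐍[(P : Subgroup G)] := by
    ext g
    rw [MonoidHom.mem_ker, WL.act_eq_one, mem_subgroupOf]
    exact ⟨WL.cent_of_ohm hS ha g.2, fun h => centS (Ohm_sub 2 _) h⟩
  have h1 : e ∣ (Nat.card (Ohm1 2 (P : Subgroup G))).factorial := by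
    rw [he, relIndex, ← hk, index_ker, ← Nat.card_perm]
    exact (card_subgroup_dvd_card _).trans
      (card_dvd_of_injective (MulAut.toPerm _) fun _ _ h => MulEquiv.toEquiv_injective h)
  have h2 : Odd e := (WL.odd_relIndex hS).of_dvd_nat (indexgS _ (abelian_iff.1 ha))
  have h3 : e ≠ 1 := fun h => by
    have := sylow_inf_commutator_inf_centralizer_of_comm P ha
    rw [hcom, inf_top_eq, inf_eq_left.2 (centsC.1 (relIndex_eq_one.1 h))] at this
    refine hns (feit_thompson (Nat.not_even_iff_odd.1 fun h => ?_))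
    exact hS.ne_bot (by rw [card_top]; exact even_iff_two_dvd.1 h) this
  have h5 : e = 3 := by
    have h6 : e ∣ 24 := h1.trans (Nat.factorial_dvd_factorial h4)
    have h7 := Nat.le_of_dvd (by norm_num) h6
    obtain ⟨k, hk⟩ := h2
    interval_cases e <;> omega
  obtain ⟨M, hM⟩ := exists_isPModular Nat.prime_two
  have h6 := app4568_card_le P (he ▸ h5 ▸ Nat.prime_three) hM hns
  rw [hcom, inf_top_eq, ← he, h5] at h6
  have h7 : 3 ≤ Nat.card (P : Subgroup G) :=
    ((Nat.prime_three.dvd_factorial).1 (h5 ▸ h1)).trans (card_le_of_le (Ohm_sub 2 _))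
  obtain ⟨k, hk⟩ := IsPGroup.iff_card.1 P.isPGroup'
  have h8 : Nat.card (P : Subgroup G) ≠ 3 := fun h => by
    have : 3 ∣ 2 ^ k := by rw [← hk, h]
    have := Nat.prime_three.dvd_of_dvd_pow this
    omega
  omega

end Cfsg.Gag
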