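import Cfsg.Agent.Gag.WS1

/-!
# Gagola, piece WS: passage to `C / O(C)`
-/

set_option autoImplicit false

namespace Cfsg.Gag

open Subgroup Cfsg.FT
open scoped Pointwise

universe u

namespace WS

variable {G : Type u} [Group G] {A C K L O V X Y : Subgroup G} {β : G → G → ℂˣ} {a b : G}

theorem ncl_quo (hV : V ≤ C) (hC : C ≤ 𝐍[O]) : ncl V C ⁄ O = ncl (V ⁄ O) (C ⁄ O) := by
  refine le_antisymm ((sub_quotient_pre ((ncl_normal hV).le.trans hC)).2 (iSup₂_le fun g hg =>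
    (sub_quotient_pre ((conj_le_of_mem hg hV).trans hC)).1 ?_)) (iSup₂_le fun y hy => ?_)
  · rw [quotientJ (hC hg)]
    exact conj_le_ncl (mem_quotient O hg)
  · obtain ⟨g, hg, hg', rfl⟩ := mem_quo.1 hy
    rw [← quotientJ hg']
    exact quotientS O (conj_le_ncl hg)

theorem le_of_quo (hA : A ≤ 𝐍[O]) (hi : O ⊓ A = ⊥) (hX : X ≤ A) (hY : Y ≤ A) (e : X ⁄ O ≤ Y ⁄ O) :
    X ≤ Y := by
  have := le_inf ((quotientSK (hX.trans hA) (hY.trans hA)).1 e) hX
  rwa [group_modr (hY.trans hA) hY, hi, bot_sup_eq] at this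

theorem eq_of_quo (hA : A ≤ 𝐍[O]) (hi : O ⊓ A = ⊥) (hX : X ≤ A) (hY : Y ≤ A) (e : X ⁄ O = Y ⁄ O) :
    X = Y := le_antisymm (le_of_quo hA hi hX hY e.le) (le_of_quo hA hi hY hX e.ge)

/-- a representative in `A` -/
noncomputable def rep (A O : Subgroup G) (y : Q O) : G :=
  open scoped Classical in if h : ∃ a ∈ A, coset O a = y then h.choose else 1

theorem rep_coset (hA : A ≤ 𝐍[O]) (hi : O ⊓ A = ⊥) (ha : a ∈ A) : rep A O (coset O a) = a := by
  have h : ∃ b ∈ A, coset O b = coset O a := ⟨a, ha, rfl⟩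
  rw [rep, dif_pos h]
  have : h.choose⁻¹ * a ∈ O ⊓ A := ⟨(coset_eq_iff (hA h.choose_spec.1) (hA ha)).1 h.choose_spec.2,
    A.mul_mem (A.inv_mem h.choose_spec.1) ha⟩
  rwa [hi, mem_bot, inv_mul_eq_one] at this

theorem af_quo (h : AF A β) (hA : A ≤ 𝐍[O]) (hi : O ⊓ A = ⊥) (hN : 𝐍[A ⁄ O] = 𝐍[A] ⁄ O) :
    AF (A ⁄ O) fun x y => β (rep A O x) (rep A O y) := by
  have r := fun a => rep_coset (a := a) hA hi
  refine ⟨quotient_abelian O h.ab, fun x hx y hy z hz => ?_, fun x hx y hy z hz => ?_,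
    fun x hx => ?_, fun x hx h1 => ?_, fun n hn x hx y hy => ?_⟩ <;>
    obtain ⟨a, ha, ha', rfl⟩ := mem_quo.1 hx
  · obtain ⟨b, hb, hb', rfl⟩ := mem_quo.1 hy
    obtain ⟨c, hc, -, rfl⟩ := mem_quo.1 hz
    rw [← coset_mul ha' hb', r _ (A.mul_mem ha hb), r a ha, r b hb, r c hc, h.mul_left a ha b hb c hc]
  · obtain ⟨b, hb, hb', rfl⟩ := mem_quo.1 hy
    obtain ⟨c, hc, hc', rfl⟩ := mem_quo.1 hz
    rw [← coset_mul hb' hc', r _ (A.mul_mem hb hc), r a ha, r b hb, r c hc, h.mul_right a ha b hb c hc]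
  · rw [r a ha, h.alt a ha]
  · obtain ⟨b, hb, e⟩ := h.nd a ha fun e => h1 (by rw [e, coset_one])
    exact ⟨_, mem_quotient O hb, by rwa [r a ha, r b hb]⟩
  · obtain ⟨b, hb, hb', rfl⟩ := mem_quo.1 hy
    obtain ⟨m, hm, hm', rfl⟩ := mem_quo.1 (hN ▸ hn)
    rw [← coset_conj hm' ha', ← coset_conj hm' hb', r _ ((memJ_norm hm).2 ha),
      r _ ((memJ_norm hm).2 hb), r a ha, r b hb, h.inv m hm a ha b hb]

theorem perp_quo (h : AF A β) (hA : A ≤ 𝐍[O]) (hi : O ⊓ A = ⊥) (hN : 𝐍[A ⁄ O] = 𝐍[A] ⁄ O)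
    (hV : V ≤ A) : (af_quo h hA hi hN).perp (V ⁄ O) = h.perp V ⁄ O := by
  have r := fun a => rep_coset (a := a) hA hi
  ext y
  rw [AF.mem_perp _ (quotientS O hV)]
  constructor
  · rintro ⟨hy, e⟩
    obtain ⟨a, ha, -, rfl⟩ := mem_quo.1 hy
    refine mem_quotient O ((h.mem_perp hV).2 ⟨ha, fun v hv => ?_⟩)
    simpa only [r a ha, r v (hV hv)] using e _ (mem_quotient O hv)
  · intro hy
    obtain ⟨a, ha, -, rfl⟩ := mem_quo.1 hy
    refine ⟨mem_quotient O ha.1, fun x hx => ?_⟩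
    obtain ⟨v, hv, -, rfl⟩ := mem_quo.1 hx
    simpa only [r a ha.1, r v (hV hv)] using ha.2 v hv (hV hv)

variable [Finite G]

theorem _root_.Cfsg.Gag.IsComp.ws_le (hA : A ≤ C) (hK : IsComp A C K) : K ≤ C :=
  hK.2.1.le.trans (sup_le (ncl_normal hA).le (pcore_sub _ C))

theorem isComp_quo (hA : A ≤ C) (hK : IsComp A C K) :
    IsComp (A ⁄ core {2}ᶜ C) (C ⁄ core {2}ᶜ C) (K ⁄ core {2}ᶜ C) := by
  have hC := (pcore_normal {2}ᶜ C).norm
  have hΛ := (ncl_normal hA).le.trans hC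
  have hn := (hK.ws_le hA).trans hC
  rw [IsComp, trivg_pcore_quotient, sup_bot_eq, ← ncl_quo hA hC, ← quotientR hn hn, le_bot_iff,
    quotient_sub1 ((der_sub K).trans hn)]
  refine ⟨bot_le, quotientYidr hΛ ▸ hK.2.1.quo _, hK.2.2.1, fun L _ hL hN => ?_⟩
  rcases hK.2.2.2 _ (sub_cosetpre L) ((sub_cosetpre_quo hK.1).2 hL) (norms_pre hΛ hN) with e | e
  · exact Or.inl (pre_inj.1 (e.trans (pre_bot _).symm))
  · exact Or.inr (by rw [← e, cosetpreK])

theorem isComp_pre (hA : A ≤ C) {K : Subgroup (Q (core {2}ᶜ C))}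
    (hK : IsComp (A ⁄ core {2}ᶜ C) (C ⁄ core {2}ᶜ C) K) : IsComp A C (pre _ K) := by
  have hC := (pcore_normal {2}ᶜ C).norm
  have hΛ := (ncl_normal hA).le.trans hC
  rw [IsComp, trivg_pcore_quotient, sup_bot_eq, ← ncl_quo hA hC, le_bot_iff] at hK
  refine ⟨sub_cosetpre K, NormalIn.pre (quotientYidr hΛ ▸ hK.2.1) (normalYr hΛ), fun e => hK.2.2.1 ?_,
    fun L h1 h2 h3 => ?_⟩
  · rw [← cosetpreK K, ← quotientR (pre_le_norm K) (pre_le_norm K), quotientS1 e]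
  · have h4 := h2.trans (pre_le_norm K)
    rcases hK.2.2.2 _ bot_le ((sub_quotient_pre h4).2 h2) (quotient_norms _ h3) with e | e
    · exact Or.inl (le_antisymm ((quotient_sub1 h4).1 e) h1)
    · exact Or.inr (by rw [← e, quotientGK ⟨h1, h4⟩])

end WS

open WS

theorem stWS : StWS.{u} := by
  intro G _ _ A C β h ih hS hA hne
  have hO := pcore_normal {2}ᶜ C
  have hC := hO.norm
  have hAn := hA.trans hC
  have hco := (coprime_pgroup hS.pgroup (p'core_not_dvd 2 C)).symm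
  have hi := coprime_TIg hco
  have hN := coprime_norm_quotient_pgroup hS.pgroup hAn hco
  have w := wfacts0 ((hS.subl hA le_top).quo hAn) (trivg_pcore_quotient _ C) (af_quo h hAn hi hN)
    fun L _ _ _ hL => ih L (hL.trans_lt ((Nat.le_of_dvd Nat.card_pos (dvdn_quotient C _)).trans_lt
      (by simpa using card_lt_of_lt (lt_top_iff_ne_top.2 hne))))
  have hn : ∀ {K}, IsComp A C K → K ≤ 𝐍[core {2}ᶜ C] := fun hK => (hK.ws_le hA).trans hC
  have hq : ∀ {K}, IsComp A C K → K ⁄ core {2}ᶜ C ⊓ A ⁄ core {2}ᶜ C = (K ⊓ A) ⁄ core {2}ᶜ C :=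
    fun hK => (quotientGI hK.1 A).symm
  have hc : ∀ {V}, V ≤ A → Nat.card (V ⁄ core {2}ᶜ C) = Nat.card V := fun hV =>
    card_quotient_of_TI (hV.trans hAn) (eq_bot_iff.2 ((inf_le_inf_left _ hV).trans hi.le))
  have hp := fun K => perp_quo h hAn hi hN (inf_le_right : K ⊓ A ≤ A)
  have hd : ∀ K, IsComp A C K → (K ⊓ A) ⊓ h.perp (K ⊓ A) = ⊥ := fun K hK => by
    have := w.nd _ (isComp_quo hA hK)
    rw [hq hK, hp] at this
    exact eq_of_quo hAn hi (inf_le_left.trans inf_le_right) bot_le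
      (by rw [quotient1]; exact eq_bot_iff.2 ((quotientI _ _ _).trans this.le))
  have hr : ∀ {n}, n ∈ C ⊓ 𝐍[A] → ⁅A ⁄ core {2}ᶜ C, ⟪coset _ n⟫⁆ = ⁅A, ⟪n⟫⁆ ⁄ core {2}ᶜ C :=
    fun hn => by rw [quotientR hAn (zpowers_le.2 (hC hn.1)), quotient_cycle (hC hn.1)]
  refine ⟨fun K hK => klein_of_nd h inf_le_right (hd K hK) ?_,
    fun K hK => ?_, hd, fun K hK => ?_, fun K hK => ?_,
    fun X hX ho hAX hc => ?_, fun L hO hL hN' g hg => ?_, fun X hX ho hAX K hK => ?_,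
    fun K K' hK hK' hne => ?_, fun n hn' h4 => ?_, fun K hK L hOL hL => ?_⟩
  · rw [← hc inf_le_right, ← hq hK, (w.klein _ (isComp_quo hA hK)).1]
  · obtain ⟨y, hy, e⟩ := w.exn _ (isComp_quo hA hK)
    rw [hN, ← quotientGI hK.1] at hy
    obtain ⟨n, hn', -, rfl⟩ := mem_quo.1 hy
    rw [hq hK, hr ⟨hK.ws_le hA hn'.1, hn'.2⟩] at e
    exact ⟨n, hn', eq_of_quo hAn hi (commg_subl.2 (zpowers_le.2 hn'.2)) inf_le_right e⟩
  · have := w.perp _ (isComp_quo hA hK)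
    rw [hq hK, hp, trivg_pcore_quotient, le_bot_iff, commG1P] at this
    exact (quotient_cents2 ((h.perp_le _).trans hAn) (hn hK)).1 this
  · have := w.gen _ (isComp_quo hA hK)
    rw [hq hK, trivg_pcore_quotient, sup_bot_eq, ← ncl_quo inf_le_left (hn hK)] at this
    exact le_antisymm (((quotientSK (hn hK) ((ncl_normal inf_le_left).le.trans (hn hK))).1
      this.le).trans (sup_comm _ _).le) (sup_le (ncl_normal inf_le_left).le hK.1)
  · have := w.odd_le _ (quotientS _ hX) (quotient_odd _ ho) (quotient_norms _ hAX) fun K hK => by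
      rw [← cosetpreK K, ← quotientR (hX.trans hC) (pre_le_norm K),
        quotientS1 (hc _ (isComp_pre hA hK))]
      exact bot_le
    rwa [trivg_pcore_quotient, le_bot_iff, quotient_sub1 (hX.trans hC)] at this
  · obtain ⟨y, hy, k, hk, e⟩ := w.fact (L ⁄ _) (by rw [trivg_pcore_quotient]; exact bot_le)
      (fun K hK => (sub_cosetpre_quo hO).1 (hL _ (isComp_pre hA hK))) (quotient_norms _ hN') _
      (mem_quotient _ hg)
    rw [hN, ← quotientGI (pcore_sub _ C)] at hy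
    obtain ⟨n, hn', hn'', rfl⟩ := mem_quo.1 hy
    refine ⟨n, hn', n⁻¹ * g, (coset_mem_quo_iff (mul_mem (inv_mem hn'') (hC hg)) hO).1 ?_,
      (mul_inv_cancel_left _ _).symm⟩
    rwa [coset_mul (inv_mem hn'') (hC hg), coset_inv, e, inv_mul_cancel_left]
  · exact norms_of_quo (hX.trans hC) ⟨hK.1, hn hK⟩ (w.norm _ (quotientS _ hX) (quotient_odd _ ho)
      (quotient_norms _ hAX) _ (isComp_quo hA hK))
  · have := w.orth _ _ (isComp_quo hA hK) (isComp_quo hA hK')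
      fun e => hne ((quotient_inj ⟨hK.1, hn hK⟩ ⟨hK'.1, hn hK'⟩).1 e)
    rw [hq hK, hq hK', hp] at this
    exact le_of_quo hAn hi inf_le_right (h.perp_le _) this
  · have h1 : ⁅A, ⟪n⟫⁆ ≤ A := commg_subl.2 (zpowers_le.2 hn'.2)
    have h2 := hr ⟨(ncl_normal hA).le hn'.1, hn'.2⟩
    obtain ⟨K, hK, e⟩ := w.ex (coset _ n) (by
      rw [hN, ← ncl_quo hA hC]
      exact quotientI _ _ _ (mem_quotient _ hn')) (by rw [h2, hc h1, h4])
    refine ⟨_, isComp_pre hA hK, eq_of_quo hAn hi inf_le_right h1 ?_⟩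
    rw [← hq (isComp_pre hA hK), cosetpreK, e, h2]
  · have h1 := hL.le.trans (hn hK)
    rcases w.simp _ (isComp_quo hA hK) _ (by rw [trivg_pcore_quotient]; exact bot_le) (hL.quo _)
      with e | e
    · rw [trivg_pcore_quotient, quotient_sub1 h1] at e
      exact Or.inl (le_antisymm e hOL)
    · exact Or.inr ((quotient_inj ⟨hOL, h1⟩ ⟨hK.1, hn hK⟩).1 e)

end Cfsg.Gag
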