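import Cfsg.Agent.Gag.TwoT
import Cfsg.Agent.Gag.WS1

/-!
# Gagola, piece Two: the Sylow 2-subgroup of a component
-/

set_option autoImplicit false

namespace Cfsg.Gag

open Subgroup Cfsg.FT
open scoped Pointwise commutatorElement

universe u

namespace Two

variable {G : Type u} [Group G] {A B H K P S : Subgroup G} {a b c x : G} {X : CP G}

theorem cyc2 (hc : c * c = 1) (hx : x ∈ ⟪c⟫) : x = 1 ∨ x = c := by
  obtain ⟨k, rfl⟩ := hx
  have : c ^ (2 : ℤ) = 1 := by rw [zpow_two, hc]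
  obtain ⟨m, rfl | rfl⟩ := Int.even_or_odd' k <;> simp [zpow_add, zpow_mul, this]

theorem self_cycle (X : CP G) (hx : x ∈ ⟪a⟫) : X.β a x = 1 := by
  obtain ⟨k, rfl⟩ := hx
  simp only [X.zpow_right (Commute.refl a), X.alt, one_zpow]

theorem self_sq (X : CP G) (a : G) : X.β (a * a) a = 1 := by
  rw [X.mul_left (Commute.refl a) (Commute.refl a), X.alt, one_mul]

variable [Finite G]

theorem idx2 (h : K ≤ H) (e : Nat.card H = 2 * Nat.card K) (ha : a ∈ H) (hb : b ∈ H) (ha' : a ∉ K)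
    (hb' : b ∉ K) : a * b ∈ K := by
  have h1 : (K.subgroupOf H).index = 2 := by
    have := (K.subgroupOf H).card_mul_index
    rw [Nat.card_congr (subgroupOfEquivOfLe h).toEquiv, e, mul_comm] at this
    exact Nat.eq_of_mul_eq_mul_right Nat.card_pos this
  exact (mul_mem_iff_of_index_two h1 (a := ⟨a, ha⟩) (b := ⟨b, hb⟩)).2 (iff_of_false ha' hb')

theorem card_sup (hP : IsPGroup 2 H) (h : K ≤ H) (ha : a ∈ H) (ha' : a ∉ K) :
    Nat.card K * 2 ≤ Nat.card ↥(K ⊔ ⟪a⟫) :=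
  card_mul_le_of_lt (hP.to_le (sup_le h (zpowers_le.2 ha)))
    (left_lt_sup.2 fun e => ha' (zpowers_le.1 e))

theorem sup_eq (hP : IsPGroup 2 H) (h : K ≤ H) (e : Nat.card H ≤ Nat.card K * 2) (ha : a ∈ H)
    (ha' : a ∉ K) : K ⊔ ⟪a⟫ = H :=
  card_eq_of_le (sup_le h (zpowers_le.2 ha)) (e.trans (card_sup hP h ha ha'))

theorem card_center_dvd {k : ℕ} (h : Nat.card P = 2 ^ (k + 2)) (hn : ¬ IsMulCommutative P) :
    Nat.card ↥𝐙[P] ∣ 2 ^ k := by
  obtain ⟨m, hm⟩ := pow_sq_dvd_center_index (.of_card h) hn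
  have := card_mul_relIndex (inf_le_left : 𝐙[P] ≤ P)
  rw [hm, h, pow_add, mul_left_comm, mul_comm (2 ^ k)] at this
  exact ⟨m, (Nat.eq_of_mul_eq_mul_left (by norm_num) this).symm⟩

theorem exists_noncomm (hn : ¬ IsMulCommutative P) : ∃ a ∈ P, ∃ b ∈ P, ⁅a, b⁆ ≠ 1 := by
  simpa [abelian_iff_forall, commutatorElement_eq_one_iff_mul_comm] using hn

variable (h16 : Nat.card P = 2 ^ 4) (hn : ¬ IsMulCommutative P) (hd : X.ND P)
include h16 hn hd

theorem card_center : Nat.card ↥𝐙[P] = 2 ^ 2 := by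
  have hP : IsPGroup 2 P := .of_card h16
  obtain ⟨k, hk, e⟩ := (Nat.dvd_prime_pow Nat.prime_two).1 (card_center_dvd h16 hn)
  interval_cases k
  · exact absurd ((trivg_center_pgroup hP).1 (card_eq_one.1 e) ▸ abelian_bot) hn
  swap
  · exact e
  exfalso
  obtain ⟨B, hB, -⟩ := exists_SCN_ge (pgroup_nil hP) (normal1 P) abelian_bot
  have hBP := SCN_le hB
  have hab := SCN_abelian hB
  have h8 : Nat.card B = 8 := by
    obtain ⟨j, hj, e'⟩ := (Nat.dvd_prime_pow Nat.prime_two).1 (h16 ▸ card_dvd_of_le hBP)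
    have h1 : ¬ Nat.card B ≤ 2 ^ 2 := fun h => by
      have h2 := Nat.le_of_dvd two_pos (index_cent_p2group_dvd hP (SCN_normal hB).norm (hP.to_le hBP) h)
      have h3 := card_mul_relIndex hBP
      rw [← inf_relIndex_left, cent_SCN hB] at h2
      nlinarith
    have h2 : Nat.card B ≠ 2 ^ 4 := fun h => hn (card_eq_of_le hBP (h16.trans h.symm).le ▸ hab)
    rw [e'] at h1 h2 ⊢
    interval_cases j <;> simp_all
  have h82 : Nat.card P = 2 * Nat.card B := by rw [h8, h16]; rfl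
  have hZ : ∀ x ∈ P, x ∉ B → ∀ b ∈ B, Commute x b → b ∈ 𝐙[P] := fun x hx hx' b hb hc =>
    ⟨hBP hb, le_cent1.1 ((sup_eq hP hBP (by omega) hx hx').ge.trans (sup_le
      (le_cent1.2 (abelian_iff.1 hab hb)) (zpowers_le.2 (mem_cent1.2 hc))))⟩
  have hsq : ∀ x ∈ P, x ∉ B → x * x = 1 := fun x hx hx' => by
    by_contra h1
    have h2 := nt_gen_prime (e ▸ Nat.prime_two) (hZ x hx hx' _ (idx2 hBP h82 hx hx hx' hx')
      ((Commute.refl x).mul_right (Commute.refl x))) h1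
    have h3 : 𝐙[P] ≤ ⟪x⟫ := h2 ▸ zpowers_le.2 (mul_mem (mem_zpowers x) (mem_zpowers x))
    obtain ⟨y, hy, hc, h4⟩ := hd x hx fun e => hx' (e ▸ B.one_mem)
    refine h4 (self_cycle X ?_)
    by_cases hyB : y ∈ B
    · exact h3 (hZ x hx hx' y hyB hc)
    · simpa using mul_mem (inv_mem (mem_zpowers x)) (h3 (hZ x hx hx' _ (idx2 hBP h82 hx hy hx' hyB)
        ((Commute.refl x).mul_right hc)))
  obtain ⟨x, hx, hx'⟩ := SetLike.not_le_iff_exists.1 fun e : P ≤ B => hn (abelianS e hab)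
  have hc : IsCyclic B := by
    by_contra hc
    obtain ⟨E, hE⟩ := abelian_noncyclic_p2Elem (hP.to_le hBP) hab hc
    have : E ≤ 𝐙[P] := fun b hb => hZ x hx hx' b (hE.1 hb) (by
      have h1 := hsq (x * b) (P.mul_mem hx (hBP (hE.1 hb)))
        fun h => hx' ((B.mul_mem_cancel_right (hE.1 hb)).1 h)
      have h2 : b * b = 1 := by rw [← sq, hE.2.1.2 b hb]
      calc x * b = (x * b)⁻¹ := (inv_eq_of_mul_eq_one_right h1).symm
        _ = b * x := by rw [mul_inv_rev, inv_eq_of_mul_eq_one_right h2,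
          inv_eq_of_mul_eq_one_right (hsq x hx hx')])
    have := card_le_of_le this
    rw [hE.2.2, e] at this
    omega
  obtain ⟨b, rfl⟩ := cyclicP.1 hc
  obtain ⟨y, hy, h1, h2⟩ := hd b (hBP (mem_zpowers b)) fun e => by simp [e] at h8
  exact h2 (self_cycle X (cent_SCN hB ▸ mem_inf.2 ⟨hy, cent_cycle b ▸ mem_cent1.2 h1.symm⟩))

theorem quo_abelem : ⁅P, P⁆ ≤ 𝐙[P] ∧ ∀ x ∈ P, x ^ 2 ∈ 𝐙[P] := by
  refine (quotient_abelem_iff (center_normal P).norm).1 (p2group_noncyclic_abelem ?_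
    fun e => hn (cyclic_center_factor_abelian e))
  have := card_quo_mul (center_normal P)
  rw [card_center h16 hn hd, h16] at this
  omega

theorem center_abelem : IsElementaryAbelian 2 𝐙[P] := by
  refine p2group_noncyclic_abelem (card_center h16 hn hd) fun hc => ?_
  obtain ⟨u, hu⟩ := cyclicP.1 hc
  have h1 : u ∈ 𝐙[P] := hu ▸ mem_zpowers u
  obtain ⟨y, hy, -, h2⟩ := hd (u ^ 2) (P.pow_mem h1.1 2) fun e => by
    have := card_center h16 hn hd
    rw [hu, Nat.card_zpowers] at this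
    exact absurd (this ▸ orderOf_dvd_of_pow_eq_one e) (by norm_num)
  have h3 : Commute u y := (h1.2 y hy).symm
  rw [X.pow_left h3, ← X.pow_right h3] at h2
  exact h2 (self_cycle X (hu ▸ (quo_abelem h16 hn hd).2 y hy))

theorem der_eq (ha : a ∈ P) (hb : b ∈ P) (h : ⁅a, b⁆ ≠ 1) : ⁅P, P⁆ = ⟪⁅a, b⁆⟫ := by
  have hP : IsPGroup 2 P := .of_card h16
  have hc := (quo_abelem h16 hn hd).1 (mem_commg ha hb)
  have hN : P ≤ 𝐍[⟪⁅a, b⁆⟫] := norms_cycle (le_cent1.2 hc.2)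
  have h1 : IsMulCommutative ↥(𝐙[P] ⊔ ⟪a⟫) := abelianY.2 ⟨center_abelian P, cycle_abelian a,
    centsC.1 (inf_le_right.trans (centS (zpowers_le.2 ha)))⟩
  have h2 : 𝐙[P] ⊔ ⟪a⟫ ≤ P := sup_le inf_le_left (zpowers_le.2 ha)
  have h3 := card_sup hP (inf_le_left : 𝐙[P] ≤ P) ha fun e =>
    h (commutatorElement_eq_one_iff_mul_comm.2 (e.2 b hb).symm)
  have h4 := sup_eq hP h2 (by rw [card_center h16 hn hd] at h3; omega) hb fun e =>
    h (commutatorElement_eq_one_iff_mul_comm.2 (comm_of_abelian h1 (mem_sup_right (mem_zpowers a)) e))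
  refine le_antisymm ?_ (zpowers_le.2 (mem_commg ha hb))
  conv_lhs => rw [← h4, der1_join, derG1P.2 h1, derG1P.2 (cycle_abelian b), bot_sup_eq, bot_sup_eq]
  refine commg_sup_le (inf_le_left.trans hN) (zpowers_le.2 (hN ha)) ((commG1P.2
    (inf_le_right.trans (centS (zpowers_le.2 hb)))).le.trans bot_le)
    ((quotient_cents2 (zpowers_le.2 (hN ha)) (zpowers_le.2 (hN hb))).1 ?_)
  rw [quotient_cycle (hN ha), quotient_cycle (hN hb), cent_cycle, zpowers_le, mem_cent1,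
    ← commutatorElement_eq_one_iff_mul_comm, ← coset_commg (hN ha) (hN hb)]
  exact coset_id (mem_zpowers _)

theorem card_der : Nat.card ↥⁅P, P⁆ = 2 := by
  obtain ⟨a, ha, b, hb, h⟩ := exists_noncomm hn
  rw [der_eq h16 hn hd ha hb h, Nat.card_zpowers]
  exact orderOf_eq_prime ((center_abelem h16 hn hd).2 _ ((quo_abelem h16 hn hd).1 (mem_commg ha hb))) h

theorem norm_le_cent (hS : Syl 2 P S) : S ⊓ 𝐍[P] ≤ 𝐂[𝐙[P]] := by
  have h1 := (quo_abelem h16 hn hd).1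
  have h2 := card_der h16 hn hd
  obtain ⟨K, hK⟩ := SchurZassenhaus_split ((Sylow_subnorm hS.le).2 hS).hallSub (normal_subnorm.2 hS.le)
  have hKN := normsR hK.norm hK.norm
  have hZ : 𝐙[P] ≤ 𝐍[⁅P, P⁆] := sub_abelian_norm (center_abelian P) h1
  refine hK.sup_eq.ge.trans (sup_le (centsC.1 inf_le_right) (stable_factor_cent
    (cents_prime_of_coprime (h2 ▸ Nat.prime_two) hKN (by simp [h2]))
    ((quotient_cents2 hZ hKN).1 (centsC.1 ?_)) (coprimeSg (der_sub P)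
      (index_sdprod hK ▸ ((Sylow_subnorm hS.le).2 hS).hallSub.coprime))))
  have h6 := card_quo_mul ⟨h1, hZ⟩
  rw [h2, card_center h16 hn hd] at h6
  have h7 : Nat.card (𝐙[P] ⁄ ⁅P, P⁆) = 2 := by omega
  exact cents_prime_of_coprime (h7 ▸ Nat.prime_two) (quotient_norms _ (norms_center hK.norm))
    (by simp [h7])

theorem not_perfect (hS : Syl 2 P S) (hp : ⁅S, S⁆ = S) : False := by
  obtain ⟨w, hw, hw'⟩ := SetLike.not_le_iff_exists.1 fun e : 𝐙[P] ≤ ⁅P, P⁆ => by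
    have := card_le_of_le e
    rw [card_der h16 hn hd, card_center h16 hn hd] at this
    omega
  exact hw' (mem_der hS hw.1 (by rw [← sq, (center_abelem h16 hn hd).2 w hw])
    ((norm_le_cent h16 hn hd hS).trans (cent_le_cent1 hw)) (hp.ge (hS.le hw.1)))

theorem exists_center (hx : x ∈ P) (hx' : x ∉ 𝐙[P]) : ∃ v ∈ 𝐙[P], X.β x v ≠ 1 := by
  have hP : IsPGroup 2 P := .of_card h16
  have h2 : 𝐙[P] ⊔ ⟪x⟫ ≤ P := sup_le inf_le_left (zpowers_le.2 hx)
  have h3 := card_sup hP (inf_le_left : 𝐙[P] ≤ P) hx hx'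
  have h4 : 𝐙[P] ≤ 𝐂₁[x] := inf_le_right.trans (cent_le_cent1 hx)
  obtain ⟨y, hy, hc, h1⟩ := hd x hx fun e => hx' (e ▸ one_mem _)
  by_contra! h5
  refine h1 (X.mem_ker.1 ((sup_le (fun v hv => X.mem_ker.2 ⟨(mem_cent1.1 (h4 hv)).symm, h5 v hv⟩)
    (zpowers_le.2 (X.mem_ker.2 ⟨.refl x, X.alt x⟩)) : 𝐙[P] ⊔ ⟪x⟫ ≤ _) ?_)).2
  by_contra h6
  exact hx' ⟨hx, le_cent1.1 ((sup_eq hP h2 (by rw [card_center h16 hn hd] at h3; omega) hy h6).ge.trans
    (sup_le (sup_le h4 (zpowers_le.2 (cent1id x))) (zpowers_le.2 (mem_cent1.2 hc.symm))))⟩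

theorem eight (hA : A ≤ P) (h8 : Nat.card A = 2 ^ 3) (hA' : ¬ IsMulCommutative A) :
    ∃ f x w : G, D8 A f x ∧ w ∉ A ∧ w ∈ P ∧ w * w = 1 ∧ w ∈ 𝐂[A] ∧ P = A ⊔ ⟪w⟫ := by
  have hP : IsPGroup 2 P := .of_card h16
  obtain ⟨a, ha, b, hb, h⟩ := exists_noncomm hA'
  have hD := der_eq h16 hn hd (hA ha) (hA hb) h
  have hcA := der_sub A (mem_commg ha hb)
  have hcZ := (quo_abelem h16 hn hd).1 (mem_commg (hA ha) (hA hb))
  have hsq := (center_abelem h16 hn hd).2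
  have hw : ∀ w ∈ 𝐙[P], X.β ⁅a, b⁆ w = 1 := fun w hw => by
    have h1 : ∀ x ∈ A, x ∈ 𝐂₁[w] := fun x hx => mem_cent1.2 (hw.2 x (hA hx))
    have := map_commutatorElement (X.psi w) ⟨a, h1 a ha⟩ ⟨b, h1 b hb⟩
    rw [commutatorElement_eq_one_iff_mul_comm.2 (mul_comm (X.psi w _) _)] at this
    exact (X.symm_eq_one (hcZ.2 w hw.1)).2 this
  generalize ⁅a, b⁆ = c at h hD hcA hcZ hw
  have hc2 : c * c = 1 := by rw [← sq, hsq c hcZ]
  have h2 := Nat.le_of_dvd two_pos (card_center_dvd h8 hA')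
  have hAZ : A ⊓ 𝐙[P] ≤ 𝐙[A] := inf_le_inf_left A (inf_le_right.trans (centS hA))
  have hZ : ⟪c⟫ = 𝐙[A] := card_eq_of_le (zpowers_le.2 (hAZ ⟨hcA, hcZ⟩))
    (by rw [← hD, card_der h16 hn hd]; exact h2)
  have hs : ∀ y ∈ A, y * y = 1 ∨ y * y = c := fun y hy =>
    cyc2 hc2 (hZ ▸ hAZ ⟨A.mul_mem hy hy, sq y ▸ (quo_abelem h16 hn hd).2 y (hA hy)⟩)
  obtain ⟨w, hwZ, hwA⟩ := SetLike.not_le_iff_exists.1 fun e : 𝐙[P] ≤ A => by
    have := card_le_of_le ((le_inf e le_rfl).trans hAZ)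
    rw [card_center h16 hn hd] at this
    omega
  obtain ⟨y, hy, hy'⟩ : ∃ y ∈ A, X.β c y ≠ 1 := by
    obtain ⟨y, hy, h1, h3⟩ := hd c hcZ.1 h
    by_cases hyA : y ∈ A
    · exact ⟨y, hyA, h3⟩
    · exact ⟨y * w, idx2 hA (by rw [h8, h16]; rfl) hy hwZ.1 hyA hwA,
        by rwa [X.mul_right h1 (hcZ.2 w hwZ.1).symm, hw w hwZ, mul_one]⟩
  have hy2 : y * y = 1 := (hs y hy).resolve_right fun e => hy' (e ▸ self_sq X y)
  obtain ⟨f, hf, hf'⟩ : ∃ f ∈ A, f * f ≠ 1 := by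
    by_contra! e
    refine hA' (abelian_iff_forall.2 fun x hx z hz => ?_)
    rw [← inv_eq_of_mul_eq_one_right (e _ (A.mul_mem hx hz)), mul_inv_rev,
      inv_eq_of_mul_eq_one_right (e x hx), inv_eq_of_mul_eq_one_right (e z hz)]
  have hf2 := (hs f hf).resolve_left hf'
  have hf4 : orderOf f = 2 ^ (1 + 1) := orderOf_eq_prime_pow (by simpa [sq] using hf')
    (by rw [pow_succ, pow_mul, pow_one, sq f, hf2, sq, hc2])
  have hyf : y ∉ ⟪f⟫ := fun ⟨k, e⟩ => hy' (by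
    rw [← e, X.zpow_right (hcZ.2 f (hA hf)).symm, ← hf2, self_sq, one_zpow])
  have hg := sup_eq (hP.to_le hA) (zpowers_le.2 hf) (by rw [Nat.card_zpowers, hf4, h8]; rfl) hy hyf
  refine ⟨f, y, w, ⟨hf4, orderOf_eq_prime (sq y ▸ hy2) fun e => hy' (e ▸ X.one_right c), ?_, hg.symm,
    h8⟩, hwA, hwZ.1, by rw [← sq, hsq w hwZ], centS hA hwZ.2,
    (sup_eq hP hA (by rw [h8, h16]; rfl) hwZ.1 hwA).symm⟩
  rcases cyc2 hc2 (hD ▸ mem_commg (hA hy) (hA hf)) with e | e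
  · exact absurd (hg ▸ abelianY.2 ⟨cycle_abelian f, cycle_abelian y, by
      rwa [cent_cycle, zpowers_le, mem_cent1, ← commutatorElement_eq_one_iff_mul_comm]⟩) hA'
  · rw [commutatorElement_def, mul_inv_eq_iff_eq_mul] at e
    rw [e, eq_inv_iff_mul_eq_one, mul_assoc, hf2, hc2]

end Two

open Two

theorem stTwo (hW : StW.{u}) (hR : StR.{u}) : StTwo.{u} := by
  intro G _ _ X S P hX hS hP
  haveI := hS.simple
  have hA := hS.syl 2 Nat.prime_two P hP
  by_cases hab : IsMulCommutative ↥(P ⊓ S)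
  · have hd := (hR G X S P 2 hX hS Nat.prime_two hP).1 hab
    refine Or.inl (WS.klein_of_nd (hd.af hab) le_rfl (by rw [AF.perp_top, inf_bot_eq]) ?_)
    rw [← Nat.card_congr (subgroupOfEquivOfLe hA.le).toEquiv]
    refine hW S hS.nab _ (X.comap S.subtype).β (by simpa using hA.subgroupOf le_rfl)
      (CP.ND.af (fun x hx h1 => ?_) ((abelian_subgroupOf hA.le).2 hab))
    obtain ⟨y, hy, h2, h3⟩ := hd x hx fun e => h1 (Subtype.ext e)
    exact ⟨⟨y, hy.2⟩, hy, Subtype.ext h2, h3⟩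
  have hn : ¬ IsMulCommutative P := fun e => hab (abelianS inf_le_left e)
  have h16 := (hX.shape 2 Nat.prime_two P hP).resolve_left hn
  have hd := hX.syl 2 Nat.prime_two P hP
  obtain ⟨k, hk, e⟩ := (Nat.dvd_prime_pow Nat.prime_two).1 (h16 ▸ card_dvd_of_le (inf_le_left : P ⊓ S ≤ P))
  have h2 : ¬ k ≤ 2 := fun h => hab (p2group_abelian (e ▸ pow_dvd_pow 2 h))
  obtain rfl | rfl : k = 3 ∨ k = 4 := by omega
  · obtain ⟨f, x, w, h1, h3, h4, h5⟩ := eight h16 hn hd inf_le_left e hab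
    exact Or.inr ⟨f, x, w, h1, fun e => h3 ⟨h4, e⟩, h5⟩
  · rw [card_eq_of_le inf_le_left (h16.trans e.symm).le] at hA
    refine (not_perfect h16 hn hd hA ?_).elim
    rcases IsSimpleGroup.eq_bot_or_eq_top_of_normal (commutator S) inferInstance with h | h <;>
      rw [← map_subtype_commutator, h]
    · exact absurd (derG1P.1 (by rw [← map_subtype_commutator, h, Subgroup.map_bot])) hS.nab
    · exact map_subtype_top S

end Cfsg.Gag
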