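import Cfsg.Agent.Gag.Form

/-!
# Pieces FinK / FinD: elementary tools
-/

set_option autoImplicit false
set_option linter.style.haveILetI false

namespace Cfsg.Gag.Fin5

open Subgroup Cfsg.FT
open scoped Pointwise

universe u

variable {G : Type u} [Group G] {K M L P T R W : Subgroup G} {x y n v s t : G} {p : ℕ}

theorem mem_of_pow_coprime {a b : ℕ} (ha : x ^ a ∈ K) (hb : x ^ b ∈ K) (h : a.Coprime b) :
    x ∈ K := by
  have e : x = (x ^ a) ^ (Nat.gcdA a b) * (x ^ b) ^ (Nat.gcdB a b) := by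
    rw [← zpow_natCast, ← zpow_natCast, ← zpow_mul, ← zpow_mul, ← zpow_add,
      ← Nat.gcd_eq_gcd_ab, h, Nat.cast_one, zpow_one]
  rw [e]
  exact K.mul_mem (K.zpow_mem ha _) (K.zpow_mem hb _)

theorem pow_relIndex_mem' (h : K ⊴ M) (hx : x ∈ M) : x ^ K.relIndex M ∈ K := by
  haveI := h.normal
  exact pow_index_mem (K.subgroupOf M) ⟨x, hx⟩

theorem mem_of_syl [Finite G] [hp : Fact p.Prime] (h : K ⊴ M) (hP : Syl p P M) (hPK : P ≤ K)
    (hx : x ∈ M) {k : ℕ} (hk : x ^ p ^ k ∈ K) : x ∈ K := by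
  refine mem_of_pow_coprime hk (pow_relIndex_mem' h hx) (Nat.Coprime.pow_left _ ?_)
  exact (Nat.Prime.coprime_iff_not_dvd hp.out).2 fun hd => hP.index (hd.trans (indexgS M hPK))

theorem mem_cycle3 (hv : v ^ 3 = 1) (hx : x ∈ ⟪v⟫) : x = 1 ∨ x = v ∨ x = v⁻¹ := by
  obtain ⟨k, rfl⟩ := hx
  have e : v ^ k = v ^ (k % 3) := by
    conv_lhs => rw [← Int.mul_ediv_add_emod k 3, zpow_add, zpow_mul]
    rw [show v ^ (3 : ℤ) = 1 from by exact_mod_cast hv, one_zpow, one_mul]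
  have h3 : k % 3 = 0 ∨ k % 3 = 1 ∨ k % 3 = 2 := by omega
  dsimp only
  rcases h3 with h | h | h <;> rw [e, h]
  · exact Or.inl (zpow_zero v)
  · exact Or.inr (Or.inl (zpow_one v))
  · refine Or.inr (Or.inr (eq_inv_of_mul_eq_one_left ?_))
    rw [← zpow_add_one]
    exact_mod_cast hv

theorem mem_cycle2 (hv : v * v = 1) (hx : x ∈ ⟪v⟫) : x = 1 ∨ x = v := by
  obtain ⟨k, rfl⟩ := hx
  have e : v ^ k = v ^ (k % 2) := by
    conv_lhs => rw [← Int.mul_ediv_add_emod k 2, zpow_add, zpow_mul]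
    rw [show v ^ (2 : ℤ) = 1 from by rw [zpow_two, hv], one_zpow, one_mul]
  have h3 : k % 2 = 0 ∨ k % 2 = 1 := by omega
  dsimp only
  rcases h3 with h | h <;> rw [e, h]
  · exact Or.inl (zpow_zero v)
  · exact Or.inr (zpow_one v)

/-- two involutions with product of odd order are conjugate -/
theorem conj_of_odd (hs : s * s = 1) (ht : t * t = 1) (ho : Odd (orderOf (s * t))) :
    ∃ u ∈ ⟪s * t⟫, u * s * u⁻¹ = t := by
  obtain ⟨m, hm⟩ := ho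
  refine ⟨(s * t) ^ m, pow_mem (mem_zpowers _) m, ?_⟩
  have hs' : s⁻¹ = s := inv_eq_of_mul_eq_one_right hs
  have ht' : t⁻¹ = t := inv_eq_of_mul_eq_one_right ht
  have h1 : s * (s * t)⁻¹ * s⁻¹ = s * t := by rw [mul_inv_rev, hs', ht']; simp [mul_assoc, hs]
  have h2 : s * ((s * t) ^ m)⁻¹ * s⁻¹ = (s * t) ^ m := by
    rw [← inv_pow, ← conj_pow, h1]
  have h3 : (s * t) ^ m * (s * t) ^ m * (s * t) = 1 := by
    rw [← pow_add, ← pow_succ, ← two_mul, ← hm, pow_orderOf_eq_one]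
  calc (s * t) ^ m * s * ((s * t) ^ m)⁻¹
      = (s * t) ^ m * (s * ((s * t) ^ m)⁻¹ * s⁻¹) * s := by group
    _ = (s * t) ^ m * (s * t) ^ m * (s * t) * t⁻¹ := by rw [h2]; group
    _ = t := by rw [h3, one_mul, ht']

/-- an element centralised by a Sylow 2-subgroup is not inverted -/
theorem inv_eq_of_syl [Finite G] (hT : Syl 2 T L) (hv : T ≤ 𝐂₁[v]) (hs : s ∈ L)
    (h : s * v * s⁻¹ = v⁻¹) : v⁻¹ = v := by
  have hn : s ∈ 𝐍[⟪v⟫] := by rw [← conj_eq_iff_mem_norm, conj_zpowers, h, zpowers_inv]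
  have hK := subcent_normal L ⟪v⟫
  have hTc : T ≤ L ⊓ 𝐂[⟪v⟫] := le_inf hT.le (by rwa [cent_cycle])
  have h2 : s ^ 2 ^ 1 ∈ L ⊓ 𝐂[⟪v⟫] := by
    refine ⟨L.pow_mem hs _, ?_⟩
    rw [cent_cycle]
    refine mem_cent1.2 ?_
    calc s ^ 2 ^ 1 * v = s * (s * v * s⁻¹) * s := by rw [pow_one, pow_two]; group
      _ = s * v⁻¹ * s := by rw [h]
      _ = (s * v * s⁻¹)⁻¹ * (s * s) := by group
      _ = v * s ^ 2 ^ 1 := by rw [h, inv_inv, pow_one, pow_two]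
  have h3 := mem_of_syl hK (hT.subl (hTc.trans hK.le) inf_le_left) hTc ⟨hs, hn⟩ h2
  have h4 : s ∈ 𝐂₁[v] := cent_cycle v ▸ h3.2
  rw [← h, mem_cent1.1 h4, mul_inv_cancel_right]

/-- values of `ψ_x` on `L` are taken on a Sylow subgroup -/
theorem exists_syl_val [Finite G] [hp : Fact p.Prime] (X : CP G) (hx : PiElt {p} x)
    (hL : L ≤ 𝐂₁[x]) (hP : Syl p P L) (hy : y ∈ L) : ∃ s ∈ P, X.β x y = X.β x s := by
  have hc : Commute x y := (mem_cent1.1 (hL hy)).symm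
  have h1 : Commute x (constt {p} y) := (commute_constt _ hc.symm).symm
  have h2 : Commute x (constt {p}ᶜ y) := (commute_constt _ hc.symm).symm
  obtain ⟨g, hg, h3⟩ := Sylow_Jsub hP (zpowers_le.2 (constt_mem {p} hy))
    (piElt_singleton_iff_pgroup.1 (p_elt_constt _ y))
  refine ⟨g * constt {p} y * g⁻¹, h3 (conj_mem_conj.2 (mem_zpowers _)), ?_⟩
  have e : g * x * g⁻¹ = x := by rw [mem_cent1.1 (hL hg), mul_inv_cancel_right]
  have h4 := X.conj g h1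
  rw [e] at h4
  rw [h4]
  conv_lhs => rw [← consttC {p} y]
  rw [X.mul_right h1 h2, X.eq_one_of_coprime h2 (PiNat.coprime hx (p_elt_constt _ y)), mul_one]

theorem triv_of_syl [Finite G] [hp : Fact p.Prime] (X : CP G) (hx : PiElt {p} x)
    (hL : L ≤ 𝐂₁[x]) (hP : Syl p P L) (h : ∀ s ∈ P, X.β x s = 1) (hy : y ∈ L) : X.β x y = 1 := by
  obtain ⟨s, hs, e⟩ := exists_syl_val X hx hL hP hy
  rw [e, h s hs]

/-- duality modulo the radical -/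
theorem exists_perp [Finite G] (X : CP G) (hR : IsMulCommutative R) (hy : y ∈ R) (hyW : y ∉ W)
    (h : ∀ r ∈ R, r ∉ W → ∃ s ∈ R, X.β r s ≠ 1) :
    ∃ v ∈ R, (∀ w ∈ R, w ∈ W → X.β v w = 1) ∧ X.β v y ≠ 1 := by
  letI : CommGroup R := IsMulCommutative.instCommGroup
  have hc : ∀ a b : R, Commute (a : G) b := fun a b => comm_of_abelian hR a.2 b.2
  let D : R →* (R →* ℂˣ) :=
    { toFun := fun a =>
        { toFun := fun b => X.β a b
          map_one' := X.one_right _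
          map_mul' := fun b c => X.mul_right (hc a b) (hc a c) }
      map_one' := MonoidHom.ext fun b => X.one_left _
      map_mul' := fun a b => MonoidHom.ext fun c => X.mul_left (hc a c) (hc b c) }
  have hle : D.range ≤ (MonoidHom.domRestrictHom D.ker ℂˣ).ker := by
    rintro _ ⟨a, rfl⟩
    refine MonoidHom.ext fun z => ?_
    exact (X.symm_eq_one (hc z a)).2 (DFunLike.congr_fun z.2 a)
  have hcard := CommGroup.card_monoidHom_of_hasEnoughRootsOfUnity R ℂ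
  haveI : Finite (R →* ℂˣ) := Nat.finite_of_card_ne_zero (hcard ▸ Nat.card_pos.ne')
  have heq : D.range = (MonoidHom.domRestrictHom D.ker ℂˣ).ker := by
    refine eq_of_le_of_card_ge hle (le_of_eq ?_)
    rw [CommGroup.card_domRestrictHom_ker, ← index_ker, index_eq_card]
  have h1 := (CommGroup.forall_monoidHom_apply_eq_one_iff ℂ (W.subgroupOf R) ⟨y, hy⟩).not.2 hyW
  push Not at h1
  obtain ⟨φ, h2, h3⟩ := h1
  have h4 : φ ∈ D.range := by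
    rw [heq]
    refine MonoidHom.ext fun z => h2 z.1 ?_
    by_contra h5
    obtain ⟨s, hs, h6⟩ := h z.1.1 z.1.2 h5
    exact h6 (DFunLike.congr_fun z.2 ⟨s, hs⟩)
  obtain ⟨a, rfl⟩ := h4
  exact ⟨a, a.2, fun w hw hW => h2 ⟨w, hw⟩ hW, h3⟩

/-! ### Klein four-subgroups -/

theorem klein_pgroup (hT : Klein T) : IsPGroup 2 T := IsPGroup.of_card (n := 2) hT.1

theorem klein_ab (hT : Klein T) : IsMulCommutative T := abelian_iff_forall.2 fun a ha b hb => by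
  have e : ∀ c ∈ T, c⁻¹ = c := fun c hc => inv_eq_of_mul_eq_one_right (hT.2 c hc)
  rw [← e _ (T.mul_mem ha hb), mul_inv_rev, e a ha, e b hb]

theorem klein_conj (hT : Klein T) (g : G) : Klein (g •ᶜ T) :=
  ⟨(card_conj g T).trans hT.1, fun t ht => by
    obtain ⟨a, ha, rfl⟩ := mem_conj_iff_exists.1 ht
    rw [show g * a * g⁻¹ * (g * a * g⁻¹) = g * (a * a) * g⁻¹ by group, hT.2 a ha]; group⟩

theorem klein_rep (hT : Klein T) : ∃ ρ : 𝐍[T] →* Equiv.Perm (Fin 3),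
    (∀ n, ρ n = 1 ↔ n.1 ∈ 𝐂[T]) ∧
      ∀ n : 𝐍[T], ∀ t ∈ T, t ≠ 1 → Commute n.1 t → ∃ i, ρ n i = i := by
  let S := {t : G // t ∈ T ∧ t ≠ 1}
  letI : MulAction 𝐍[T] S :=
    { smul := fun n t => ⟨n.1 * t.1 * n.1⁻¹, (memJ_norm n.2).2 t.2.1, fun h => t.2.2 (by
        simpa using h)⟩
      one_smul := fun t => Subtype.ext (show (1 : G) * t.1 * (1 : G)⁻¹ = t.1 by simp)
      mul_smul := fun a b t => Subtype.ext
        (show a.1 * b.1 * t.1 * (a.1 * b.1)⁻¹ = a.1 * (b.1 * t.1 * b.1⁻¹) * a.1⁻¹ by group) }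
  have hsm : ∀ (n : 𝐍[T]) (t : S), (n • t).1 = n.1 * t.1 * n.1⁻¹ := fun _ _ => rfl
  haveI : Finite T := Nat.finite_of_card_ne_zero (by rw [hT.1]; norm_num)
  have hS : Nat.card S = 3 := by
    have e : S ≃ {t : T // t ≠ 1} :=
      ⟨fun t => ⟨⟨t.1, t.2.1⟩, fun h => t.2.2 (congrArg Subtype.val h)⟩,
        fun t => ⟨t.1.1, t.1.2, fun h => t.2 (Subtype.ext h)⟩, fun _ => rfl, fun _ => rfl⟩
    rw [Nat.card_congr e]
    classical
    haveI := Fintype.ofFinite T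
    rw [Nat.card_eq_fintype_card, Fintype.card_subtype_compl, Fintype.card_subtype_eq,
      ← Nat.card_eq_fintype_card, hT.1]
  haveI : Finite S := Nat.finite_of_card_ne_zero (by rw [hS]; norm_num)
  let e : S ≃ Fin 3 := Finite.equivFinOfCardEq hS
  have hρ : ∀ (n : 𝐍[T]) (t : S), (e.permCongrHom.toMonoidHom.comp
      (MulAction.toPermHom 𝐍[T] S)) n (e t) = e (n • t) := fun n t => by simp
  refine ⟨e.permCongrHom.toMonoidHom.comp (MulAction.toPermHom 𝐍[T] S), fun n => ⟨fun h => ?_,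
    fun h => ?_⟩, fun n t ht h1 hc => ⟨e ⟨t, ht, h1⟩, ?_⟩⟩
  · refine mem_cent.2 fun t ht => ?_
    by_cases h1 : t = 1
    · simp [h1]
    have h2 := hρ n ⟨t, ht, h1⟩
    rw [h, Equiv.Perm.one_apply, e.apply_eq_iff_eq] at h2
    exact eq_mul_inv_iff_mul_eq.1 (congrArg Subtype.val h2)
  · refine Equiv.ext fun i => ?_
    obtain ⟨t, rfl⟩ := e.surjective i
    rw [hρ, Equiv.Perm.one_apply, e.apply_eq_iff_eq]
    exact Subtype.ext (by rw [hsm, ← mem_cent.1 h t.1 t.2.1, mul_inv_cancel_right])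
  · rw [hρ, e.apply_eq_iff_eq]
    exact Subtype.ext (by rw [hsm, hc.eq, mul_inv_cancel_right])

theorem perm3_fix : ∀ (σ : Equiv.Perm (Fin 3)) (i : Fin 3), σ i = i → σ ^ 2 = 1 := by decide

theorem perm3_or : ∀ σ : Equiv.Perm (Fin 3), σ ^ 2 = 1 ∨ σ ^ 3 = 1 := by decide

theorem perm3_three : ∀ σ τ : Equiv.Perm (Fin 3), σ ^ 3 = 1 → τ ^ 3 = 1 → σ ≠ 1 → τ ≠ 1 →
    τ * σ⁻¹ = 1 ∨ τ * σ = 1 := by decide

theorem perm3_inv : ∀ σ τ : Equiv.Perm (Fin 3), σ ^ 3 = 1 → τ ^ 2 = 1 → τ ≠ 1 →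
    τ * σ * τ⁻¹ * σ = 1 := by decide

theorem klein_or (hT : Klein T) (hn : n ∈ 𝐍[T]) : n ^ 2 ∈ 𝐂[T] ∨ n ^ 3 ∈ 𝐂[T] := by
  obtain ⟨ρ, h1, -⟩ := klein_rep hT
  exact (perm3_or (ρ ⟨n, hn⟩)).imp (fun h => (h1 (⟨n, hn⟩ ^ 2)).1 (by rwa [map_pow]))
    fun h => (h1 (⟨n, hn⟩ ^ 3)).1 (by rwa [map_pow])

theorem mem_of_sq_odd (ho : Odd (orderOf n)) (h : n ^ 2 ∈ K) : n ∈ K :=
  mem_of_pow_coprime h (by rw [pow_orderOf_eq_one]; exact K.one_mem) (Nat.coprime_two_left.2 ho)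

theorem klein_cube (hT : Klein T) (hn : n ∈ 𝐍[T]) (ho : Odd (orderOf n)) : n ^ 3 ∈ 𝐂[T] :=
  (klein_or hT hn).elim (fun h => pow_mem (mem_of_sq_odd ho h) 3) id

theorem klein_fix (hT : Klein T) (hn : n ∈ 𝐍[T]) (ho : Odd (orderOf n)) (ht : t ∈ T) (h1 : t ≠ 1)
    (hc : Commute n t) : n ∈ 𝐂[T] := by
  obtain ⟨ρ, h2, h3⟩ := klein_rep hT
  obtain ⟨i, hi⟩ := h3 ⟨n, hn⟩ t ht h1 hc
  exact mem_of_sq_odd ho ((h2 (⟨n, hn⟩ ^ 2)).1 (by rw [map_pow]; exact perm3_fix _ i hi))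

theorem klein_three (hT : Klein T) (hx : x ∈ 𝐍[T]) (hy : y ∈ 𝐍[T]) (ox : Odd (orderOf x))
    (oy : Odd (orderOf y)) (cx : x ∉ 𝐂[T]) (cy : y ∉ 𝐂[T]) : y * x⁻¹ ∈ 𝐂[T] ∨ y * x ∈ 𝐂[T] := by
  obtain ⟨ρ, h1, -⟩ := klein_rep hT
  refine (perm3_three (ρ ⟨x, hx⟩) (ρ ⟨y, hy⟩) ?_ ?_ (mt (h1 _).1 cx) (mt (h1 _).1 cy)).imp
    (fun h => (h1 (⟨y, hy⟩ * ⟨x, hx⟩⁻¹)).1 (by rwa [map_mul, map_inv]))
    fun h => (h1 (⟨y, hy⟩ * ⟨x, hx⟩)).1 (by rwa [map_mul])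
  · rw [← map_pow]; exact (h1 _).2 (klein_cube hT hx ox)
  · rw [← map_pow]; exact (h1 _).2 (klein_cube hT hy oy)

theorem klein_inv (hT : Klein T) (hx : x ∈ 𝐍[T]) (hy : y ∈ 𝐍[T]) (ox : Odd (orderOf x))
    (h2 : y ^ 2 ∈ 𝐂[T]) (cy : y ∉ 𝐂[T]) : y * x * y⁻¹ * x ∈ 𝐂[T] := by
  obtain ⟨ρ, h1, -⟩ := klein_rep hT
  refine (h1 (⟨y, hy⟩ * ⟨x, hx⟩ * ⟨y, hy⟩⁻¹ * ⟨x, hx⟩)).1 ?_
  rw [map_mul, map_mul, map_mul, map_inv]
  refine perm3_inv _ _ ?_ ?_ (mt (h1 _).1 cy)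
  · rw [← map_pow]; exact (h1 _).2 (klein_cube hT hx ox)
  · rw [← map_pow]; exact (h1 _).2 h2

end Cfsg.Gag.Fin5
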