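import Cfsg.Agent.Gag.WB
import Cfsg.Agent.FT.App.A4568a

/-!
# Piece W: the endgame
-/

set_option autoImplicit false
set_option linter.unusedSectionVars false

namespace Cfsg.Gag

open Subgroup Cfsg.FT
open scoped Pointwise

universe u

variable {G : Type u} [Group G] {A H K K' L M S T U V X Y : Subgroup G} {β : G → G → ℂˣ}
  {a b e g n s t v : G}

theorem simple_conj_false [IsSimpleGroup G] (hM : M ≠ ⊤) (hv : v ≠ 1)
    (h : ∀ g, g * v * g⁻¹ ∈ M) : False := by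
  rcases M.normalCore_normal.eq_bot_or_eq_top with e | e
  · exact hv (mem_bot.1 (e ▸ (show v ∈ M.normalCore from h)))
  · exact hM (eq_top_iff.2 (e ▸ M.normalCore_le))

theorem simple_norm_ne_top [IsSimpleGroup G] (h : X ≠ ⊥) (h' : X ≠ ⊤) : 𝐍[X] ≠ ⊤ := fun e =>
  ((norm_eq_top.1 e).eq_bot_or_eq_top).elim h h'

theorem simple_cent1_ne_top [IsSimpleGroup G] (hG : ¬ IsMulCommutative G) (ha : a ≠ 1) :
    𝐂₁[a] ≠ ⊤ := fun e => by
  rcases (inferInstance : (center G).Normal).eq_bot_or_eq_top with h | h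
  · exact ha (mem_bot.1 (h ▸ mem_center_iff.2 fun g => mem_cent1.1 (e ▸ mem_top g)))
  · exact hG ⟨⟨fun x y => mem_center_iff.1 (h ▸ mem_top y) x⟩⟩

theorem conj_inf_norm (hn : n ∈ 𝐍[A]) : n •ᶜ K ⊓ A = n •ᶜ (K ⊓ A) := by
  rw [conj_inf, conj_eq_of_mem_norm hn]

theorem fusion_norm [Finite G] {p : ℕ} [Fact p.Prime] (hA : Syl p A ⊤) (hab : IsMulCommutative A)
    (ha : a ∈ A) (hb : b ∈ A) (h : IsConj a b) : ∃ n ∈ 𝐍[A], n * a * n⁻¹ = b := by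
  obtain ⟨P, rfl⟩ := syl_top_iff.1 hA
  obtain ⟨g, rfl⟩ := isConj_iff.1 h
  obtain ⟨n, hn, e⟩ := P.conj_eq_normalizer_conj_of_mem a g⁻¹ ha (by rw [inv_inv]; exact hb)
  exact ⟨n⁻¹, inv_mem hn, by simpa using e.symm⟩

theorem norm_of_sq [Finite G] (hA : Syl 2 A ⊤) (hab : IsMulCommutative A) (hV : V ≤ A)
    (hn : n ∈ 𝐍[A]) (h : n * n ∈ 𝐍[V]) : n ∈ 𝐍[V] := by
  haveI := Fact.mk Nat.prime_two
  have h1 : pPart 2 n ∈ 𝐍[V] := sub_abelian_norm hab hV (zpowers_le.1 (hA.le_of_norms'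
    (isPGroup_zpowers_pPart n) le_top (zpowers_le.2 (pPart_mem 2 hn))))
  rw [← pPart_mul_pRegPart 2 n]
  refine mul_mem h1 (zpowers_le.2 (show pRegPart 2 n ^ 2 ∈ 𝐍[V] from ?_) (mem_zpowers_pow_iff.2
    ((Nat.Prime.coprime_iff_not_dvd Nat.prime_two).2 (not_dvd_orderOf_pRegPart n))))
  rw [← pRegPart_pow, pow_two]
  exact pRegPart_mem 2 h

/-- the dihedral trick -/
theorem dihedral_false [Finite G] [IsSimpleGroup G] (hA : Syl 2 A ⊤) (hab : IsMulCommutative A)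
    (hM : M ≠ ⊤) (ha : Inv A a) (hb : Inv A b) (hn : ¬ IsConj a b) (hC : 𝐂₁[a] ≤ M)
    (h : ∀ z, Inv A z → IsConj (a * z) b → 𝐂₁[z] ≤ M) : False := by
  haveI := Fact.mk Nat.prime_two
  refine simple_conj_false hM hb.ne fun g => ?_
  have hc : IsConj b (g * b * g⁻¹) := isConj_iff.2 ⟨g, rfl⟩
  have ho : orderOf (g * b * g⁻¹) = 2 := by rw [← hb.2]; exact (MulAut.conj g).orderOf_eq b
  generalize g * b * g⁻¹ = y at hc ho
  have hy : y * y = 1 := by rw [← pow_two, ← ho, pow_orderOf_eq_one]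
  obtain ⟨P, rfl⟩ := syl_top_iff.1 hA
  have hz := app4568_sq_pPart P ha.2 ho
  have h1 : a * pPart 2 (a * y) * a⁻¹ = (pPart 2 (a * y))⁻¹ := by
    rw [← pPart_conj, ← pPart_inv, ← mul_assoc, ha.sq, one_mul, mul_inv_rev,
      inv_eq_of_mul_eq_one_right hy]
  have h2 : pPart 2 (a * y) ≠ 1 := fun e =>
    hn ((app4568_isConj_of_odd ha.sq hy (pPart_eq_one_iff.1 e)).trans hc.symm)
  have h3 := commute_pPart_self 2 (a * y)
  have h4 := pPart_mul_pRegPart 2 (a * y)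
  have h5 := not_dvd_orderOf_pRegPart (p := 2) (a * y)
  have h6 := isPGroup_zpowers_pPart (p := 2) (a * y)
  generalize pPart 2 (a * y) = z at *
  rw [inv_eq_of_mul_eq_one_right hz, mul_inv_eq_iff_eq_mul] at h1
  have h7 : Commute z y := by
    have : Commute z (a * (a * y)) := (Commute.symm h1).mul_right h3
    rwa [← mul_assoc, ha.sq, one_mul] at this
  have h8 : IsConj (a * z) y := app4568_isConj_of_odd
    (by rw [mul_assoc, ← mul_assoc z, ← h1, mul_assoc, hz, mul_one, ha.sq]) hy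
    (by rwa [h1, mul_assoc, ← h4, ← mul_assoc, hz, one_mul])
  obtain ⟨x, hx, hxz⟩ := Sylow_Jsub (hA.subl (le_cent1.2 (abelian_iff.1 hab ha.1)) le_top)
    (zpowers_le.2 (mem_cent1.2 h1.symm)) h6
  rw [conj_zpowers, zpowers_le] at hxz
  have h9 := h (x * z * x⁻¹) ⟨hxz, ((MulAut.conj x).orderOf_eq z).trans
    (orderOf_eq_prime (by rw [pow_two, hz]) h2)⟩ (IsConj.trans (isConj_iff.2 ⟨x⁻¹, by
      rw [← mul_assoc a, ← mul_assoc a, ← mem_cent1.1 hx]; group⟩) (h8.trans hc.symm))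
  rw [cent1_conj] at h9
  exact (memJ_norm (normG M (hC hx))).1 (h9 (conj_mem_conj.2 (mem_cent1.2 h7.symm)))

namespace WC

variable [Finite G] {h : AF A β} (c : WC h)
include c

theorem cent_le (ha : Inv A a) (h1 : 𝐍[A] ≤ M) (h2 : oc a ≤ M)
    (h3 : ∀ K, Cp A a K → h.kv (K ⊓ A) ≤ M) : 𝐂₁[a] ≤ M := fun g hg => by
  obtain ⟨n, hn, k, hk, rfl⟩ := (c.wf a ha).fact (oc a ⊔ ⨆ K, ⨆ _ : Cp A a K, K) le_sup_left
    (fun K k => le_sup_of_le_right (le_iSup₂ (f := fun K (_ : Cp A a K) => K) K ⟨ha, k⟩))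
    (normsY (oc_norm a) (normsP''.2 fun x hx => conj_le_iff.2 (iSup₂_le fun K k => conj_le_iff.1
      (le_iSup₂ (f := fun K (_ : Cp A a K) => K) _ (k.conj' hx))))) g hg
  exact M.mul_mem (h1 hn.2) (sup_le h2 (iSup₂_le fun K k =>
    (c.eq_kv k).le.trans (sup_le (h3 K k) h2)) hk)

theorem A_ne_bot : A ≠ ⊥ := fun e => by have := c.big'; rw [e, card_bot] at this; omega

theorem Y_ne_top : thY A ≠ ⊤ := fun e => by
  haveI := Fact.mk Nat.prime_two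
  exact (Nat.two_dvd_ne_zero.2 (Nat.odd_iff.1 (oddSg (e ▸ le_top : A ≤ thY A) c.complete.1)))
    (pgroup_pdiv c.syl.pgroup c.A_ne_bot)

variable [IsSimpleGroup G] (hG : ¬ IsMulCommutative G)
include hG

theorem norm_kv_ne (k : Cp A b K) : 𝐍[h.kv (K ⊓ A)] ≠ ⊤ :=
  simple_norm_ne_top (fun e => (c.klein k).ne_bot (eq_bot_iff.2 (e ▸ le_ncl _ _)))
    (ne_top_of_le_ne_top (simple_cent1_ne_top hG k.1.ne) ((c.kv_le k).trans (K_le k h.ab)))

theorem caseII_M (h3 : StWL3.{u})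
    (hm : ∀ b K t K', Cp A b K → Cp A t K' → h.perp (K ⊓ A) ⊓ h.perp (K' ⊓ A) ≠ ⊥) :
    ∃ M, M ≠ ⊤ ∧ 𝐍[A] ≤ M ∧ (∀ a, Inv A a → oc a ≤ M) ∧ ∀ b K, Cp A b K → h.kv (K ⊓ A) ≤ M := by
  by_cases hY : thY A = ⊥
  swap
  · exact ⟨_, simple_norm_ne_top hY c.Y_ne_top, h.norm_Y, fun a ha => c.oc_norm_Y ha.1,
      fun b K k => c.kv_norm_Y k fun t K' => hm b K t K' k⟩
  by_cases hk : ∃ b K, Cp A b K
  swap
  · refine ⟨_, simple_norm_ne_top c.A_ne_bot fun e => hG ⟨⟨fun x y =>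
      comm_of_abelian h.ab (e ▸ mem_top x) (e ▸ mem_top y)⟩⟩, le_rfl, fun a ha => ?_,
      fun b K k => absurd ⟨b, K, k⟩ hk⟩
    exact ((le_th.2 ⟨le_rfl, fun b K k => absurd ⟨b, K, k⟩ hk⟩).trans (hY ▸ h.th_le_Y ha)).trans
      bot_le
  obtain ⟨b, K, k⟩ := hk
  set M := (⨆ a, ⨆ _ : Inv A a, oc a) ⊔ ⨆ b, ⨆ K, ⨆ _ : Cp A b K, h.kv (K ⊓ A)
  have h1 : ∀ a, Inv A a → oc a ≤ M := fun a ha =>
    le_sup_of_le_left (le_iSup₂ (f := fun a (_ : Inv A a) => oc a) a ha)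
  have h2 : ∀ b K, Cp A b K → h.kv (K ⊓ A) ≤ M := fun b K k =>
    le_sup_of_le_right (le_iSup₂_of_le b K (le_iSup (fun _ : Cp A b K => h.kv (K ⊓ A)) k))
  refine ⟨𝐍[M], simple_norm_ne_top
    (fun e => (c.klein k).ne_bot (eq_bot_iff.2 (e ▸ (le_ncl _ _).trans (h2 b K k))))
    (ne_top_of_le_ne_top (c.norm_kv_ne hG k) (sup_le (iSup₂_le fun a ha => c.oc_norm_kv h3 hY k ha.1)
      (iSup₂_le fun t K' => iSup_le fun k' => ?_))),
    normsP''.2 fun n hn => conj_le_iff.2 (sup_le (iSup₂_le fun a ha => conj_le_iff.1 ?_)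
      (iSup₂_le fun t K' => iSup_le fun k' => conj_le_iff.1 ?_)),
    fun a ha => normsG (h1 a ha), fun b K k => normsG (h2 b K k)⟩
  · obtain ⟨s, hs, hs'⟩ := c.exists_inv (inf_le_left.trans (h.perp_le _)) (hm b K t K' k k')
    obtain ⟨L, l, e⟩ := c.exists_cp k hs' hs.1
    rw [← e]
    exact ((ncl_mono inf_le_right (cent_le_cent1 hs.2)).trans l.ncl_norm).trans (c.norm_kv h3 hY l)
  · rw [← oc_conj]
    exact h1 _ (ha.conj hn)
  · have := h2 _ _ (k'.conj hn)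
    rwa [conj_inf_norm hn, h.kv_conj hn] at this

theorem caseII (h2 : StWL2.{u}) (h3 : StWL3.{u})
    (hm : ∀ b K t K', Cp A b K → Cp A t K' → h.perp (K ⊓ A) ⊓ h.perp (K' ⊓ A) ≠ ⊥) : False := by
  haveI := Fact.mk Nat.prime_two
  obtain ⟨M, hM, h4, h5, h6⟩ := c.caseII_M hG h3 hm
  have h7 : ∀ a, Inv A a → 𝐂₁[a] ≤ M := fun a ha => c.cent_le ha h4 (h5 a ha) (h6 a)
  obtain ⟨a, ha, b, hb, oa, ob, hn⟩ := h2 G A β c.syl h c.big
  refine dihedral_false c.syl h.ab hM ⟨ha, oa⟩ ⟨hb, ob⟩ (fun e => ?_) (h7 a ⟨ha, oa⟩)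
    fun z hz _ => h7 z hz
  obtain ⟨n, hn', e⟩ := fusion_norm c.syl h.ab ha hb e
  exact hn n hn' e

omit hG [IsSimpleGroup G] in
theorem caseI_cases (h3 : StWL3.{u}) (k : Cp A b K) (k' : Cp A t K')
    (e : K' ⊓ A = h.perp (K ⊓ A)) (l : Cp A s L) : L ⊓ A = K ⊓ A ∨ L ⊓ A = K' ⊓ A :=
  or_iff_not_imp_left.2 fun hne => card_eq_of_le (e ▸ c.orth h3 l k hne)
    ((c.klein k').1.trans (c.klein l).1.symm).le

omit hG [IsSimpleGroup G] in
theorem caseI_norm (h3 : StWL3.{u}) (k : Cp A b K) (k' : Cp A t K')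
    (e : K' ⊓ A = h.perp (K ⊓ A)) : 𝐍[A] ≤ 𝐍[K ⊓ A] := fun n hn => by
  have h1 := c.caseI_cases h3 k k' e (k.conj hn)
  rw [conj_inf_norm hn] at h1
  refine h1.elim conj_eq_iff_mem_norm.1 fun h2 => norm_of_sq c.syl h.ab inf_le_right hn ?_
  rw [← conj_eq_iff_mem_norm, ← conj_conj, h2, e, ← h.perp_conj hn, h2, e, h.perp_perp inf_le_right]

theorem caseI (h3 : StWL3.{u}) (k : Cp A b K) (k' : Cp A t K')
    (e : K' ⊓ A = h.perp (K ⊓ A)) : False := by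
  haveI := Fact.mk Nat.prime_two
  have e' : K ⊓ A = h.perp (K' ⊓ A) := by rw [e, h.perp_perp inf_le_right]
  have hN := c.caseI_norm h3 k k' e
  have hN' := c.caseI_norm h3 k' k e'
  have hkv : ∀ {V}, 𝐍[A] ≤ 𝐍[V] → 𝐍[A] ≤ 𝐍[h.kv V] := fun hV => normsP'.2 fun n hn => by
    rw [← h.kv_conj hn, conj_eq_of_mem_norm (hV hn)]
  obtain ⟨M, hM, h4, h5⟩ : ∃ M, M ≠ ⊤ ∧ 𝐍[A] ≤ M ∧ ∀ a, Inv A a → oc a ≤ M := by
    by_cases hY : thY A = ⊥
    · exact ⟨_, c.norm_kv_ne hG k, hkv hN, fun a ha => c.oc_norm_kv h3 hY k ha.1⟩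
    · exact ⟨_, simple_norm_ne_top hY c.Y_ne_top, h.norm_Y, fun a ha => c.oc_norm_Y ha.1⟩
  set V := K ⊓ A with hV
  set V' := K' ⊓ A with hV'
  have hd : ∀ x ∈ V, x ∈ V' → x = 1 := fun x h1 h2 => mem_bot.1 (c.nd k ▸ ⟨h1, e ▸ h2⟩)
  have hkc : ∀ v ∈ V, h.kv V' ≤ 𝐂₁[v] := fun v hv =>
    (h.kv_le inf_le_right).trans (cent_le_cent1 (e' ▸ hv))
  have hf : ∀ v ∈ V, Inv A v → ∀ g ∈ 𝐂₁[v], ∃ m ∈ M, ∃ y ∈ h.kv V', g = m * y := by
    intro v hv hv' g hg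
    have h6 : ∀ L, Cp A v L → L = oc v ⊔ h.kv V' := fun L l => by
      rcases c.caseI_cases h3 k k' e l with h7 | h7
      · exact absurd (hd v hv (by rw [e, hV, ← h7]; exact c.mem_perp l)) hv'.ne
      · rw [sup_comm, hV', ← h7]; exact c.eq_kv l
    obtain ⟨L, l, -⟩ := c.exists_cp k' hv' (e' ▸ hv)
    obtain ⟨n, hn, x, hx, rfl⟩ := (c.wf v hv').fact L l.oc_le
      (fun L' l' => ((h6 L' ⟨hv', l'⟩).trans (h6 L l).symm).le)
      (normsP'.2 fun x hx => (h6 _ (l.conj' hx)).trans (h6 L l).symm) g hg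
    rw [h6 L l] at hx
    obtain ⟨d, hd, y, hy, rfl⟩ := (mem_join_norm ((hkc v hv).trans (oc_norm v))).1 hx
    exact ⟨n * d, M.mul_mem (h4 hn.2) (h5 v hv' hd), y, hy, (mul_assoc _ _ _).symm⟩
  let St : Subgroup G :=
    { carrier := {g | ∀ x, (∃ m ∈ M, ∃ y ∈ h.kv V', x = m * y) ↔
        ∃ m ∈ M, ∃ y ∈ h.kv V', x * g = m * y}
      one_mem' := fun x => by rw [mul_one]
      mul_mem' := fun {g g'} hg hg' x => by rw [hg x, hg' (x * g), mul_assoc]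
      inv_mem' := fun {g} hg x => by rw [hg (x * g⁻¹), inv_mul_cancel_right] }
  have hSt : ∀ X : Subgroup G, (∀ g ∈ X, ∀ m ∈ M, ∀ y ∈ h.kv V',
      ∃ m' ∈ M, ∃ y' ∈ h.kv V', m * y * g = m' * y') → X ≤ St := fun X hX g hg x =>
    ⟨fun ⟨m, hm, y, hy, e⟩ => e ▸ hX g hg m hm y hy, fun ⟨m, hm, y, hy, e⟩ => by
      have := hX _ (X.inv_mem hg) m hm y hy
      rwa [← e, mul_inv_cancel_right] at this⟩
  have h6 : 𝐍[A] ≤ St := hSt _ fun g hg m hm y hy =>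
    ⟨m * g, M.mul_mem hm (h4 hg), g⁻¹ * y * g, (memJ_norm' (hkv hN' hg)).2 hy, by group⟩
  have h7 : ∀ v ∈ V, Inv A v → 𝐂₁[v] ≤ St := fun v hv hv' => hSt _ fun g hg m hm y hy => by
    obtain ⟨m', hm', y', hy', e⟩ := hf v hv hv' (y * g) (mul_mem (hkc v hv hy) hg)
    exact ⟨m * m', M.mul_mem hm hm', y', hy', by rw [mul_assoc, e, mul_assoc]⟩
  have ht : t ∈ V := e' ▸ c.mem_perp k'
  have hb : b ∈ V' := e ▸ c.mem_perp k
  have h8 : St ≠ ⊤ := fun e => simple_conj_false hM k'.1.ne fun g => by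
    obtain ⟨m, hm, y, hy, e⟩ := ((e ▸ mem_top g : g ∈ St) 1).1 ⟨1, M.one_mem, 1, one_mem _, by simp⟩
    rw [one_mul] at e
    rw [e, mul_assoc m, mem_cent1.1 (hkc t ht hy), mul_inv_rev, ← mul_assoc, ← mul_assoc,
      mul_inv_cancel_right]
    exact M.mul_mem (M.mul_mem hm (h4 (normG A k'.1.1))) (M.inv_mem hm)
  have h9 : ∀ x ∈ A, IsConj x b → x ∈ V' := fun x hx hc => by
    obtain ⟨n, hn, e⟩ := fusion_norm c.syl h.ab hx k.1.1 hc
    exact (memJ_norm (hN' hn)).1 (e ▸ hb)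
  refine dihedral_false c.syl h.ab h8 k'.1 k.1 (fun hc => k'.1.ne (hd t ht (h9 t k'.1.1 hc)))
    (h7 t ht k'.1) fun z hz hc => ?_
  by_cases hzV : z ∈ V
  · exact h7 z hzV hz
  have hz' : z ∉ V' := fun h1 => k'.1.ne (hd t ht (by
    simpa using V'.mul_mem (h9 _ (A.mul_mem k'.1.1 hz.1) hc) (V'.inv_mem h1)))
  refine c.cent_le hz h6 (coprime_abelian_gen_cent1_le (c.klein k).ab (c.klein k).not_cyclic
    (inf_le_right.trans (h.A_oc hz.1)) (c.cop (oc_odd z) inf_le_right) fun v hv h1 =>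
      inf_le_right.trans (h7 v hv ((c.klein k).inv inf_le_right hv h1))) fun L l => ?_
  have := c.mem_perp l
  rcases c.caseI_cases h3 k k' e l with h1 | h1
  · exact absurd (by rwa [h1, ← e] at this) hz'
  · exact absurd (by rwa [h1, ← e'] at this) hzV

end WC

theorem stW_of (hS : StWS.{u}) (h1 : StWL1.{u}) (h2 : StWL2.{u}) (h3 : StWL3.{u}) : StW.{u} := by
  intro G
  induction hn : Nat.card G using Nat.strong_induction_on generalizing G with | _ n ih =>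
  intro _ _ _ hG A β hA h
  subst hn
  by_contra hne
  have c : WC h := ⟨hA, fun a ha => hS G A _ β h (fun L _ _ _ hL => ih _ hL L rfl) hA
    (h.A_cent ha.1) (simple_cent1_ne_top hG ha.ne), lt_of_not_ge fun e => hne (h1 G hG A hA h.ab e)⟩
  exact c.caseII hG h2 h3 fun b K t K' k k' hm => c.caseI hG h3 k k' (c.eq_perp h3 k k' hm)

end Cfsg.Gag
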