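import Cfsg.Agent.Gag.Core
import Cfsg.Agent.Gag.Short

/-!
# Gagola: assembly of the core statement (short endgame)
-/

set_option autoImplicit false

namespace Cfsg.Gag.Core

open Subgroup Cfsg.FT

universe u

theorem stCore_short (h2 : StTwo.{u}) (hK : StKlein.{u}) (hD : StDih.{u}) (hC : StCfg.{u}) :
    StCore.{u} := by
  intro G _ _ _ X hX
  haveI := Fact.mk Nat.prime_two
  by_contra hn
  obtain ⟨S, hS⟩ := exists_comp fun N h1 h2 h3 => hn ⟨N, h1, h2, h3⟩
  obtain ⟨P, hP⟩ := Sylow_exists 2 (⊤ : Subgroup G)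
  rcases h2 G X.cp S P hX hS hP with hk | ⟨f, x, w, hd, h3, h4, h5, h6⟩
  · exact hK G X S P hX hS hP hk
  · obtain ⟨Γ, A, B, z, c, d, h⟩ := hD G X.cp S P f x w hX hS hP hd h3 h4 h5 h6
    exact hC G X Γ P A B z c d hX h

end Cfsg.Gag.Core
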