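import Cfsg.Agent.FT.Main
import Cfsg.Agent.FT.Base.BG1
import Cfsg.Agent.Grp.Coprime
import Cfsg.Agent.Grp.NormalComplement

/-!
# Gagola's solvability theorem (S4562): vocabulary and the statements of the pieces

FROZEN: do not edit the definitions (plan: `docs/Gag.md`).
-/

set_option autoImplicit false

namespace Cfsg.Gag

open Subgroup Cfsg.FT
open scoped Pointwise

universe u v

/-- a commutator pairing: bimultiplicative, alternating and invariant on commuting pairs -/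
structure CP (G : Type u) [Group G] where
  β : G → G → ℂˣ
  mul_left : ∀ {a b c : G}, Commute a c → Commute b c → β (a * b) c = β a c * β b c
  mul_right : ∀ {a b c : G}, Commute a b → Commute a c → β a (b * c) = β a b * β a c
  alt : ∀ a : G, β a a = 1
  conj : ∀ (g : G) {a b : G}, Commute a b → β (g * a * g⁻¹) (g * b * g⁻¹) = β a b

variable {G : Type u} [Group G]

namespace CP

variable (X : CP G)

/-- `P` is of central type for the pairing -/
def ND (P : Subgroup G) : Prop := ∀ x ∈ P, x ≠ 1 → ∃ y ∈ P, Commute x y ∧ X.β x y ≠ 1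

/-- pull-back of a pairing -/
def comap {H : Type v} [Group H] (f : H →* G) : CP H where
  β a b := X.β (f a) (f b)
  mul_left h h' := by rw [map_mul]; exact X.mul_left (h.map f) (h'.map f)
  mul_right h h' := by rw [map_mul]; exact X.mul_right (h.map f) (h'.map f)
  alt a := X.alt _
  conj g a b h := by simpa only [map_mul, map_inv] using X.conj (f g) (h.map f)

@[simp] theorem comap_β {H : Type v} [Group H] (f : H →* G) (a b : H) :
    (X.comap f).β a b = X.β (f a) (f b) := rfl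

theorem one_right (a : G) : X.β a 1 = 1 := by
  have := X.mul_right (Commute.one_right a) (Commute.one_right a)
  rw [mul_one] at this
  exact left_eq_mul.1 this

theorem one_left (a : G) : X.β 1 a = 1 := by
  have := X.mul_left (Commute.one_left a) (Commute.one_left a)
  rw [mul_one] at this
  exact left_eq_mul.1 this

theorem skew {a b : G} (h : Commute a b) : X.β a b * X.β b a = 1 := by
  have h1 := X.alt (a * b)
  rw [X.mul_left ((Commute.refl a).mul_right h) (h.symm.mul_right (Commute.refl b)),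
    X.mul_right (Commute.refl a) h, X.mul_right h.symm (Commute.refl b), X.alt, X.alt,
    one_mul, mul_one] at h1
  exact h1

theorem symm_inv {a b : G} (h : Commute a b) : X.β b a = (X.β a b)⁻¹ :=
  (eq_inv_of_mul_eq_one_right (X.skew h))

theorem symm_eq_one {a b : G} (h : Commute a b) : X.β b a = 1 ↔ X.β a b = 1 := by
  rw [X.symm_inv h, inv_eq_one]

/-- `ψ_a = β a ·` on the centralizer of `a` -/
def psi (a : G) : 𝐂₁[a] →* ℂˣ where
  toFun y := X.β a y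
  map_one' := X.one_right a
  map_mul' y z := X.mul_right (mem_cent1.1 y.2).symm (mem_cent1.1 z.2).symm

@[simp] theorem psi_apply (a : G) (y : 𝐂₁[a]) : X.psi a y = X.β a y := rfl

theorem inv_right {a b : G} (h : Commute a b) : X.β a b⁻¹ = (X.β a b)⁻¹ :=
  map_inv (X.psi a) ⟨b, mem_cent1.2 h.symm⟩

theorem pow_right {a b : G} (h : Commute a b) (n : ℕ) : X.β a (b ^ n) = X.β a b ^ n :=
  map_pow (X.psi a) ⟨b, mem_cent1.2 h.symm⟩ n

theorem zpow_right {a b : G} (h : Commute a b) (n : ℤ) : X.β a (b ^ n) = X.β a b ^ n :=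
  map_zpow (X.psi a) ⟨b, mem_cent1.2 h.symm⟩ n

theorem inv_left {a b : G} (h : Commute a b) : X.β a⁻¹ b = (X.β a b)⁻¹ := by
  rw [X.symm_inv h.inv_left.symm, X.inv_right h.symm, X.symm_inv h, inv_inv]

theorem pow_left {a b : G} (h : Commute a b) (n : ℕ) : X.β (a ^ n) b = X.β a b ^ n := by
  rw [X.symm_inv (h.pow_left n).symm, X.pow_right h.symm, X.symm_inv h, inv_pow, inv_inv]

theorem zpow_left {a b : G} (h : Commute a b) (n : ℤ) : X.β (a ^ n) b = X.β a b ^ n := by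
  rw [X.symm_inv (h.zpow_left n).symm, X.zpow_right h.symm, X.symm_inv h, inv_zpow, inv_inv]

theorem pow_eq_one_of_left {a b : G} (h : Commute a b) {n : ℕ} (hn : a ^ n = 1) :
    X.β a b ^ n = 1 := by rw [← X.pow_left h, hn, X.one_left]

theorem pow_eq_one_of_right {a b : G} (h : Commute a b) {n : ℕ} (hn : b ^ n = 1) :
    X.β a b ^ n = 1 := by rw [← X.pow_right h, hn, X.one_right]

theorem eq_one_of_coprime {a b : G} (h : Commute a b) (hc : (orderOf a).Coprime (orderOf b)) :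
    X.β a b = 1 := by
  have h1 := orderOf_dvd_of_pow_eq_one (X.pow_eq_one_of_left h (pow_orderOf_eq_one a))
  have h2 := orderOf_dvd_of_pow_eq_one (X.pow_eq_one_of_right h (pow_orderOf_eq_one b))
  exact orderOf_eq_one_iff.1 (Nat.eq_one_of_dvd_coprimes hc h1 h2)

theorem self_pow (a : G) (m n : ℕ) : X.β (a ^ m) (a ^ n) = 1 := by
  rw [X.pow_left ((Commute.refl a).pow_right n), X.pow_right (Commute.refl a), X.alt, one_pow,
    one_pow]

/-- the kernel of `ψ_a`, as a subgroup of `G` -/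
def ker (a : G) : Subgroup G := (X.psi a).ker.map (𝐂₁[a]).subtype

theorem mem_ker {a y : G} : y ∈ X.ker a ↔ Commute a y ∧ X.β a y = 1 :=
  ⟨fun ⟨z, hz, e⟩ => e ▸ ⟨(mem_cent1.1 z.2).symm, hz⟩,
    fun h => ⟨⟨y, mem_cent1.2 h.1.symm⟩, h.2, rfl⟩⟩

theorem ker_normal (a : G) : X.ker a ⊴ 𝐂₁[a] :=
  ⟨fun _ hy => mem_cent1.2 (X.mem_ker.1 hy).1.symm, normsP.2 fun g hg y hy => by
    obtain ⟨h1, h2⟩ := X.mem_ker.1 hy
    have hg' : g * a * g⁻¹ = a := by rw [mem_cent1.1 hg, mul_inv_cancel_right]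
    have := X.conj g h1
    rw [hg'] at this
    refine X.mem_ker.2 ⟨?_, this.trans h2⟩
    have h3 : Commute a g := (mem_cent1.1 hg).symm
    exact (h3.mul_right h1).mul_right h3.inv_right⟩

end CP

/-- a central extension with a faithful linear character of the kernel -/
structure CExt (G : Type u) [Group G] where
  E : Type u
  [grp : Group E]
  [fin : Finite E]
  π : E →* G
  surj : Function.Surjective π
  cen : π.ker ≤ center E
  lam : π.ker →* ℂˣ
  inj : Function.Injective lam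

attribute [instance] CExt.grp CExt.fin

namespace CExt

variable (X : CExt G)

theorem comm_mem {a b : X.E} (h : Commute (X.π a) (X.π b)) : a * b * a⁻¹ * b⁻¹ ∈ X.π.ker := by
  rw [MonoidHom.mem_ker]
  simp only [map_mul, map_inv, h.eq, mul_inv_cancel_right, mul_inv_cancel]

theorem comm_congr {a b a' b' : X.E} (ha : X.π a = X.π a') (hb : X.π b = X.π b') :
    a * b * a⁻¹ * b⁻¹ = a' * b' * a'⁻¹ * b'⁻¹ := by
  have h1 : a'⁻¹ * a ∈ center X.E := X.cen (by simp [MonoidHom.mem_ker, ha])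
  have h2 : b'⁻¹ * b ∈ center X.E := X.cen (by simp [MonoidHom.mem_ker, hb])
  obtain ⟨z, hz, rfl⟩ : ∃ z ∈ center X.E, a = a' * z := ⟨_, h1, by group⟩
  obtain ⟨w, hw, rfl⟩ : ∃ w ∈ center X.E, b = b' * w := ⟨_, h2, by group⟩
  have hz' := mem_center_iff.1 hz
  have hw' := mem_center_iff.1 hw
  calc a' * z * (b' * w) * (a' * z)⁻¹ * (b' * w)⁻¹
      = a' * (z * (b' * w) * z⁻¹) * a'⁻¹ * w⁻¹ * b'⁻¹ := by group
    _ = a' * (b' * (w * a'⁻¹ * w⁻¹)) * b'⁻¹ := by rw [← hz' (b' * w)]; group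
    _ = _ := by rw [← hw' a'⁻¹]; group

/-- the raw pairing -/
noncomputable def rawβ (a b : G) : ℂˣ :=
  open scoped Classical in
  if h : Commute a b then
    X.lam ⟨_, X.comm_mem (a := Function.surjInv X.surj a) (b := Function.surjInv X.surj b)
      (by rwa [Function.surjInv_eq X.surj, Function.surjInv_eq X.surj])⟩
  else 1

theorem rawβ_eq {a b : X.E} (h : Commute (X.π a) (X.π b)) :
    X.rawβ (X.π a) (X.π b) = X.lam ⟨_, X.comm_mem h⟩ := by
  rw [rawβ, dif_pos h]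
  congr 2
  exact X.comm_congr (Function.surjInv_eq _ _) (Function.surjInv_eq _ _)

/-- the commutator pairing of the extension -/
noncomputable def cp : CP G where
  β := X.rawβ
  mul_left := fun {a b c} h h' => by
    obtain ⟨a, rfl⟩ := X.surj a
    obtain ⟨b, rfl⟩ := X.surj b
    obtain ⟨c, rfl⟩ := X.surj c
    rw [← map_mul, X.rawβ_eq (by rw [map_mul]; exact h.mul_left h'), X.rawβ_eq h, X.rawβ_eq h',
      ← map_mul X.lam]
    congr 2
    have := mem_center_iff.1 (X.cen (X.comm_mem h'))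
    calc a * b * c * (a * b)⁻¹ * c⁻¹ = a * (b * c * b⁻¹ * c⁻¹) * (c * a⁻¹ * c⁻¹) := by group
      _ = a * ((c * a⁻¹ * c⁻¹) * (b * c * b⁻¹ * c⁻¹)) := by rw [this (c * a⁻¹ * c⁻¹)]; group
      _ = _ := by simp only [Subgroup.coe_mul]; group
  mul_right := fun {a b c} h h' => by
    obtain ⟨a, rfl⟩ := X.surj a
    obtain ⟨b, rfl⟩ := X.surj b
    obtain ⟨c, rfl⟩ := X.surj c
    rw [← map_mul, X.rawβ_eq (by rw [map_mul]; exact h.mul_right h'), X.rawβ_eq h, X.rawβ_eq h',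
      ← map_mul X.lam]
    congr 2
    have := mem_center_iff.1 (X.cen (X.comm_mem h'))
    calc a * (b * c) * a⁻¹ * (b * c)⁻¹ = (a * b * a⁻¹) * ((a * c * a⁻¹ * c⁻¹) * b⁻¹) := by group
      _ = _ := by rw [← this b⁻¹]; simp only [Subgroup.coe_mul]; group
  alt a := by
    obtain ⟨a, rfl⟩ := X.surj a
    rw [X.rawβ_eq (Commute.refl _), ← map_one X.lam]
    congr 2
    simp
  conj := fun g {a b} h => by
    obtain ⟨a, rfl⟩ := X.surj a
    obtain ⟨b, rfl⟩ := X.surj b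
    obtain ⟨g, rfl⟩ := X.surj g
    have h' : Commute (X.π (g * a * g⁻¹)) (X.π (g * b * g⁻¹)) := by
      simpa [map_mul, map_inv] using h.map (MulAut.conj (X.π g)).toMonoidHom
    have e := X.rawβ_eq h'
    simp only [map_mul, map_inv] at e
    rw [e, X.rawβ_eq h]
    congr 2
    have := mem_center_iff.1 (X.cen (X.comm_mem h))
    calc g * a * g⁻¹ * (g * b * g⁻¹) * (g * a * g⁻¹)⁻¹ * (g * b * g⁻¹)⁻¹
        = g * (a * b * a⁻¹ * b⁻¹) * g⁻¹ := by group
      _ = _ := by rw [this g]; group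

theorem cp_β {a b : X.E} (h : Commute (X.π a) (X.π b)) :
    X.cp.β (X.π a) (X.π b) = X.lam ⟨_, X.comm_mem h⟩ := X.rawβ_eq h

theorem cp_β_eq_one {a b : X.E} (h : Commute (X.π a) (X.π b)) :
    X.cp.β (X.π a) (X.π b) = 1 ↔ Commute a b := by
  rw [X.cp_β h, ← map_one X.lam, X.inj.eq_iff, Subtype.ext_iff, Commute, SemiconjBy]
  simp only [OneMemClass.coe_one, mul_inv_eq_iff_eq_mul, one_mul]

/-- restriction of the extension to a subgroup -/
def sub (U : Subgroup G) : CExt U where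
  E := U.comap X.π
  π := X.π.subgroupComap U
  surj := fun u => by
    obtain ⟨e, he⟩ := X.surj u
    exact ⟨⟨e, by simp [he]⟩, Subtype.ext he⟩
  cen := fun z hz => mem_center_iff.2 fun g => Subtype.ext
    (mem_center_iff.1 (X.cen (show (z : X.E) ∈ X.π.ker from congrArg Subtype.val hz)) g)
  lam := X.lam.comp
    { toFun := fun z => ⟨z.1.1, congrArg Subtype.val z.2⟩, map_one' := rfl,
      map_mul' := fun _ _ => rfl }
  inj := X.inj.comp fun a b h => Subtype.ext (Subtype.ext (show a.1.1 = b.1.1 from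
    congrArg (fun z : X.π.ker => (z : X.E)) h))

theorem sub_β (U : Subgroup G) {a b : U} (h : Commute a b) :
    (X.sub U).cp.β a b = X.cp.β a b := by
  obtain ⟨a, rfl⟩ := (X.sub U).surj a
  obtain ⟨b, rfl⟩ := (X.sub U).surj b
  rw [(X.sub U).cp_β h]
  exact (X.cp_β (a := a.1) (b := b.1) (h.map U.subtype)).symm

end CExt

/-- a nondegenerate alternating form on the abelian subgroup `A`, invariant under `N(A)` -/
structure AF (A : Subgroup G) (β : G → G → ℂˣ) : Prop where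
  ab : IsMulCommutative A
  mul_left : ∀ a ∈ A, ∀ b ∈ A, ∀ c ∈ A, β (a * b) c = β a c * β b c
  mul_right : ∀ a ∈ A, ∀ b ∈ A, ∀ c ∈ A, β a (b * c) = β a b * β a c
  alt : ∀ a ∈ A, β a a = 1
  nd : ∀ a ∈ A, a ≠ 1 → ∃ b ∈ A, β a b ≠ 1
  inv : ∀ n ∈ 𝐍[A], ∀ a ∈ A, ∀ b ∈ A, β (n * a * n⁻¹) (n * b * n⁻¹) = β a b

theorem CP.ND.af {X : CP G} {A : Subgroup G} (h : X.ND A) (hA : IsMulCommutative A) :
    AF A X.β where
  ab := hA
  mul_left _ ha _ hb _ hc := X.mul_left (comm_of_abelian hA ha hc) (comm_of_abelian hA hb hc)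
  mul_right _ ha _ hb _ hc := X.mul_right (comm_of_abelian hA ha hb) (comm_of_abelian hA ha hc)
  alt a _ := X.alt a
  nd a ha h1 := let ⟨b, hb, _, h2⟩ := h a ha h1; ⟨b, hb, h2⟩
  inv n _ _ ha _ hb := X.conj n (comm_of_abelian hA ha hb)

/-- Klein four-subgroup -/
def Klein (T : Subgroup G) : Prop := Nat.card T = 4 ∧ ∀ t ∈ T, t * t = 1

/-- `A = ⟨f, x⟩` is dihedral of order 8; its four-subgroups are `⟪f ^ 2⟫ ⊔ ⟪x⟫` and
`⟪f ^ 2⟫ ⊔ ⟪x * f⟫` -/
structure D8 (A : Subgroup G) (f x : G) : Prop where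
  of : orderOf f = 4
  ox : orderOf x = 2
  inv : x * f * x⁻¹ = f⁻¹
  gen : A = ⟪f⟫ ⊔ ⟪x⟫
  card : Nat.card A = 8

/-- a simple component -/
structure Comp (S : Subgroup G) : Prop where
  simple : IsSimpleGroup S
  nab : ¬ IsMulCommutative S
  norm : ∀ g : G, ∀ s ∈ S, s ≠ 1 → g * s * g⁻¹ ∈ S → g ∈ 𝐍[S]
  cent : ∀ g : G, g ∉ 𝐍[S] → g •ᶜ S ≤ 𝐂[S]
  syl : ∀ p : ℕ, p.Prime → ∀ P : Subgroup G, Syl p P ⊤ → Syl p (P ⊓ S) S

/-- the standing hypotheses -/
structure Hyp (X : CP G) : Prop where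
  top : X.ND ⊤
  syl : ∀ p : ℕ, p.Prime → ∀ P : Subgroup G, Syl p P ⊤ → X.ND P
  shape : ∀ p : ℕ, p.Prime → ∀ P : Subgroup G, Syl p P ⊤ →
    IsMulCommutative P ∨ Nat.card P = p ^ 4

/-- piece W -/
def StW : Prop := ∀ (G : Type u) [Group G] [Finite G] [IsSimpleGroup G], ¬ IsMulCommutative G →
  ∀ (A : Subgroup G) (β : G → G → ℂˣ), Syl 2 A ⊤ → AF A β → Nat.card A = 4

/-- piece F2 -/
def StSylND : Prop := ∀ (G : Type u) [Group G] [Finite G] (X : CExt G) (U P : Subgroup G) (p : ℕ),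
  p.Prime → X.cp.ND U → Syl p P U → X.cp.ND P

/-- piece F3 -/
def StNDSyl : Prop := ∀ (G : Type u) [Group G] [Finite G] (X : CExt G) (U : Subgroup G),
  (∀ p : ℕ, p.Prime → ∃ P : Subgroup G, Syl p P U ∧ X.cp.ND P) → X.cp.ND U

/-- the core statement; piece M1 is `StCore → S4562` -/
def StCore : Prop := ∀ (G : Type u) [Group G] [Finite G] [Nontrivial G] (X : CExt G), Hyp X.cp →
  ∃ N : Subgroup G, N.Normal ∧ N ≠ ⊥ ∧ IsMulCommutative N

/-- piece R -/
def StR : Prop := ∀ (G : Type u) [Group G] [Finite G] (X : CP G) (S P : Subgroup G) (p : ℕ),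
  Hyp X → Comp S → p.Prime → Syl p P ⊤ →
    (IsMulCommutative ↥(P ⊓ S) → X.ND (P ⊓ S)) ∧
    (¬ X.ND (P ⊓ S) → S.Normal ∧ Nat.card P = p ^ 4 ∧ Nat.card ↥(P ⊓ S) = p ^ 3)

/-- piece Two (uses `StW`, `StR`) -/
def StTwo : Prop := ∀ (G : Type u) [Group G] [Finite G] (X : CP G) (S P : Subgroup G),
  Hyp X → Comp S → Syl 2 P ⊤ → Klein (P ⊓ S) ∨
    ∃ f x w : G, D8 (P ⊓ S) f x ∧ w ∉ S ∧ w * w = 1 ∧ w ∈ 𝐂[P ⊓ S] ∧ P = (P ⊓ S) ⊔ ⟪w⟫

/-- piece Conj -/
def StConj : Prop := ∀ (G : Type u) [Group G] [Finite G] (A : Subgroup G), commutator G = ⊤ →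
  Syl 2 A ⊤ → (Klein A ∨ ∃ f x : G, D8 A f x) →
    (∀ s t : G, orderOf s = 2 → orderOf t = 2 → IsConj s t) ∧ (Klein A → ¬ 𝐍[A] ≤ 𝐂[A])

/-- piece Three (uses `StR`) -/
def StThree : Prop := ∀ (G : Type u) [Group G] [Finite G] (X : CP G) (S A P : Subgroup G),
  Hyp X → Comp S → Syl 2 A S → (Klein A ∨ ∃ f x : G, D8 A f x) → Syl 3 P ⊤ →
    IsMulCommutative ↥(P ⊓ S)

/-- no odd-order element of `N(T) \ C(T)` is good in `N(T)`, inside `Γ` -/
def NoGood (X : CP G) (Γ T : Subgroup G) : Prop := ∀ y ∈ Γ ⊓ 𝐍[T], y ∉ 𝐂[T] → Odd (orderOf y) →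
  ∃ m ∈ Γ ⊓ 𝐍[T], Commute y m ∧ X.β y m ≠ 1

/-- no non-trivial odd-order element is good -/
def OddND (X : CP G) : Prop := ∀ y : G, y ≠ 1 → Odd (orderOf y) → ∃ m, Commute y m ∧ X.β y m ≠ 1

/-- piece CharK -/
def StCharK : Prop := ∀ (G : Type u) [Group G] [Finite G] (X : CExt G) (T : Subgroup G),
  OddND X.cp → Syl 2 T ⊤ → Klein T → (∀ s t : G, orderOf s = 2 → orderOf t = 2 → IsConj s t) →
    NoGood X.cp ⊤ T

/-- piece CharD -/
def StCharD : Prop := ∀ (G : Type u) [Group G] [Finite G] (X : CExt G) (A : Subgroup G) (f x : G),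
  OddND X.cp → Syl 2 A ⊤ → D8 A f x → (∀ s t : G, orderOf s = 2 → orderOf t = 2 → IsConj s t) →
    NoGood X.cp ⊤ (⟪f ^ 2⟫ ⊔ ⟪x⟫)

/-- piece FinK -/
def StFinK : Prop := ∀ (G : Type u) [Group G] [Finite G] (X : CP G) (T : Subgroup G),
  Syl 2 T ⊤ → Klein T → ¬ 𝐍[T] ≤ 𝐂[T] →
  (∀ R : Subgroup G, Syl 3 R ⊤ → IsMulCommutative R ∧ X.ND R ∧ R ⊓ 𝐂[𝐍[R]] = ⊥) →
  NoGood X ⊤ T → False

/-- piece FinD -/
def StFinD : Prop := ∀ (G : Type u) [Group G] [Finite G] (X : CP G) (Γ A : Subgroup G) (f x w : G),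
  Γ.index = 2 → Syl 2 A Γ → D8 A f x → w ∉ Γ → w * w = 1 → w ∈ 𝐂[A] → X.ND (A ⊔ ⟪w⟫) →
  (∀ s ∈ Γ, ∀ t ∈ Γ, orderOf s = 2 → orderOf t = 2 → ∃ g ∈ Γ, g * s * g⁻¹ = t) →
  (∀ R : Subgroup G, Syl 3 R ⊤ → IsMulCommutative R ∧ X.ND R) →
  NoGood X Γ (⟪f ^ 2⟫ ⊔ ⟪x⟫) → NoGood X Γ (⟪f ^ 2⟫ ⊔ ⟪x * f⟫) → False

end Cfsg.Gag
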