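import Cfsg.Agent.Gag.Kl

/-!
# Gagola, short endgame: piece Dih
-/

set_option autoImplicit false

namespace Cfsg.Gag

open Subgroup Cfsg.FT Two Fin5 Sh
open scoped Pointwise IsMulCommutative commutatorElement

universe u

namespace Sh

variable {G : Type u} [Group G] [Finite G] {X : CP G} {D M P S : Subgroup G} {f x w z : G}

theorem exists_index_two (hP : Syl 2 P ⊤) (hi : M.relIndex P = 2) (hz : z ∈ P) (hzM : z ∉ M)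
    (h2 : z * z = 1) (hN : 𝐍[P] ≤ 𝐂₁[z]) : ∃ Γ : Subgroup G, Γ.index = 2 ∧ z ∉ Γ := by
  obtain ⟨P, rfl⟩ := syl_top_iff.1 hP
  haveI := normal_of_index_eq_two hi
  haveI : IsMulCommutative (P ⧸ M.subgroupOf (P : Subgroup G)) :=
    (isCyclic_of_prime_card (p := 2) hi).isMulCommutative
  have h1 : z ∉ (MonoidHom.transfer (QuotientGroup.mk' (M.subgroupOf (P : Subgroup G)))).ker := by
    rw [MonoidHom.mem_ker, transfer_inv P _ hz h2 hN]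
    exact fun e => hzM ((QuotientGroup.eq_one_iff (N := M.subgroupOf (P : Subgroup G)) _).1 e)
  refine ⟨_, ((Nat.dvd_prime Nat.prime_two).1 ?_).resolve_left fun e => h1 ?_, h1⟩
  · rw [index_ker]
    exact (card_subgroup_dvd_card _).trans hi.dvd
  · rw [index_eq_one.1 e]
    exact mem_top z

theorem pm_one {a : ℂˣ} (h : a ^ 2 = 1) : a = 1 ∨ a = -1 := by
  rw [Units.ext_iff, Units.val_pow_eq_pow_val, Units.val_one, sq_eq_one_iff] at h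
  exact h.imp Units.ext Units.ext

/-- the situation of piece Dih -/
structure DH (X : CP G) (S P : Subgroup G) (f x w : G) : Prop where
  hyp : Hyp X
  comp : Comp S
  syl : Syl 2 P ⊤
  d8 : D8 (P ⊓ S) f x
  wS : w ∉ S
  w2 : w * w = 1
  wC : w ∈ 𝐂[P ⊓ S]
  gen : P = (P ⊓ S) ⊔ ⟪w⟫

namespace DH

variable (h : DH X S P f x w)
include h

omit [Finite G] in
theorem swap : DH X S P f (x * f) w := ⟨h.1, h.2, h.3, d8_swap h.4, h.5, h.6, h.7, h.8⟩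

omit [Finite G] in
theorem nab : ¬ IsMulCommutative P := fun e =>
  d8_nc h.d8 (comm_of_abelian e (d8_fA h.d8).1 (d8_xA h.d8).1)

omit [Finite G] in
theorem card : Nat.card P = 2 ^ 4 := (h.hyp.shape 2 Nat.prime_two P h.syl).resolve_left h.nab

omit [Finite G] in
theorem nd : X.ND P := h.hyp.syl 2 Nat.prime_two P h.syl

omit [Finite G] in
theorem cent (hy : z ∈ 𝐂[P ⊓ S]) (hw : Commute z w) : z ∈ 𝐂[P] := by
  rw [h.gen, centY, cent_cycle]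
  exact ⟨hy, mem_cent1.2 hw⟩

omit [Finite G] in
theorem wZ : w ∈ 𝐙[P] := ⟨h.gen ▸ mem_sup_right (mem_zpowers w), h.cent h.wC (.refl w)⟩

omit [Finite G] in
theorem zD : f ^ 2 ∈ P ⊓ S := pow_mem (d8_fA h.d8) 2

omit [Finite G] in
theorem zZ : f ^ 2 ∈ 𝐙[P] := ⟨h.zD.1, h.cent (d8_cA h.d8) (h.wC _ h.zD)⟩

theorem kZ : Klein 𝐙[P] := ⟨card_center h.card h.nab h.nd,
  fun t ht => sq t ▸ (center_abelem h.card h.nab h.nd).2 t ht⟩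

theorem center : 𝐙[P] = ⟪w⟫ ⊔ ⟪f ^ 2⟫ := h.kZ.gen h.zZ h.wZ (d8_c_ne h.d8)
  (fun e => h.wS (e ▸ S.one_mem)) fun e => h.wS (e ▸ h.zD.2)

omit [Finite G] in
theorem BP : ⟪f ^ 2⟫ ⊔ ⟪x⟫ ⊔ ⟪w⟫ ≤ P :=
  sup_le ((d8_TA h.d8).trans inf_le_left) (zpowers_le.2 h.wZ.1)

theorem ZB : 𝐙[P] ≤ ⟪f ^ 2⟫ ⊔ ⟪x⟫ ⊔ ⟪w⟫ :=
  h.center.le.trans (sup_le le_sup_right (le_sup_left.trans le_sup_left))

omit [Finite G] in
theorem abelemB : IsElementaryAbelian 2 (⟪f ^ 2⟫ ⊔ ⟪x⟫ ⊔ ⟪w⟫) :=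
  abelem_sup (d8_klein h.d8).abelem (cycle_abelem (sq w ▸ h.w2))
    (zpowers_le.2 (centS (d8_TA h.d8) h.wC))

omit [Finite G] in
theorem fB : f ∉ ⟪f ^ 2⟫ ⊔ ⟪x⟫ ⊔ ⟪w⟫ := fun e => d8_c_ne h.d8 (h.abelemB.2 f e)

theorem cardB : Nat.card ↥(⟪f ^ 2⟫ ⊔ ⟪x⟫ ⊔ ⟪w⟫) = 8 := by
  have h1 := card_sup h.syl.pgroup ((d8_TA h.d8).trans inf_le_left) h.wZ.1
    fun e => h.wS (d8_TA h.d8 e).2
  have h2 := card_sup h.syl.pgroup h.BP (d8_fA h.d8).1 h.fB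
  have h3 := card_le_of_le (sup_le h.BP (zpowers_le.2 (d8_fA h.d8).1))
  rw [(d8_klein h.d8).1] at h1
  rw [h.card] at h3
  omega

theorem xZ : x ∉ 𝐙[P] := fun e => d8_nc h.d8 (e.2 f (d8_fA h.d8).1)

theorem ker_eq {v : G} (hv : v ∈ 𝐙[P]) (h1 : v ≠ 1) (hz : X.β v (f ^ 2) = 1) (hx : X.β v x = 1)
    (hw : X.β v w = 1) (p : G) (hp : p ∈ P) : X.β v p = 1 ↔ p ∈ ⟪f ^ 2⟫ ⊔ ⟪x⟫ ⊔ ⟪w⟫ := by
  have k : ∀ p ∈ P, X.β v p = 1 → ⟪p⟫ ≤ X.ker v := fun p hp e =>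
    zpowers_le.2 (X.mem_ker.2 ⟨(hv.2 p hp).symm, e⟩)
  have h2 := sup_le (sup_le (k _ h.zZ.1 hz) (k _ (d8_xA h.d8).1 hx)) (k _ h.wZ.1 hw)
  refine ⟨fun e => not_not.1 fun hn => ?_, fun e => (X.mem_ker.1 (h2 e)).2⟩
  obtain ⟨y, hy, -, h3⟩ := h.nd v hv.1 h1
  exact h3 (X.mem_ker.1 ((sup_eq h.syl.pgroup h.BP (by rw [h.card, h.cardB]; rfl) hp hn).ge.trans
    (sup_le h2 (k p hp e)) hy)).2

theorem not_both {y : G} (hy : y ∈ P) (hy' : y ∉ 𝐙[P]) (hz : X.β (f ^ 2) y = 1) : X.β w y ≠ 1 :=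
  fun hw => by
    obtain ⟨v, hv, h1⟩ := exists_center h.card h.nab h.nd hy hy'
    have k : ∀ p ∈ 𝐙[P], X.β p y = 1 → ⟪p⟫ ≤ X.ker y := fun p hp e =>
      zpowers_le.2 (X.mem_ker.2 ⟨hp.2 y hy, (X.symm_eq_one (hp.2 y hy).symm).2 e⟩)
    exact h1 (X.mem_ker.1 (sup_le (k _ h.wZ hw) (k _ h.zZ hz) (h.center ▸ hv))).2

theorem fus : ∃ g ∈ 𝐍[⟪f ^ 2⟫ ⊔ ⟪x⟫ ⊔ ⟪w⟫], Odd (orderOf g) ∧ g ∉ 𝐂[⟪f ^ 2⟫ ⊔ ⟪x⟫ ⊔ ⟪w⟫] := by
  have hA := h.comp.syl 2 Nat.prime_two P h.syl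
  have hT := d8_klein h.d8
  obtain ⟨g, hg, e⟩ := (Core.conj_sub stConj (Core.comp_der h.comp) hA (.inr ⟨f, x, h.d8⟩)).1 _ h.zD.2
    _ (d8_xA h.d8).2 (d8_oc h.d8) h.d8.ox
  obtain ⟨n, hn, hn'⟩ := d8_exists_three h.d8 hA hg e
  have hB : Syl 2 (⟪f ^ 2⟫ ⊔ ⟪x⟫ ⊔ ⟪w⟫) 𝐂[⟪f ^ 2⟫ ⊔ ⟪x⟫] := by
    refine max_pgroup_Sylow (sub_abelian_cent h.abelemB.1 le_sup_left) (abelem_pgroup h.abelemB)
      fun R h1 h2 h3 => not_not.1 fun hne => ?_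
    have h4 := card_mul_le_of_lt h3 (lt_of_le_of_ne h1 (Ne.symm hne))
    obtain ⟨k, -, rfl⟩ := Sylow_trans h.syl (h.syl.of_card_le le_top h3
      (by rwa [h.cardB, show 8 * 2 = 2 ^ 4 from rfl, ← h.card] at h4))
    have h5 : ⟪f ^ 2⟫ ⊔ ⟪x⟫ = k •ᶜ 𝐙[P] := card_eq_of_le
      (center_conj k P ▸ le_inf (le_sup_left.trans h1) (centsC.1 h2)) (by rw [card_conj, h.kZ.1, hT.1])
    have h6 : k •ᶜ 𝐙[P] ≤ S := h5 ▸ (d8_TA h.d8).trans inf_le_right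
    exact h.wS ((memJ_norm (h.comp.norm k _ h.zD.2 (d8_c_ne h.d8) (h6 (conj_mem_conj.2 h.zZ)))).1
      (h6 (conj_mem_conj.2 h.wZ)))
  obtain ⟨k, hk, m, hm, rfl⟩ := (Frattini_arg (cent_normal _) hB).exists_mul hn.2
  obtain ⟨j, hj⟩ := exists_odd_pow m
  have h1 : m ^ 2 ∉ 𝐂[⟪f ^ 2⟫ ⊔ ⟪x⟫] := fun e => hn' (by
    simpa [sq, mul_assoc] using mul_mem (mul_mem hk ((cent_normal _).conj_mem hm.1 hk)) e)
  exact ⟨_, pow_mem hm.2 _, hj, fun e => h1 (pow_mem (mem_of_pow_coprime (centS le_sup_left e)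
    ((klein_or hT hm.1).resolve_left h1) (Nat.Coprime.pow_left j (by norm_num))) 2)⟩

theorem cfg (hx : X.β w x = 1) : ∃ (Γ A B : Subgroup G) (z c d : G), Cfg X Γ P A B z c d := by
  have hN := norm_le_cent h.card h.nab h.nd h.syl
  rw [top_inf_eq] at hN
  have hw1 : w ≠ 1 := fun e => h.wS (e ▸ S.one_mem)
  have hf := (d8_fA h.d8).1
  have hxP := (d8_xA h.d8).1
  obtain ⟨Γ, hΓ, hw⟩ := exists_index_two h.syl (M := P ⊓ S) (by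
    have := card_mul_relIndex (inf_le_left : P ⊓ S ≤ P)
    rw [h.d8.card, h.card] at this
    omega) h.wZ.1 (fun e => h.wS e.2) h.w2 (hN.trans (cent_le_cent1 h.wZ))
  have c : ∀ {v p}, v ∈ 𝐙[P] → p ∈ P → Commute v p := fun hv hp => (hv.2 _ hp).symm
  have pm : ∀ {v p}, v ∈ 𝐙[P] → p ∈ P → X.β v p ≠ 1 → X.β v p = -1 := fun hv hp e =>
    (pm_one (X.pow_eq_one_of_left (c hv hp) (h.kZ.abelem.2 _ hv))).resolve_left e
  have zf : X.β (f ^ 2) f = 1 := by rw [sq, self_sq]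
  have wz : X.β w (f ^ 2) = 1 := by
    rw [X.pow_right (c h.wZ hf), X.pow_eq_one_of_left (c h.wZ hf) (sq w ▸ h.w2)]
  have wf := pm h.wZ hf (h.not_both hf (fun e => d8_nc h.d8 (c e hxP)) zf)
  have zx := pm h.zZ hxP fun e => h.not_both hxP h.xZ e hx
  have hd := mul_mem h.wZ h.zZ
  have hAB : (⟪f ^ 2⟫ ⊔ ⟪x * f⟫ ⊔ ⟪w⟫) ⊓ (⟪f ^ 2⟫ ⊔ ⟪x⟫ ⊔ ⟪w⟫) = 𝐙[P] := by
    refine (card_eq_of_le (le_inf h.swap.ZB h.ZB) ?_).symm
    have := card_mul_le_of_lt (abelem_pgroup h.abelemB) (inf_lt_right.2 fun e => h.swap.fB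
      ((mul_mem_cancel_left (e (mem_sup_left d8_xT))).1 (mem_sup_left d8_xT)) :
      (⟪f ^ 2⟫ ⊔ ⟪x * f⟫ ⊔ ⟪w⟫) ⊓ (⟪f ^ 2⟫ ⊔ ⟪x⟫ ⊔ ⟪w⟫) < _)
    rw [h.cardB] at this
    rw [h.kZ.1]
    omega
  refine ⟨Γ, _, _, f ^ 2, w, w * f ^ 2, hΓ, hw, sq_mem_of_index_two hΓ f, h.syl, h.card, h.swap.cardB,
    h.cardB, h.swap.BP, h.BP, fun a ha => sq a ▸ h.swap.abelemB.2 a ha,
    fun a ha => sq a ▸ h.abelemB.2 a ha, fun p hp p2 => ?_, fun y => ?_, d8_c_ne h.d8, rfl,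
    fun a ha ha' b hb hb' => ?_, h.ker_eq h.wZ hw1 wz hx (X.alt w), h.swap.ker_eq hd
      (fun e => h.wS ((S.mul_mem_cancel_right h.zD.2).1 (e ▸ S.one_mem))) ?_ ?_ ?_, fun e => ?_,
    h.swap.fus, h.fus⟩
  · obtain ⟨a, ha, k, hk, rfl⟩ := (mem_join_norm (zpowers_le.2 (cent_sub _ h.wC))).1 (h.gen ▸ hp)
    have h1 : a * a = 1 := by
      rcases cyc2 h.w2 hk with rfl | rfl
      · simpa using p2
      · rwa [(show Commute a k from h.wC a ha).symm.mul_mul_mul_comm, h.w2, mul_one] at p2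
    exact (d8_invol h.d8 ha h1).symm.imp (fun e => mul_mem (mem_sup_left e) (mem_sup_right hk))
      fun e => mul_mem (mem_sup_left e) (mem_sup_right hk)
  · rw [hAB]
    refine ⟨Cj.klein_mem h.kZ h.zZ h.wZ (d8_c_ne h.d8) hw1 fun e => h.wS (e ▸ h.zD.2), ?_⟩
    rintro (rfl | rfl | rfl | rfl)
    exacts [one_mem _, h.zZ, h.wZ, hd]
  · have h1 : ⁅f, x⁆ = f ^ 2 := by rw [commutatorElement_def, d8_fx h.d8, mul_inv_cancel_right]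
    have h2 := der_eq h.card h.nab h.nd hf hxP (h1 ▸ d8_c_ne h.d8)
    rcases cyc2 (d8_f4 h.d8) (h1 ▸ h2 ▸ mem_commg (h.swap.BP ha) (h.BP hb)) with e | e
    · refine absurd (h.ZB ⟨h.swap.BP ha, le_cent1.1 ((sup_eq h.syl.pgroup h.swap.BP
        (by rw [h.card, h.swap.cardB]; rfl) (h.BP hb) hb').ge.trans (sup_le (le_cent1.2
        (abelian_iff.1 h.swap.abelemB.1 ha)) (zpowers_le.2 (mem_cent1.2 ?_))))⟩) ha'
      exact (commutatorElement_eq_one_iff_mul_comm.1 e).symm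
    · rw [commutatorElement_def, mul_inv_eq_iff_eq_mul] at e
      rw [e, c h.zZ (h.BP hb)]
  · rw [X.mul_left (c h.wZ h.zZ.1) (.refl _), wz, X.alt, one_mul]
  · rw [X.mul_left (c h.wZ (mul_mem hxP hf)) (c h.zZ (mul_mem hxP hf)),
      X.mul_right (c h.wZ hxP) (c h.wZ hf), X.mul_right (c h.zZ hxP) (c h.zZ hf), hx, wf, zx, zf]
    simp
  · rw [X.mul_left (.refl _) (c h.zZ h.wZ.1), X.alt, one_mul, X.symm_eq_one (c h.wZ h.zZ.1), wz]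
  · obtain ⟨g, hg⟩ := isConj_iff.1 e
    obtain ⟨Q, rfl⟩ := syl_top_iff.1 h.syl
    obtain ⟨n, hn, e⟩ := Q.conj_eq_normalizer_conj_of_mem_centralizer w g⁻¹ h.wZ.2
      (by rw [inv_inv, hg]; exact hd.2)
    rw [inv_inv, hg, mul_assoc, hN hn w h.wZ, inv_mul_cancel_left, mul_eq_left] at e
    exact d8_c_ne h.d8 e

end DH

end Sh

theorem stDih : StDih.{u} := by
  intro G _ _ X S P f x w h1 h2 h3 h4 h5 h6 h7 h8
  have h : DH X S P f x w := ⟨h1, h2, h3, h4, h5, h6, h7, h8⟩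
  by_cases hx : X.β w x = 1
  · exact h.cfg hx
  refine h.swap.cfg ?_
  have hf := (d8_fA h4).1
  have hxP := (d8_xA h4).1
  have c : ∀ {p}, p ∈ P → Commute w p := fun hp => (h.wZ.2 _ hp).symm
  have pm : ∀ {p}, p ∈ P → X.β w p ≠ 1 → X.β w p = -1 := fun hp e =>
    (pm_one (X.pow_eq_one_of_left (c hp) (sq w ▸ h6))).resolve_left e
  rw [X.mul_right (c hxP) (c hf), pm hxP hx, pm hf (h.not_both hf
    (fun e => d8_nc h4 (e.2 x hxP).symm) (by rw [sq, self_sq]))]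
  simp

end Cfsg.Gag
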