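import Cfsg.Agent.Gag.FinBase

/-!
# Pieces FinK / FinD: the element `v` (steps D1, D2)
-/

set_option autoImplicit false
set_option linter.style.haveILetI false

namespace Cfsg.Gag.Fin5

open Subgroup Cfsg.FT
open scoped Pointwise

universe u

variable {G : Type u} [Group G] {X : CP G} {Γ K M L P T R W : Subgroup G} {x y n v s t r : G}

instance : Fact (Nat.Prime 3) := ⟨Nat.prime_three⟩

/-- the data attached to a Klein four-subgroup -/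
structure DK (X : CP G) (Γ T R : Subgroup G) (v : G) : Prop where
  kl : Klein T
  sylR : Syl 3 R Γ
  RN : R ≤ 𝐍[T]
  RC : ¬ R ≤ 𝐂[T]
  vR : v ∈ R
  perp : ∀ r ∈ R, X.β v r = 1 ↔ r ∈ 𝐂[T]
  sylT : Syl 2 T (Γ ⊓ 𝐂₁[v])
  odd : ∀ y ∈ R, y ∉ 𝐂[T] → Odd (Nat.card ↥(Γ ⊓ 𝐂₁[v] ⊓ 𝐂₁[y]))

theorem pelt3 [Finite G] (hR : IsPGroup 3 R) (hr : r ∈ R) : PiElt {3} r :=
  (piSub_singleton.2 hR).piElt hr

theorem odd_of_pelt3 [Finite G] (h : PiElt {3} r) : Odd (orderOf r) := by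
  obtain ⟨k, hk⟩ := piElt_singleton.1 h
  rw [hk]
  exact Odd.pow (by decide)

theorem beta_23 [Finite G] (X : CP G) (hv : PiElt {3} v) (ht : PiElt {2} t) (h : Commute v t) :
    X.β v t = 1 :=
  X.eq_one_of_coprime h (PiNat.coprime_of_disjoint hv ht fun p h1 h2 => by
    rw [Set.mem_singleton_iff] at h1 h2; omega)

theorem beta_conj (X : CP G) (hn : Commute n v) (h : Commute v y) :
    X.β v (n * y * n⁻¹) = X.β v y := by
  have := X.conj n h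
  rwa [hn.eq, mul_inv_cancel_right] at this

theorem exists_v [Finite G] (hab : IsMulCommutative R) (hT : Klein T)
    (hR : Syl 3 R (Γ ⊓ 𝐍[T])) (hRC : ¬ R ≤ 𝐂[T]) (hng : NoGood X Γ T) :
    ∃ v ∈ R, ∀ r ∈ R, X.β v r = 1 ↔ r ∈ 𝐂[T] := by
  obtain ⟨y, hy, hyC⟩ := SetLike.not_le_iff_exists.1 hRC
  have hc : ∀ a ∈ R, ∀ b ∈ R, Commute a b := fun a ha b hb => comm_of_abelian hab ha hb
  have ho : ∀ a ∈ R, Odd (orderOf a) := fun a ha => odd_of_pelt3 (pelt3 hR.pgroup ha)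
  obtain ⟨v, hv, h1, h2⟩ := exists_perp X hab hy hyC fun r hr hrC => by
    obtain ⟨m, hm, h3, h4⟩ := hng r (hR.le hr) hrC (ho r hr)
    by_contra h5
    push Not at h5
    exact h4 (triv_of_syl X (pelt3 hR.pgroup hr) inf_le_right
      (hR.subl (le_inf hR.le fun a ha => mem_cent1.2 (hc a ha r hr)) inf_le_left) h5
      ⟨hm, mem_cent1.2 h3.symm⟩)
  refine ⟨v, hv, fun r hr => ⟨fun h => ?_, h1 r hr⟩⟩
  by_contra hrC
  rcases klein_three hT (hR.le hy).2 (hR.le hr).2 (ho y hy) (ho r hr) hyC hrC with h3 | h3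
  · have := h1 _ (R.mul_mem hr (R.inv_mem hy)) h3
    rw [X.mul_right (hc v hv r hr) (hc v hv y hy).inv_right, X.inv_right (hc v hv y hy), h,
      one_mul, inv_eq_one] at this
    exact h2 this
  · have := h1 _ (R.mul_mem hr hy) h3
    rw [X.mul_right (hc v hv r hr) (hc v hv y hy), h, one_mul] at this
    exact h2 this

theorem exists_DK [Finite G] (H3 : ∀ Q, Syl 3 Q Γ → IsMulCommutative Q) (hT : Klein T)
    (hsyl : Syl 2 T (Γ ⊓ 𝐂[T])) (hR : Syl 3 R (Γ ⊓ 𝐍[T])) (hRC : ¬ R ≤ 𝐂[T])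
    (hng : NoGood X Γ T) : ∃ v, DK X Γ T R v := by
  obtain ⟨Q, hQ, hRQ⟩ := Sylow_superset (hR.le.trans inf_le_left) hR.pgroup
  have hab : IsMulCommutative R := abelianS hRQ (H3 Q hQ)
  obtain ⟨v, hv, hp⟩ := exists_v hab hT hR hRC hng
  obtain ⟨y, hy, hyC⟩ := SetLike.not_le_iff_exists.1 hRC
  have hc : ∀ a ∈ R, ∀ b ∈ R, Commute a b := fun a ha b hb => comm_of_abelian hab ha hb
  have ho : ∀ a ∈ R, Odd (orderOf a) := fun a ha => odd_of_pelt3 (pelt3 hR.pgroup ha)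
  have v3 : PiElt {3} v := pelt3 hR.pgroup hv
  have hvT : v ∈ 𝐂[T] := (hp v hv).1 (X.alt v)
  have hTΓ : T ≤ Γ := hsyl.le.trans inf_le_left
  have hTab : T ≤ 𝐂[T] := hsyl.le.trans inf_le_right
  set C := Γ ⊓ 𝐂₁[v] with hC
  have hTC : T ≤ C := le_inf hTΓ (le_cent1.2 hvT)
  have hRC' : R ≤ C := le_inf (hR.le.trans inf_le_left) fun a ha => mem_cent1.2 (hc a ha v hv)
  have cv : ∀ a ∈ C, Commute v a := fun a ha => (mem_cent1.1 ha.2).symm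
  have hW : Syl 3 (R ⊓ (Γ ⊓ 𝐂[T])) (Γ ⊓ 𝐂[T]) := Sylow_setI_normal (subcent_normal Γ T) hR
  have hW' : Syl 3 (R ⊓ (Γ ⊓ 𝐂[T])) (C ⊓ 𝐂[T]) :=
    hW.subl (le_inf (inf_le_left.trans hRC') (inf_le_right.trans inf_le_right))
      (inf_le_inf_right _ inf_le_left)
  have triv : ∀ a ∈ C, a ∈ 𝐂[T] → X.β v a = 1 := fun a ha h =>
    triv_of_syl X v3 (inf_le_left.trans inf_le_right) hW' (fun s hs => (hp s hs.1).2 hs.2.2) ⟨ha, h⟩
  have hyv : X.β v y ≠ 1 := fun h => hyC ((hp y hy).1 h)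
  have hy3 : X.β v y ^ 3 = 1 := by
    rw [← X.pow_right (hc v hv y hy)]
    exact (hp _ (R.pow_mem hy 3)).2 (klein_cube hT (hR.le hy).2 (ho y hy))
  have hRM : Syl 3 R (C ⊓ 𝐍[T]) :=
    hR.subl (le_inf hRC' (hR.le.trans inf_le_right)) (inf_le_inf_right _ inf_le_left)
  -- `T` is a Sylow subgroup of `C`
  have hTM : Syl 2 T (C ⊓ 𝐍[T]) := by
    refine max_pgroup_Sylow (le_inf hTC (normG T)) hsyl.pgroup fun S h1 h2 h3 => ?_
    refine hsyl.eq_of_le h3 h1 (le_inf (h2.trans (inf_le_left.trans inf_le_left)) fun h hh => ?_)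
    by_contra hhC
    have h4 : h ^ 2 ∈ 𝐂[T] := by
      refine (klein_or hT (h2 hh).2).resolve_right fun h5 => hhC ?_
      obtain ⟨k, hk⟩ := h3 ⟨h, hh⟩
      exact mem_of_pow_coprime h5 (b := 2 ^ k)
        (by rw [show h ^ 2 ^ k = 1 from congrArg Subtype.val hk]; exact one_mem _)
        (Nat.Coprime.pow_right _ (by decide))
    have h5 := klein_inv hT (hR.le hy).2 (h2 hh).2 (ho y hy) h4 hhC
    have h6 : h * y * h⁻¹ ∈ C := C.mul_mem (C.mul_mem (h2 hh).1 (hRC' hy)) (C.inv_mem (h2 hh).1)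
    have h7 := triv _ (C.mul_mem h6 (hRC' hy)) h5
    rw [X.mul_right (cv _ h6) (hc v hv y hy), beta_conj X (cv _ (h2 hh).1).symm (hc v hv y hy)]
      at h7
    rw [pow_succ, pow_two, h7, one_mul] at hy3
    exact hyv hy3
  have hTS : Syl 2 T C := (Sylow_subnorm hTC).1 hTM
  set C₀ := C ⊓ X.ker v with hC₀
  have mem0 : ∀ a ∈ C, a ∈ C₀ ↔ X.β v a = 1 := fun a ha =>
    ⟨fun h => (X.mem_ker.1 h.2).2, fun h => ⟨ha, X.mem_ker.2 ⟨cv a ha, h⟩⟩⟩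
  have hn0 : C₀ ⊴ C := normalGI inf_le_right (X.ker_normal v)
  have hT0 : T ≤ C₀ := fun t ht => (mem0 t (hTC ht)).2 (triv t (hTC ht) (hTab ht))
  have hTS0 : Syl 2 T C₀ := hTS.subl hT0 hn0.le
  have hN0 : C₀ ⊓ 𝐍[T] ≤ 𝐂[T] := fun n hn => by
    have hn' : n ∈ C ⊓ 𝐍[T] := ⟨hn.1.1, hn.2⟩
    rcases klein_or hT hn.2 with h | h
    · exact (mem_of_syl (subcent_normal C T) hTM (le_inf hTC hTab) hn' (k := 1)
        ⟨C.pow_mem hn'.1 _, h⟩).2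
    · have h1 : C₀ ⊓ 𝐍[T] ⊴ C ⊓ 𝐍[T] := by
        have := normalIG (inf_le_left : C ⊓ 𝐍[T] ≤ C) hn0
        rwa [← inf_assoc, inf_eq_left.2 hn0.le] at this
      refine (mem_of_syl (subcent_normal C₀ T) (Sylow_setI_normal h1 hRM) (fun r hr => ?_) hn
        (k := 1) ⟨C₀.pow_mem hn.1 _, h⟩).2
      exact ⟨hr.2.1, (hp r hr.1).1 ((mem0 r hr.2.1.1).1 hr.2.1)⟩
  have hsd : SDProd (core {2}ᶜ C₀) T C₀ := (Burnside_normal_complement hTS0 hN0).sdprod hTS0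
  set Y := core {2}ᶜ C₀ with hY
  have hYo : ¬ 2 ∣ Nat.card Y := p'core_not_dvd 2 C₀
  have hYn : Y ⊴ C := hn0.core _
  have hQC : Q ≤ C := le_inf hQ.le fun a ha => mem_cent1.2 (comm_of_abelian (H3 Q hQ) ha (hRQ hv))
  have hQS : Syl 3 Q C := hQ.subl hQC inf_le_left
  -- a `T`-invariant Sylow 3-subgroup of `Y` is centralised by `T`
  obtain ⟨X₃, hX, hTX⟩ := sol_coprime_Sylow_exists 3 (H := Y) (A := T)
    (Or.inr (pgroup_sol hsyl.pgroup)) hsd.norm (coprime_pgroup hsyl.pgroup hYo).symm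
  have hXC : X₃ ≤ C := hX.le.trans hYn.le
  obtain ⟨Q', hQ', hXQ⟩ := Sylow_superset hXC hX.pgroup
  have hQ'ab := H3 Q' (hQ.of_card_eq (hQ'.le.trans inf_le_left) (hQ'.card_eq hQS))
  have hQK : Q' ≤ C ⊓ 𝐂[X₃] := le_inf hQ'.le (sub_abelian_cent hQ'ab hXQ)
  have hKM := subcent_normal C X₃
  have hQM : Syl 3 Q' (C ⊓ 𝐍[X₃]) := hQ'.subl (hQK.trans hKM.le) inf_le_left
  have hTX' : T ≤ 𝐂[X₃] := by
    obtain ⟨ξ, hξ, m, hm, e⟩ := (Frattini_arg hYn hX).exists_mul (hRC' hy)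
    have hTM' : T ≤ C ⊓ 𝐍[X₃] := le_inf hTC hTX
    obtain ⟨m₀, hm₀, n, hn, e'⟩ := (Frattini_arg (normalGI (inf_le_left : C ⊓ 𝐍[X₃] ≤ C) hn0)
      (hTS0.subl (le_inf hTM' hT0) inf_le_right)).exists_mul hm
    have h1 : X.β v n ≠ 1 := by
      rwa [e, e', X.mul_right (cv _ (hYn.le hξ)) (cv _ (e' ▸ hm.1)),
        X.mul_right (cv _ hm₀.1.1) (cv _ hn.1.1), (mem0 _ (hYn.le hξ)).1 (hsd.left_le hξ),
        (mem0 _ hm₀.1.1).1 hm₀.2, one_mul, one_mul] at hyv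
    have h2 : constt {3} n ∈ C ⊓ 𝐍[X₃] ⊓ 𝐍[T] := constt_mem _ hn
    have h2' : constt {3}ᶜ n ∈ C := constt_mem _ hn.1.1
    have h3 : constt {3} n ∉ 𝐂[T] := fun h => h1 (by
      rw [← consttC {3} n, X.mul_right (cv _ h2.1.1) (cv _ h2'), triv _ h2.1.1 h, one_mul]
      exact X.eq_one_of_coprime (cv _ h2') (PiNat.coprime v3 (p_elt_constt _ n)))
    have h4 := p_elt_constt {3} n
    generalize constt {3} n = a at h2 h3 h4
    have h5 : a ∈ C ⊓ 𝐂[X₃] := by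
      obtain ⟨k, hk⟩ := piElt_singleton.1 h4
      exact mem_of_syl hKM hQM hQK h2.1 (k := k) (by rw [← hk, pow_orderOf_eq_one]; exact one_mem _)
    have h6 := coprime_cent_prod (H := T) (A := ⟪a⟫) (zpowers_le.2 h2.2)
      (coprime_pgroups hsyl.pgroup (piElt_singleton_iff_pgroup.1 h4) (by decide))
      (solOr_cycle T a)
    have h7 : T ⊓ 𝐂[⟪a⟫] = ⊥ := eq_bot_iff.2 fun t ht => by
      by_contra h8
      exact h3 (klein_fix hT h2.2 (odd_of_pelt3 h4) ht.1 h8 (ht.2 a (mem_zpowers a)))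
    rw [h7, sup_bot_eq] at h6
    rw [← h6, commGC]
    exact ((commSg T (zpowers_le.2 h5)).trans (hKM.commg_le hTM')).trans inf_le_right
  have hX0 : Syl 3 X₃ C₀ := hX.trans_index hsd.left_le (by rw [index_sdprod hsd, hT.1]; decide)
  have hW0 : Syl 3 (R ⊓ (Γ ⊓ 𝐂[T])) C₀ :=
    hX0.of_card_le (fun r hr => (mem0 r (hRC' hr.1)).2 ((hp r hr.1).2 hr.2.2)) hW.pgroup
      (Nat.le_of_dvd Nat.card_pos (hW.card_dvd
        (le_inf (hXC.trans inf_le_left) (centsC.1 hTX')) hX.pgroup))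
  have hQ0 : Q ⊓ C₀ = R ⊓ (Γ ⊓ 𝐂[T]) :=
    hW0.eq_of_le (hQ.pgroup.to_le inf_le_left) (le_inf (inf_le_left.trans hRQ) hW0.le) inf_le_right
  have hQR : Q ≤ R := fun q hq => by
    obtain ⟨c, hc₀, n, hn, e⟩ := (Frattini_arg hn0 hTS0).exists_mul (hQC hq)
    obtain ⟨r, hr, e'⟩ := exists_syl_val X v3 (inf_le_left.trans inf_le_right) hRM hn
    have h1 : q * r⁻¹ ∈ Q ⊓ C₀ := by
      refine ⟨Q.mul_mem hq (Q.inv_mem (hRQ hr)),
        (mem0 _ (C.mul_mem (hQC hq) (C.inv_mem (hRC' hr)))).2 ?_⟩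
      rw [X.mul_right (cv _ (hQC hq)) (hc v hv r hr).inv_right, X.inv_right (hc v hv r hr), ← e', e,
        X.mul_right (cv _ hc₀.1) (cv _ hn.1), (mem0 _ hc₀.1).1 hc₀, one_mul, mul_inv_cancel]
    rw [hQ0] at h1
    simpa using R.mul_mem h1.1 hr
  refine ⟨v, hT, le_antisymm hQR hRQ ▸ hQ, hR.le.trans inf_le_right, hRC, hv, hp, hTS,
    fun z hz hzC => ?_⟩
  rw [← Nat.not_even_iff_odd, even_iff_two_dvd]
  intro h
  obtain ⟨t, ht, ot⟩ := Cauchy Nat.prime_two h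
  have h1 : t ∈ C₀ := (mem0 t ht.1).2 (beta_23 X v3 (piElt_singleton.2 ⟨1, ot⟩) (cv t ht.1))
  obtain ⟨ξ, hξ, s, hs, e⟩ := hsd.exists_mul h1
  have h2 : s ≠ 1 := fun h2 => hYo (by
    rw [← ot, e, h2, mul_one]; exact Y.orderOf_dvd_natCard hξ)
  have h3 := eq_of_mul_eq_of_TI hsd.inf_eq (hYn.conj_mem (hRC' hz) hξ) hξ
    ((memJ_norm (hR.le hz).2).2 hs) hs (by
      rw [← e, show z * ξ * z⁻¹ * (z * s * z⁻¹) = z * (ξ * s) * z⁻¹ by group, ← e,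
        ← mem_cent1.1 ht.2, mul_inv_cancel_right])
  exact hzC (klein_fix hT (hR.le hz).2 (ho z hz) hs h2 (mul_inv_eq_iff_eq_mul.1 h3.2))

end Cfsg.Gag.Fin5
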