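import Cfsg.Agent.Gag.FinD8

/-!
# Piece FinD
-/

set_option autoImplicit false
set_option linter.style.haveILetI false

namespace Cfsg.Gag.Fin5

open Subgroup Cfsg.FT
open scoped Pointwise

universe u

variable {G : Type u} [Group G] {X : CP G} {Γ A T T₂ R : Subgroup G} {f x r g n v w v₂ w₂ τ u : G}

/-- the data attached to a four-subgroup of a dihedral Sylow subgroup of `Γ` -/
structure DD (X : CP G) (Γ T R : Subgroup G) (v w : G) : Prop extends DK X Γ T R v where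
  wΓ : w ∉ Γ
  ww : w * w = 1
  wT : w ∈ 𝐂[T]
  wR : w ∈ 𝐍[R]
  wc : ∀ r ∈ R, w * r * w⁻¹ * r⁻¹ ∈ 𝐂[T]
  sylw : Syl 2 T (Γ ⊓ X.ker w)
  pro : ∀ g ∈ Γ, ∀ L ≤ Γ, T ≤ L → g •ᶜ T ≤ L → ∃ c ∈ L, c •ᶜ T = g •ᶜ T

theorem ker_conj (X : CP G) (g w : G) : X.ker (g * w * g⁻¹) = g •ᶜ X.ker w := by
  ext y
  rw [mem_conj, X.mem_ker, X.mem_ker]
  have e : ∀ {a b : G} (g : G), Commute a b → Commute (g * a * g⁻¹) (g * b * g⁻¹) := fun g h => by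
    simpa using h.map (MulAut.conj g)
  refine ⟨fun h => ?_, fun h => ?_⟩
  · have h1 := e g⁻¹ h.1
    have h2 := X.conj g⁻¹ h.1
    simp only [inv_inv, ← mul_assoc, inv_mul_cancel, one_mul, inv_mul_cancel_right] at h1 h2
    exact ⟨h1, h2.trans h.2⟩
  · have h1 := e g h.1
    have h2 := X.conj g h.1
    simp only [← mul_assoc, mul_inv_cancel, one_mul, mul_inv_cancel_right] at h1 h2
    exact ⟨h1, h2.trans h.2⟩

theorem unip [Finite G] (hR : Syl 3 R Γ) (hab : IsMulCommutative R) (hτ : τ ∈ Γ ⊓ 𝐍[R])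
    (hr : r ∈ R) (e : τ * r * τ⁻¹ = r * u) (hc : Commute τ u) (h3 : u ^ 3 = 1) : u = 1 := by
  have e' : τ * u * τ⁻¹ = u := by rw [hc.eq, mul_inv_cancel_right]
  have h1 : ∀ k : ℕ, τ ^ k * r * (τ ^ k)⁻¹ = r * u ^ k := fun k => by
    induction k with
    | zero => simp
    | succ k ih =>
      rw [show τ ^ (k + 1) * r * (τ ^ (k + 1))⁻¹ = τ * (τ ^ k * r * (τ ^ k)⁻¹) * τ⁻¹ by group, ih,
        show τ * (r * u ^ k) * τ⁻¹ = τ * r * τ⁻¹ * (τ * u ^ k * τ⁻¹) by group, ← conj_pow, e, e']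
      group
  have h2 := cube_comm hR hab hτ hr (mul_inv_eq_iff_eq_mul.1 (by rw [h1 3, h3, mul_one]))
  rwa [h2.eq, mul_inv_cancel_right, left_eq_mul] at e

theorem eq_one_of_sq_cube (h2 : u * u = 1) (h3 : u ^ 3 = 1) : u = 1 := by
  rwa [pow_succ, pow_two, h2, one_mul] at h3

theorem conj_cycle3 (h3 : v ^ 3 = 1) (hu : u ∈ ⟪v⟫) : u ^ 3 = 1 := by
  obtain ⟨k, rfl⟩ := hu
  dsimp only
  rw [← zpow_natCast, ← zpow_mul, mul_comm, zpow_mul, zpow_natCast, h3, one_zpow]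

namespace DD

variable (h : DD X Γ T R v w)
include h

theorem conj [Finite G] (hab : IsMulCommutative R) (hg : g ∈ Γ) :
    DD X Γ (g •ᶜ T) (g •ᶜ R) (g * v * g⁻¹) (g * w * g⁻¹) where
  kl := klein_conj h.kl g
  sylR := (sylJ hg).2 h.sylR
  RN := conj_norms g h.RN
  RC := by rw [cent_conj, conj_le_conj]; exact h.RC
  vR := conj_mem_conj.2 h.vR
  perp r hr := by
    obtain ⟨s, hs, rfl⟩ := mem_conj_iff_exists.1 hr
    rw [X.conj g (comm_of_abelian hab h.vR hs), cent_conj, conj_mem_conj, h.perp s hs]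
  sylT := by
    have := h.sylT.conj g
    rwa [conj_inf, conj_eq_of_mem hg, ← cent1_conj] at this
  odd r hr hrC := by
    obtain ⟨s, hs, rfl⟩ := mem_conj_iff_exists.1 hr
    rw [cent_conj, conj_mem_conj] at hrC
    have := h.odd s hs hrC
    rwa [← card_conj g, conj_inf, conj_inf, conj_eq_of_mem hg, ← cent1_conj, ← cent1_conj] at this
  wΓ e := h.wΓ ((memJ_norm (normG Γ hg)).1 e)
  ww := by rw [show g * w * g⁻¹ * (g * w * g⁻¹) = g * (w * w) * g⁻¹ by group, h.ww]; group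
  wT := by rw [cent_conj, conj_mem_conj]; exact h.wT
  wR := by rw [norm_conj, conj_mem_conj]; exact h.wR
  wc r hr := by
    obtain ⟨s, hs, rfl⟩ := mem_conj_iff_exists.1 hr
    rw [cent_conj, mem_conj]
    convert h.wc s hs using 1
    group
  sylw := by
    have := h.sylw.conj g
    rwa [conj_inf, conj_eq_of_mem hg, ← ker_conj] at this
  pro a ha L hL h1 h2 := by
    obtain ⟨c, hc, e⟩ := h.pro (g⁻¹ * a * g) (mul_mem (mul_mem (inv_mem hg) ha) hg) (g⁻¹ •ᶜ L)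
      (conj_le_of_mem (inv_mem hg) hL) (conj_le_iff.1 h1)
      (by rw [← conj_conj, ← conj_conj, conj_le_conj]; exact h2)
    refine ⟨g * c * g⁻¹, by simpa using mem_conj.1 hc, ?_⟩
    rw [conj_conj, inv_mul_cancel_right, ← conj_conj, e, conj_conj, conj_conj]
    congr 2
    group

theorem winv : w⁻¹ = w := inv_eq_of_mul_eq_one_right h.ww

theorem beta_w (hA : AF R X.β) (hr : r ∈ R) : X.β v (w * r * w⁻¹) = X.β v r := by
  have h1 : w * r * w⁻¹ * r⁻¹ ∈ R := mul_mem ((memJ_norm h.wR).2 hr) (inv_mem hr)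
  rw [← inv_mul_cancel_right (w * r * w⁻¹) r, hA.mul_right v h.vR _ h1 r hr,
    (h.perp _ h1).2 (h.wc r hr), one_mul]

theorem fix (hA : AF R X.β) : w * v * w⁻¹ = v :=
  hA.eq_of_forall ((memJ_norm h.wR).2 h.vR) h.vR fun r hr => by
    have h1 := hA.inv w h.wR v h.vR _ ((memJ_norm h.wR).2 hr)
    rw [show w * (w * r * w⁻¹) * w⁻¹ = (w * w) * r * (w * w)⁻¹ by group, h.ww, one_mul, inv_one,
      mul_one] at h1
    rw [h1, h.beta_w hA hr]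

/-- step U -/
theorem stepU' [Finite G] (hΓ : Γ.index = 2) (hA : AF R X.β) (hg : g ∈ Γ) (hR : R ≤ 𝐍[g •ᶜ T]) :
    ∀ r ∈ R, r ∈ 𝐂[g •ᶜ T] ↔ r ∈ 𝐂[T] := by
  by_contra hne
  haveI := normal_of_index_eq_two hΓ
  obtain ⟨c, hc, hω, hv', hD, hV⟩ :=
    h.toDK.stepU hA hR (h.pro g hg) (conj_le_of_mem hg h.TΓ) hne
  have h3 := h.toDK.cube hA
  have hσv := sq_inverts hv'
  set v' := c * v * c⁻¹ with hv'd
  set D := hA.perp (⟪v⟫ ⊔ ⟪v'⟫) with hDd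
  have hσ : c ^ 2 ∈ Γ ⊓ 𝐍[R] := pow_mem hc 2
  have hσD : c ^ 2 ∈ 𝐂[D] := pow_mem hD 2
  have hσv' : c ^ 2 * v' * (c ^ 2)⁻¹ = v'⁻¹ := by
    rw [hv'd, show c ^ 2 * (c * v * c⁻¹) * (c ^ 2)⁻¹ = c * (c ^ 2 * v * (c ^ 2)⁻¹) * c⁻¹ by group,
      hσv]
    group
  generalize c ^ 2 = σ at hσv hσv' hσ hσD
  have hvR := h.vR
  have hv'R : v' ∈ R := (memJ_norm hc.2).2 hvR
  have h3' : v' ^ 3 = 1 := by rw [hv'd, conj_pow, h3]; group
  have cm : ∀ a ∈ R, ∀ b ∈ R, Commute a b := fun a ha b hb => comm_of_abelian hA.ab ha hb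
  have hvle : ⟪v⟫ ≤ R := zpowers_le.2 hvR
  have hwv := h.fix hA
  have inv_u : ∀ s : G, s * v * s⁻¹ = v⁻¹ → ∀ u ∈ ⟪v⟫, s * u * s⁻¹ = u⁻¹ := by
    rintro s hs _ ⟨k, rfl⟩
    dsimp only
    rw [← conj_zpow, hs, inv_zpow]
  have fix_u : ∀ u ∈ ⟪v⟫, w * u * w⁻¹ = u := by
    rintro _ ⟨k, rfl⟩
    dsimp only
    rw [← conj_zpow, hwv]
  have dec : ∀ r ∈ R, X.β v r = 1 → ∃ u ∈ ⟪v⟫, ∃ d ∈ D, r = u * d := fun r hr e => by
    obtain ⟨a, ha, d, hd, rfl⟩ := (mem_join_norm ((hA.perp_le _).trans (sub_abelian_norm hA.ab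
      (sup_le hvle (zpowers_le.2 hv'R))))).1 (hV.symm ▸ hr : r ∈ (⟪v⟫ ⊔ ⟪v'⟫) ⊔ D)
    obtain ⟨i, hi, j, hj, rfl⟩ :=
      (mem_join_norm ((zpowers_le.2 hv'R).trans (sub_abelian_norm hA.ab hvle))).1 ha
    have hjR : j ∈ R := zpowers_le.2 hv'R hj
    have f1 : X.β v i = 1 := by
      obtain ⟨k, rfl⟩ := hi
      rw [hA.zpow_right hvR hvR, X.alt, one_zpow]
    rw [hA.mul_right v hvR _ (mul_mem (hvle hi) hjR) d hd.1, hA.mul_right v hvR i (hvle hi) j hjR,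
      f1, (hA.symm_eq_one hd.1 hvR).2 (hd.2 v (mem_sup_left (mem_zpowers v)) hvR), one_mul,
      mul_one] at e
    rcases mem_cycle3 h3' hj with h6 | h6 | h6
    · exact ⟨i, hi, d, hd, by rw [h6, mul_one]⟩
    · exact absurd (h6 ▸ e) hω
    · rw [h6, hA.inv_right hvR hv'R, inv_eq_one] at e; exact absurd e hω
  have hσW : ∀ r ∈ R, X.β v r = 1 → ∃ u ∈ ⟪v⟫, σ * r * σ⁻¹ = r * u := fun r hr e => by
    obtain ⟨u, hu, d, hd, rfl⟩ := dec r hr e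
    refine ⟨u⁻¹ * u⁻¹, mul_mem (inv_mem hu) (inv_mem hu), ?_⟩
    rw [show σ * (u * d) * σ⁻¹ = σ * u * σ⁻¹ * (σ * d * σ⁻¹) by group, inv_u σ hσv u hu,
      ← hσD d hd, mul_inv_cancel_right, (cm u (hvle hu) d hd.1).eq,
      (cm u (hvle hu) d hd.1).inv_left.eq]
    group
  have hτ : σ * (w * σ * w⁻¹) ∈ Γ ⊓ 𝐍[R] := mul_mem hσ ⟨Normal.conj_mem inferInstance _ hσ.1 w,
    𝐍[R].mul_mem (𝐍[R].mul_mem h.wR hσ.2) (𝐍[R].inv_mem h.wR)⟩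
  have hτu : ∀ u ∈ ⟪v⟫, Commute (σ * (w * σ * w⁻¹)) u := fun u hu => by
    refine mul_inv_eq_iff_eq_mul.1 ?_
    rw [show σ * (w * σ * w⁻¹) * u * (σ * (w * σ * w⁻¹))⁻¹
      = σ * (w * (σ * (w⁻¹ * u * w⁻¹⁻¹) * σ⁻¹) * w⁻¹) * σ⁻¹ by group]
    nth_rw 1 [h.winv]
    rw [inv_inv]
    nth_rw 3 [← h.winv]
    rw [fix_u u hu, inv_u σ hσv u hu, fix_u _ (inv_mem hu), inv_u σ hσv _ (inv_mem hu), inv_inv]
  have hτW : ∀ r ∈ R, X.β v r = 1 → Commute (σ * (w * σ * w⁻¹)) r := fun r hr e => by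
    obtain ⟨u, hu, e1⟩ := hσW _ ((memJ_norm h.wR).2 hr) ((h.beta_w hA hr).trans e)
    obtain ⟨u', hu', e2⟩ := hσW r hr e
    have e3 : σ * (w * σ * w⁻¹) * r * (σ * (w * σ * w⁻¹))⁻¹ = r * (u' * u⁻¹) := by
      rw [show σ * (w * σ * w⁻¹) * r * (σ * (w * σ * w⁻¹))⁻¹
        = σ * (w * (σ * (w⁻¹ * r * w⁻¹⁻¹) * σ⁻¹) * w⁻¹) * σ⁻¹ by group]
      nth_rw 1 [h.winv]
      rw [inv_inv]
      nth_rw 3 [← h.winv]
      rw [e1, show σ * (w * (w * r * w⁻¹ * u) * w⁻¹) * σ⁻¹ = σ * ((w * w) * r * (w * w)⁻¹) * σ⁻¹ *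
        (σ * (w * u * w⁻¹) * σ⁻¹) by group, h.ww, fix_u u hu, inv_u σ hσv u hu, one_mul, inv_one,
        mul_one, e2, mul_assoc]
    have h4 := mul_mem hu' (inv_mem hu)
    rw [unip h.sylR hA.ab hτ hr e3 (hτu _ h4) (conj_cycle3 h3 h4), mul_one] at e3
    exact mul_inv_eq_iff_eq_mul.1 e3
  have hv₁ : w * v' * w⁻¹ ∈ R := (memJ_norm h.wR).2 hv'R
  obtain ⟨u, hu, d, hd, e⟩ := dec _ (mul_mem hv₁ (inv_mem hv'R))
    ((h.perp _ (mul_mem hv₁ (inv_mem hv'R))).2 (h.wc v' hv'R))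
  rw [mul_inv_eq_iff_eq_mul] at e
  have huR := hvle hu
  have hd3 : d ^ 3 = 1 := by
    have : (w * v' * w⁻¹) ^ 3 = 1 := by rw [conj_pow, h3']; group
    rwa [e, (cm _ (mul_mem huR hd.1) _ hv'R).mul_pow, (cm _ huR _ hd.1).mul_pow, h3',
      conj_cycle3 h3 hu, one_mul, mul_one] at this
  have hd1 : d = 1 := by
    have e4 : σ * (w * σ * w⁻¹) * (w * v' * w⁻¹) * (σ * (w * σ * w⁻¹))⁻¹ =
        w * v' * w⁻¹ * (d⁻¹ * d⁻¹) := by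
      rw [show σ * (w * σ * w⁻¹) * (w * v' * w⁻¹) * (σ * (w * σ * w⁻¹))⁻¹
        = σ * (w * (σ * v' * σ⁻¹) * w⁻¹) * σ⁻¹ by group, hσv',
        show σ * (w * v'⁻¹ * w⁻¹) * σ⁻¹ = (σ * (w * v' * w⁻¹) * σ⁻¹)⁻¹ by group, e,
        show σ * (u * d * v') * σ⁻¹ = σ * u * σ⁻¹ * (σ * d * σ⁻¹) * (σ * v' * σ⁻¹) by group,
        inv_u σ hσv u hu, hσv', ← hσD d hd, mul_inv_cancel_right, mul_assoc u,
        (cm d hd.1 v' hv'R).eq, show (u⁻¹ * d * v'⁻¹)⁻¹ = v' * (d⁻¹ * u) by group,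
        (cm d hd.1 u huR).inv_left.eq, ← mul_assoc, (cm v' hv'R u huR).eq]
      group
    have h5 : Commute (σ * (w * σ * w⁻¹)) d := hτW d hd.1
      ((hA.symm_eq_one hd.1 hvR).2 (hd.2 v (mem_sup_left (mem_zpowers v)) hvR))
    have h6 := unip h.sylR hA.ab hτ hv₁ e4 (h5.inv_right.mul_right h5.inv_right) (by
      rw [(Commute.refl d⁻¹).mul_pow, inv_pow, hd3, inv_one, one_mul])
    rw [← mul_inv_rev, inv_eq_one] at h6
    exact eq_one_of_sq_cube h6 hd3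
  rw [hd1, mul_one] at e
  have hu1 : u = 1 := by
    refine eq_one_of_sq_cube ?_ (conj_cycle3 h3 hu)
    have : w * (w * v' * w⁻¹) * w⁻¹ = v' := by
      rw [show w * (w * v' * w⁻¹) * w⁻¹ = (w * w) * v' * (w * w)⁻¹ by group, h.ww]; group
    rwa [e, show w * (u * v') * w⁻¹ = w * u * w⁻¹ * (w * v' * w⁻¹) by group, fix_u u hu, e,
      ← mul_assoc, mul_eq_right] at this
  rw [hu1, one_mul] at e
  have k1 : w ∈ 𝐂₁[v] := mem_cent1.2 (mul_inv_eq_iff_eq_mul.1 hwv)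
  have k2 : w ∈ 𝐂₁[v'] := mem_cent1.2 (mul_inv_eq_iff_eq_mul.1 e)
  have k3 : c * w * c⁻¹ ∈ 𝐂₁[v'] := by rw [hv'd, cent1_conj, conj_mem_conj]; exact k1
  have k4 : c * w * c⁻¹ ∈ 𝐂₁[v] := by rw [← cent1_inv, ← hv', cent1_conj, conj_mem_conj]; exact k2
  have hz : c * w * c⁻¹ * w ∈ Γ ⊓ 𝐂₁[v] ⊓ 𝐂₁[v'] := by
    refine ⟨⟨?_, mul_mem k4 k1⟩, mul_mem k3 k2⟩
    rw [mul_assoc, mul_assoc]
    nth_rw 2 [← h.winv]
    rw [← mul_assoc w]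
    exact mul_mem hc.1 (Normal.conj_mem inferInstance _ (inv_mem hc.1) w)
  obtain ⟨a, ha, ea⟩ := conj_of_odd (s := c * w * c⁻¹) (t := w)
    (by rw [show c * w * c⁻¹ * (c * w * c⁻¹) = c * (w * w) * c⁻¹ by group, h.ww]; group) h.ww
    ((h.odd v' hv'R fun e => hω ((h.perp v' hv'R).2 e)).of_dvd_nat (orderOf_dvd_natCard _ hz))
  have ha' := zpowers_le.2 hz ha
  have hcw : Commute w (a * c) := by
    refine (mul_inv_eq_iff_eq_mul.1 ?_).symm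
    rw [show a * c * w * (a * c)⁻¹ = a * (c * w * c⁻¹) * a⁻¹ by group, ea]
  have h7 : (a * c) ^ 2 * v * ((a * c) ^ 2)⁻¹ = v⁻¹ := sq_inverts (by
    rw [show a * c * v * (a * c)⁻¹ = a * v' * a⁻¹ by rw [hv'd]; group, mem_cent1.1 ha'.2,
      mul_inv_cancel_right, show a * c * v' * (a * c)⁻¹ = a * (c * v' * c⁻¹) * a⁻¹ by group, hv',
      (Commute.inv_right (mem_cent1.1 ha'.1.2)).eq, mul_inv_cancel_right])
  exact h.toDK.inv_ne hA (inv_eq_of_syl h.sylw (le_cent1.2 h.toDK.vC)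
    ⟨pow_mem (mul_mem ha'.1.1 hc.1) 2, X.mem_ker.2 ⟨hcw.pow_right 2, by
      rw [X.pow_right hcw]; exact X.pow_eq_one_of_left hcw (by rw [pow_two, h.ww])⟩⟩ h7)

theorem cross [Finite G] (h₂ : DD X Γ T₂ R v₂ w₂) (hΓ : Γ.index = 2) (hA : AF R X.β)
    (hω : X.β v v₂ ≠ 1) : w * v₂ * w⁻¹ = v₂ := by
  have hg : w * w₂ ∈ Γ := (mul_mem_iff_of_index_two hΓ).2 (iff_of_false h.wΓ h₂.wΓ)
  have e : (w * w₂) •ᶜ T₂ = w •ᶜ T₂ := by rw [← conj_conj, conj_eq_of_mem_cent h₂.wT]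
  have h1 := h₂.stepU' hΓ hA hg (e ▸ conj_eq_of_mem_norm h.wR ▸ conj_norms w h₂.RN)
  rw [e] at h1
  refine (h₂.toDK.conj_or hA h.wR h1).resolve_right fun h2 => ?_
  have h3 := hA.inv w h.wR v h.vR v₂ h₂.vR
  rw [h.fix hA, h2, hA.inv_right h.vR h₂.vR] at h3
  exact inv_ne_self (by rw [← hA.pow_left h.vR h₂.vR, h.toDK.cube hA, X.one_left]) hω h3

theorem final [Finite G] (h₂ : DD X Γ T₂ R v₂ w₂) (hΓ : Γ.index = 2) (hA : AF R X.β)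
    (hnc : ∀ g ∈ Γ, g •ᶜ T ≠ T₂) : False := by
  have hω' : X.β v₂ v ≠ 1 := fun e => by
    obtain ⟨g, hg, e'⟩ := Sylow_trans h.sylT (h.sylT.of_card_eq
      (le_inf h₂.toDK.TΓ (le_cent1.2 ((h₂.perp v h.vR).1 e))) (h₂.kl.1.trans h.kl.1.symm))
    exact hnc g hg.1 e'.symm
  have hω : X.β v v₂ ≠ 1 := fun e => hω' ((hA.symm_eq_one h.vR h₂.vR).2 e)
  have hz : w * w₂ ∈ Γ ⊓ 𝐂₁[v] ⊓ 𝐂₁[v₂] :=
    ⟨⟨(mul_mem_iff_of_index_two hΓ).2 (iff_of_false h.wΓ h₂.wΓ),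
      mul_mem (mem_cent1.2 (mul_inv_eq_iff_eq_mul.1 (h.fix hA)))
        (mem_cent1.2 (mul_inv_eq_iff_eq_mul.1 (h₂.cross h hΓ hA hω')))⟩,
      mul_mem (mem_cent1.2 (mul_inv_eq_iff_eq_mul.1 (h.cross h₂ hΓ hA hω)))
        (mem_cent1.2 (mul_inv_eq_iff_eq_mul.1 (h₂.fix hA)))⟩
  obtain ⟨a, ha, ea⟩ := conj_of_odd h.ww h₂.ww
    ((h.odd v₂ h₂.vR fun e => hω ((h.perp v₂ h₂.vR).2 e)).of_dvd_nat (orderOf_dvd_natCard _ hz))
  have ha' := (zpowers_le.2 hz ha).1.1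
  have h1 := h.sylw.conj a
  rw [conj_inf, conj_eq_of_mem ha', ← ker_conj, ea] at h1
  obtain ⟨d, hd, e⟩ := Sylow_trans h1 h₂.sylw
  exact hnc (d * a) (mul_mem hd.1 ha') (by rw [e, conj_conj])

end DD

theorem exists_DD [Finite G] (hΓ : Γ.index = 2) (hA : Syl 2 A Γ) (h : D8 A f x) (wΓ : w ∉ Γ)
    (ww : w * w = 1) (wA : w ∈ 𝐂[A]) (hcx : X.β (f ^ 2) x ≠ 1) (hwx : X.β w x = 1)
    (hwf : X.β w f ≠ 1) (hg : g ∈ Γ) (e : g * f ^ 2 * g⁻¹ = x)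
    (H3 : ∀ Q, Syl 3 Q Γ → IsMulCommutative Q) (hng : NoGood X Γ (⟪f ^ 2⟫ ⊔ ⟪x⟫)) :
    ∃ R v, DD X Γ (⟪f ^ 2⟫ ⊔ ⟪x⟫) R v w := by
  haveI := normal_of_index_eq_two hΓ
  set T := ⟪f ^ 2⟫ ⊔ ⟪x⟫ with hT
  have kl : Klein T := d8_klein h
  have hTA : T ≤ A := d8_TA h
  have wT : w ∈ 𝐂[T] := centS hTA wA
  have winv : w⁻¹ = w := inv_eq_of_mul_eq_one_right ww
  have cw : ∀ a ∈ A, Commute w a := fun a ha => (wA a ha).symm
  have hsq : ∀ a, Commute w a → X.β w (a ^ 2) = 1 := fun a ha => by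
    rw [X.pow_right ha]; exact X.pow_eq_one_of_left ha (by rw [pow_two, ww])
  have hwT : T ≤ X.ker w := sup_le
    (zpowers_le.2 (X.mem_ker.2 ⟨cw _ (pow_mem (d8_fA h) 2), hsq f (cw f (d8_fA h))⟩))
    (zpowers_le.2 (X.mem_ker.2 ⟨cw _ (d8_xA h), hwx⟩))
  have sylw : Syl 2 T (Γ ⊓ X.ker w) := by
    have h1 : Γ ⊓ X.ker w ⊴ Γ ⊓ 𝐂₁[w] := by
      have := normalGI (inf_le_right : Γ ⊓ 𝐂₁[w] ≤ 𝐂₁[w]) (X.ker_normal w)
      rwa [inf_assoc, inf_eq_right.2 (X.ker_normal w).le] at this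
    have h2 := Sylow_setI_normal h1 (hA.subl (le_inf hA.le (le_cent1.2 wA)) inf_le_left)
    have h3 : A ⊓ (Γ ⊓ X.ker w) = T := le_antisymm (fun a ha => (d8_memA h ha.1).elim id
      fun ⟨t, ht, e⟩ => absurd (X.mem_ker.1 ((mul_mem_cancel_left (hwT ht)).1 (e ▸ ha.2.2))).2 hwf)
      (le_inf hTA (le_inf (hTA.trans hA.le) hwT))
    rwa [h3] at h2
  have hsyl : Syl 2 T (Γ ⊓ 𝐂[T]) := d8_syl_cent h hA
  have hsd := (Burnside_normal_complement hsyl (inf_le_left.trans inf_le_right)).sdprod hsyl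
  set W := core {2}ᶜ (Γ ⊓ 𝐂[T]) with hW
  have hWo : ¬ 2 ∣ Nat.card W := p'core_not_dvd 2 _
  have hWN : 𝐍[T] ≤ 𝐍[W] := norms_pcore _ (normsI (norm_eq_top.2 this ▸ le_top) (cent_norm T))
  have hcomm : ∀ n ∈ Γ ⊓ 𝐍[T], w * n * w⁻¹ * n⁻¹ ∈ W := fun n hn => by
    have h1 : n * w * n⁻¹ ∈ 𝐂[T] := (memJ_norm (cent_norm T hn.2)).2 wT
    have e1 : w * n * w⁻¹ * n⁻¹ = w * (n * w * n⁻¹) := by rw [winv]; group
    have h2 : w * n * w⁻¹ * n⁻¹ ∈ Γ ⊓ 𝐂[T] :=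
      ⟨Γ.mul_mem (Normal.conj_mem inferInstance _ hn.1 w) (Γ.inv_mem hn.1), e1 ▸ 𝐂[T].mul_mem wT h1⟩
    obtain ⟨u, hu, t, ht, e2⟩ := hsd.exists_mul h2
    have h3 : ∀ s ∈ T, X.β t s = 1 := fun s hs => by
      have h4 : X.β (w * n * w⁻¹ * n⁻¹) s = 1 := by
        have h5 := X.conj n (X.mem_ker.1 (hwT ((memJ_norm' hn.2).2 hs))).1
        rw [show n * (n⁻¹ * s * n) * n⁻¹ = s by group,
          (X.mem_ker.1 (hwT ((memJ_norm' hn.2).2 hs))).2] at h5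
        rw [e1, X.mul_left (wT s hs).symm (h1 s hs).symm, (X.mem_ker.1 (hwT hs)).2, h5, one_mul]
      have h6 : Commute u s := ((hsd.left_le hu).2 s hs).symm
      rwa [e2, X.mul_left h6 (comm_of_abelian (klein_ab kl) ht hs), X.eq_one_of_coprime h6
        (PiNat.coprime' ((pcore_pgroup _ _).piElt hu) ((piSub_singleton.2 hsyl.pgroup).piElt hs)),
        one_mul] at h4
    have h7 : t = 1 := by
      rcases d8_memT h ht with h8 | h8 | h8 | h8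
      · exact h8
      · exact absurd (h8 ▸ h3 x d8_xT) hcx
      · exact absurd ((X.symm_eq_one (d8_cx h)).1 (h8 ▸ h3 _ d8_cT)) hcx
      · have := h3 x d8_xT
        rw [h8, X.mul_left (d8_cx h) (Commute.refl x), X.alt, mul_one] at this
        exact absurd this hcx
    rw [e2, h7, mul_one]
    exact hu
  obtain ⟨R₀, hR₀⟩ := Sylow_exists (p := 3) (Γ ⊓ 𝐍[T])
  have hL : W ⊔ R₀ ≤ Γ ⊓ 𝐍[T] := sup_le (hsd.left_le.trans (subcent_normal Γ T).le) hR₀.le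
  have hLo : ¬ 2 ∣ Nat.card ↥(W ⊔ R₀) := piSub_compl.1 ((pcore_pgroup _ _).sup
    (piSub_of_pgroup hR₀.pgroup (by decide)) (hR₀.le.trans (inf_le_right.trans hWN)))
  have hwL : ⟪w⟫ ≤ 𝐍[W ⊔ R₀] := zpowers_le.2 (mem_norm_of_conj_le (conj_le_iff_forall.2
    fun l hl => by simpa using mul_mem (mem_sup_left (hcomm l (hL hl)) : _ ∈ W ⊔ R₀) hl))
  obtain ⟨R, hR, hwR⟩ := sol_coprime_Sylow_exists 3 (solOr_cycle (W ⊔ R₀) w) hwL
    (coprime_pgroup (piElt_singleton_iff_pgroup.1 (piElt_of_pow_eq_one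
      ((piNat_prime Nat.prime_two).2 rfl) (by rw [pow_two, ww]))) hLo).symm
  have hR' : Syl 3 R (Γ ⊓ 𝐍[T]) :=
    hR₀.of_card_eq (hR.le.trans hL) (hR.card_eq (hR₀.subl le_sup_right hL))
  obtain ⟨n, hn, hn2⟩ := d8_exists_three h hA hg e
  obtain ⟨v, hv⟩ := exists_DK H3 kl hsyl hR' (not_le_cent kl hR' hn hn2) hng
  exact ⟨R, v, hv, wΓ, ww, wT, hwR (mem_zpowers w),
    fun r hr => (hsd.left_le (hcomm r (hR'.le hr))).2, sylw, fun g hg L => d8_pro h hA hg⟩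

theorem finD_aux [Finite G] (hΓ : Γ.index = 2) (hA : Syl 2 A Γ) (h : D8 A f x) (wΓ : w ∉ Γ)
    (ww : w * w = 1) (wA : w ∈ 𝐂[A]) (hcx : X.β (f ^ 2) x = -1) (hwx : X.β w x = 1)
    (hwf : X.β w f = -1)
    (hcj : ∀ s ∈ Γ, ∀ t ∈ Γ, orderOf s = 2 → orderOf t = 2 → ∃ g ∈ Γ, g * s * g⁻¹ = t)
    (H3 : ∀ R : Subgroup G, Syl 3 R Γ → IsMulCommutative R ∧ X.ND R)
    (h1 : NoGood X Γ (⟪f ^ 2⟫ ⊔ ⟪x⟫)) (h2 : NoGood X Γ (⟪f ^ 2⟫ ⊔ ⟪x * f⟫)) : False := by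
  have h' := d8_swap h
  have hn1 : (-1 : ℂˣ) ≠ 1 := by
    intro e
    have := congrArg Units.val e
    norm_num at this
  have hcΓ : f ^ 2 ∈ Γ := pow_mem (hA.le (d8_fA h)) 2
  have cw : ∀ a ∈ A, Commute w a := fun a ha => (wA a ha).symm
  have hcf : X.β (f ^ 2) f = 1 := by simpa using X.self_pow f 2 1
  have hcxf : X.β (f ^ 2) (x * f) = -1 := by rw [X.mul_right (d8_cx h) d8_cf, hcx, hcf, mul_one]
  obtain ⟨g, hg, e⟩ := hcj _ hcΓ x (hA.le (d8_xA h)) (d8_oc h) h.ox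
  obtain ⟨g', hg', e'⟩ := hcj _ hcΓ _ (hA.le (d8_xA h')) (d8_oc h) h'.ox
  obtain ⟨R, v, k⟩ := exists_DD hΓ hA h wΓ ww wA (hcx ▸ hn1) hwx (hwf ▸ hn1) hg e
    (fun Q hQ => (H3 Q hQ).1) h1
  obtain ⟨R', v', k'⟩ := exists_DD (w := w * f ^ 2) hΓ hA h'
    (fun e => wΓ ((mul_mem_cancel_right hcΓ).1 e))
    (by rw [← pow_two, (cw _ (pow_mem (d8_fA h) 2)).mul_pow, pow_two, pow_two (f ^ 2), ww, d8_f4 h,
      one_mul])
    (mul_mem wA (d8_cA h)) (hcxf ▸ hn1)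
    (by rw [X.mul_left (cw _ (d8_xA h')) (d8_cx h'), hcxf,
      X.mul_right (cw _ (d8_xA h)) (cw _ (d8_fA h)), hwx, hwf]; simp)
    (by rw [X.mul_left (cw _ (d8_fA h)) d8_cf, hcf, hwf, mul_one]; exact hn1) hg' e'
    (fun Q hQ => (H3 Q hQ).1) h2
  obtain ⟨a, ha, ea⟩ := Sylow_trans k'.sylR k.sylR
  have k₂ := k'.conj (H3 _ k'.sylR).1 ha
  rw [← ea] at k₂
  exact k.final k₂ hΓ ((H3 R k.sylR).2.af (H3 R k.sylR).1) fun b hb eb =>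
    d8_not_conj h hA (mul_mem (inv_mem ha) hb) (by rw [← conj_conj, eb, inv_conj_conj])

end Cfsg.Gag.Fin5

namespace Cfsg.Gag

open Subgroup Cfsg.FT Fin5
open scoped Pointwise

universe u

theorem stFinD : StFinD.{u} := by
  intro G _ _ X Γ A f x w hΓ hA h wΓ ww wA hnd hcj H3 h1 h2
  have H3' : ∀ R : Subgroup G, Syl 3 R Γ → IsMulCommutative R ∧ X.ND R := fun R hR =>
    H3 R (hR.trans_index le_top (by rw [relIndex_top_right, hΓ]; decide))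
  have cw : ∀ a ∈ A, Commute w a := fun a ha => (wA a ha).symm
  have hfA := d8_fA h
  have hxA := d8_xA h
  have hcA : f ^ 2 ∈ A := pow_mem hfA 2
  have pm : ∀ {a b : G}, Commute a b → a * a = 1 → X.β a b = 1 ∨ X.β a b = -1 := fun hc e => by
    have := X.pow_eq_one_of_left hc (n := 2) (by rw [pow_two, e])
    rw [← Units.val_inj, Units.val_pow_eq_pow_val, Units.val_one, sq_eq_one_iff] at this
    exact this.imp Units.ext Units.ext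
  have key : ∀ z ∈ A ⊔ ⟪w⟫, z ≠ 1 → Commute z f → Commute z x → Commute z w → X.β z f = 1 →
      X.β z x = 1 → X.β z w = 1 → False := fun z hz hz1 c1 c2 c3 b1 b2 b3 => by
    obtain ⟨y, hy, -, h3⟩ := hnd z hz hz1
    have : A ⊔ ⟪w⟫ ≤ X.ker z := sup_le (h.gen.le.trans (sup_le
      (zpowers_le.2 (X.mem_ker.2 ⟨c1, b1⟩)) (zpowers_le.2 (X.mem_ker.2 ⟨c2, b2⟩))))
      (zpowers_le.2 (X.mem_ker.2 ⟨c3, b3⟩))
    exact h3 (X.mem_ker.1 (this hy)).2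
  have hcf : X.β (f ^ 2) f = 1 := by simpa using X.self_pow f 2 1
  have hcw : X.β (f ^ 2) w = 1 := by
    rw [X.pow_left (cw f hfA).symm]
    exact X.pow_eq_one_of_right (cw f hfA).symm (by rw [pow_two, ww])
  have hcx : X.β (f ^ 2) x = -1 := (pm (d8_cx h) (d8_f4 h)).resolve_left fun e =>
    key _ (mem_sup_left hcA) (d8_c_ne h) d8_cf (d8_cx h) (cw _ hcA).symm hcf e hcw
  rcases pm (cw x hxA) ww with hwx | hwx
  · exact finD_aux hΓ hA h wΓ ww wA hcx hwx ((pm (cw f hfA) ww).resolve_left fun e =>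
      key w (mem_sup_right (mem_zpowers w)) (fun e' => wΓ (e' ▸ one_mem Γ)) (cw f hfA) (cw x hxA)
        (Commute.refl w) e hwx (X.alt w)) hcj H3' h1 h2
  · have wΓ' : w * f ^ 2 ∉ Γ := fun e => wΓ ((mul_mem_cancel_right (hA.le hcA)).1 e)
    have ww' : w * f ^ 2 * (w * f ^ 2) = 1 := by
      rw [← pow_two, (cw _ hcA).mul_pow, pow_two, pow_two (f ^ 2), ww, d8_f4 h, one_mul]
    have hwx' : X.β (w * f ^ 2) x = 1 := by rw [X.mul_left (cw x hxA) (d8_cx h), hwx, hcx]; simp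
    have c1 : Commute (w * f ^ 2) f := (cw f hfA).mul_left d8_cf
    exact finD_aux hΓ hA h wΓ' ww' (mul_mem wA (d8_cA h)) hcx hwx' ((pm c1 ww').resolve_left fun e =>
      key _ (mul_mem (mem_sup_right (mem_zpowers w)) (mem_sup_left hcA))
        (fun e' => wΓ' (e' ▸ one_mem Γ)) c1 ((cw x hxA).mul_left (d8_cx h))
        ((Commute.refl w).mul_left (cw _ hcA).symm) e hwx'
        (by rw [X.mul_left (Commute.refl w) (cw _ hcA).symm, X.alt, hcw, one_mul])) hcj H3' h1 h2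

end Cfsg.Gag
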