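import Cfsg.Agent.Gag.FinCore

/-!
# Step U and piece FinK
-/

set_option autoImplicit false
set_option linter.style.haveILetI false

namespace Cfsg.Gag.Fin5

open Subgroup Cfsg.FT
open scoped Pointwise

universe u

variable {G : Type u} [Group G] {X : CP G} {Γ K M L P T R W : Subgroup G}
  {x y n v s t r g c : G} {β : G → G → ℂˣ}

theorem sq_ne_one {ω : ℂˣ} (h3 : ω ^ 3 = 1) (h1 : ω ≠ 1) : ω * ω ≠ 1 := fun h => h1 (by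
  rwa [pow_succ, pow_two, h, one_mul] at h3)

theorem inv_ne_self {ω : ℂˣ} (h3 : ω ^ 3 = 1) (h1 : ω ≠ 1) : ω⁻¹ ≠ ω := fun h =>
  sq_ne_one h3 h1 (by nth_rw 1 [← h]; exact inv_mul_cancel ω)

/-- the symplectic computation in `⟨v, v'⟩` -/
theorem af_step [Finite G] (h : AF R β) (hv : v ∈ R) (h3 : v ^ 3 = 1) (hc : c ∈ 𝐍[R])
    (hm : ∀ n ∈ ⟪c⟫, ∀ r ∈ R, Commute (n ^ 3) r → Commute n r) (hne : c * v * c⁻¹ ∉ ⟪v⟫)
    (hD : c ∈ 𝐂[h.perp (⟪v⟫ ⊔ ⟪c * v * c⁻¹⟫)]) :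
    β v (c * v * c⁻¹) ≠ 1 ∧ c * (c * v * c⁻¹) * c⁻¹ = v⁻¹ ∧
      (⟪v⟫ ⊔ ⟪c * v * c⁻¹⟫) ⊔ h.perp (⟪v⟫ ⊔ ⟪c * v * c⁻¹⟫) = R := by
  set v' := c * v * c⁻¹ with hv'd
  have hv' : v' ∈ R := (memJ_norm hc).2 hv
  have h3' : v' ^ 3 = 1 := by rw [hv'd, conj_pow, h3]; group
  have hV : ⟪v⟫ ⊔ ⟪v'⟫ ≤ R := sup_le (zpowers_le.2 hv) (zpowers_le.2 hv')
  have cm : ∀ a ∈ R, ∀ b ∈ R, a * b = b * a := fun a ha b hb => comm_of_abelian h.ab ha hb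
  have memP : ∀ a, a ∈ h.perp (⟪v⟫ ⊔ ⟪v'⟫) ↔ a ∈ R ∧ β a v = 1 ∧ β a v' = 1 := fun a => by
    rw [h.perp_sup (zpowers_le.2 hv) (zpowers_le.2 hv'), mem_inf, h.mem_perp_cycle hv,
      h.mem_perp_cycle hv']
    tauto
  have memV : ∀ a ∈ ⟪v⟫ ⊔ ⟪v'⟫, ∃ i ∈ ⟪v⟫, ∃ j ∈ ⟪v'⟫, i * j = a := fun a ha =>
    (mem_join_norm ((zpowers_le.2 hv').trans (sub_abelian_norm h.ab (zpowers_le.2 hv)))).1 ha
  have hω : β v v' ≠ 1 := fun e => hne (by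
    have := hD v ((memP v).2 ⟨hv, h.alt v hv, e⟩)
    rw [hv'd, ← this, mul_inv_cancel_right]
    exact mem_zpowers v)
  have hω3 : β v v' ^ 3 = 1 := by rw [← h.pow_left hv hv', h3, h.one_left hv']
  have hω' : β v' v = (β v v')⁻¹ := h.symm_inv hv hv'
  have hcV : c ∈ 𝐍[⟪v⟫ ⊔ ⟪v'⟫] := by
    rw [← conj_eq_iff_mem_norm, ← h.perp_perp hV, ← h.perp_conj hc, conj_eq_of_mem_cent hD]
  refine ⟨hω, ?_, h.sup_perp hV (eq_bot_iff.2 fun a ha => ?_)⟩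
  · obtain ⟨i, hi, j, hj, e⟩ := memV _ ((memJ_norm hcV).2 (mem_sup_right (mem_zpowers v')))
    have hiR : i ∈ R := zpowers_le.2 hv hi
    have hjR : j ∈ R := zpowers_le.2 hv' hj
    have e1 := h.inv c hc v hv v' hv'
    have e2 : β v' j = 1 := by
      obtain ⟨k, rfl⟩ := hj
      rw [h.zpow_right hv' hv', h.alt v' hv', one_zpow]
    rw [← hv'd, ← e, h.mul_right v' hv' i hiR j hjR, e2, mul_one] at e1
    have hi' : i = v⁻¹ := by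
      rcases mem_cycle3 h3 hi with rfl | rfl | rfl
      · exact absurd (e1.symm.trans (h.one_right hv')) hω
      · exact absurd (hω'.symm.trans e1) (inv_ne_self hω3 hω)
      · rfl
    subst hi'
    have key : Commute (c ^ 6) v → j = 1 := fun hc6 => by
      have h2 := hm (c ^ 2) (pow_mem (mem_zpowers c) 2) v hv (by rwa [← pow_mul])
      have h4 : v⁻¹ * j = v := by
        rw [e, hv'd, show c * (c * v * c⁻¹) * c⁻¹ = c ^ 2 * v * (c ^ 2)⁻¹ by rw [pow_two]; group, h2.eq,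
          mul_inv_cancel_right]
      have h5 : j ∈ ⟪v⟫ := by
        rw [inv_mul_eq_iff_eq_mul.1 h4]; exact mul_mem (mem_zpowers v) (mem_zpowers v)
      rcases mem_cycle3 h3' hj with h6 | h6 | h6
      · exact h6
      · exact absurd (h6 ▸ h5) hne
      · exact absurd ((inv_mem_iff (x := v')).1 (h6 ▸ h5)) hne
    have e3 : c ^ 3 * v * (c ^ 3)⁻¹ = v'⁻¹ * (c * j * c⁻¹) := by
      rw [show c ^ 3 * v * (c ^ 3)⁻¹ = c * (c * (c * v * c⁻¹) * c⁻¹) * c⁻¹ by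
        rw [pow_three]; group, ← hv'd, ← e, hv'd]
      group
    rcases mem_cycle3 h3' hj with h6 | h6 | h6
    · rw [← e, h6, mul_one]
    · have h7 : c ^ 3 * v * (c ^ 3)⁻¹ = v⁻¹ := by
        rw [e3, h6, ← e, h6, cm _ (R.inv_mem hv) _ hv', inv_mul_cancel_left]
      rw [← e, key ?_, mul_one]
      calc c ^ 6 * v = c ^ 3 * (c ^ 3 * v * (c ^ 3)⁻¹) * c ^ 3 := by group
        _ = c ^ 3 * v⁻¹ * c ^ 3 := by rw [h7]
        _ = (c ^ 3 * v * (c ^ 3)⁻¹)⁻¹ * c ^ 6 := by group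
        _ = v * c ^ 6 := by rw [h7, inv_inv]
    · have h7 : c ^ 3 * v * (c ^ 3)⁻¹ = v := by
        rw [e3, h6, show c * v'⁻¹ * c⁻¹ = (c * v' * c⁻¹)⁻¹ by group, ← e, h6]
        group
      rw [← e, key ?_, mul_one]
      have h8 := Commute.pow_left (mul_inv_eq_iff_eq_mul.1 h7) 2
      rwa [← pow_mul] at h8
  · obtain ⟨i, hi, j, hj, rfl⟩ := memV a ha.1
    have hiR : i ∈ R := zpowers_le.2 hv hi
    have hjR : j ∈ R := zpowers_le.2 hv' hj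
    obtain ⟨-, e1, e2⟩ := (memP _).1 ha.2
    have f1 : β i v = 1 := by
      obtain ⟨k, rfl⟩ := hi
      rw [h.zpow_left hv hv, h.alt v hv, one_zpow]
    have f2 : β j v' = 1 := by
      obtain ⟨k, rfl⟩ := hj
      rw [h.zpow_left hv' hv', h.alt v' hv', one_zpow]
    rw [h.mul_left i hiR j hjR v hv, f1, one_mul] at e1
    rw [h.mul_left i hiR j hjR v' hv', f2, mul_one] at e2
    have g1 : i = 1 := by
      rcases mem_cycle3 h3 hi with h6 | h6 | h6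
      · exact h6
      · exact absurd (h6 ▸ e2) hω
      · rw [h6, h.inv_left hv hv', inv_eq_one] at e2; exact absurd e2 hω
    have g2 : j = 1 := by
      rcases mem_cycle3 h3' hj with h6 | h6 | h6
      · exact h6
      · rw [h6, hω', inv_eq_one] at e1; exact absurd e1 hω
      · rw [h6, h.inv_left hv' hv, hω', inv_inv] at e1; exact absurd e1 hω
    rw [g1, g2, mul_one]
    exact one_mem _

theorem cube_comm [Finite G] (hR : Syl 3 R Γ) (hab : IsMulCommutative R) (hn : n ∈ Γ ⊓ 𝐍[R])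
    (hr : r ∈ R) (h : Commute (n ^ 3) r) : Commute n r := by
  have h1 := pow_relIndex_mem' (subcent_normal Γ R) hn
  have h2 : ¬ 3 ∣ (Γ ⊓ 𝐂[R]).relIndex (Γ ⊓ 𝐍[R]) := fun hd =>
    (hR.subl (le_inf hR.le (normG R)) inf_le_left).index
      (hd.trans (indexgS _ (le_inf hR.le (abelian_iff.1 hab))))
  exact mem_cent1.1 (mem_of_pow_coprime (mem_cent1.2 h) (cent_le_cent1 hr h1.2)
    ((Nat.Prime.coprime_iff_not_dvd Nat.prime_three).2 h2))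

namespace DK

variable (h : DK X Γ T R v)
include h

theorem odd_elt [Finite G] (hr : r ∈ R) : Odd (orderOf r) := odd_of_pelt3 (pelt3 h.sylR.pgroup hr)

theorem ne_one : v ≠ 1 := fun e => h.RC fun r hr => (h.perp r hr).1 (e ▸ X.one_left r)

theorem vC : v ∈ 𝐂[T] := (h.perp v h.vR).1 (X.alt v)

theorem TΓ : T ≤ Γ := h.sylT.le.trans inf_le_left

theorem cube [Finite G] (hA : AF R X.β) : v ^ 3 = 1 :=
  hA.eq_of_forall (R.pow_mem h.vR 3) R.one_mem fun r hr => by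
    rw [hA.pow_left h.vR hr, ← hA.pow_right h.vR hr, X.one_left]
    exact (h.perp _ (R.pow_mem hr 3)).2 (klein_cube h.kl (h.RN hr) (h.odd_elt hr))

theorem inv_ne [Finite G] (hA : AF R X.β) : v⁻¹ ≠ v := fun e => h.ne_one (by
  have := h.cube hA
  rwa [pow_succ, pow_two, mul_eq_one_iff_inv_eq.2 e, one_mul] at this)

theorem perp_conj (hA : AF R X.β) (hn : n ∈ 𝐍[R]) (hr : r ∈ R) :
    X.β (n * v * n⁻¹) r = 1 ↔ r ∈ 𝐂[n •ᶜ T] := by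
  have := hA.inv n hn v h.vR _ ((memJ_norm' hn).2 hr)
  rw [show n * (n⁻¹ * r * n) * n⁻¹ = r by group] at this
  rw [this, h.perp _ ((memJ_norm' hn).2 hr), cent_conj, mem_conj]

theorem conj_or [Finite G] (hA : AF R X.β) (hn : n ∈ 𝐍[R])
    (e : ∀ r ∈ R, r ∈ 𝐂[n •ᶜ T] ↔ r ∈ 𝐂[T]) : n * v * n⁻¹ = v ∨ n * v * n⁻¹ = v⁻¹ := by
  have h1 : n * v * n⁻¹ ∈ ⟪v⟫ := by
    rw [← hA.perp_perp (zpowers_le.2 h.vR)]
    refine ⟨(memJ_norm hn).2 h.vR, fun r hr hR => (h.perp_conj hA hn hR).2 ((e r hR).2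
      ((h.perp r hR).1 ((hA.symm_eq_one hR h.vR).2 ((hA.mem_perp_cycle h.vR).1 hr).2)))⟩
  exact (mem_cycle3 (h.cube hA) h1).resolve_left fun h2 => h.ne_one (by simpa using h2)

/-- step U, common part -/
theorem stepU [Finite G] (hA : AF R X.β) (hR : R ≤ 𝐍[g •ᶜ T])
    (pro : ∀ L ≤ Γ, T ≤ L → g •ᶜ T ≤ L → ∃ c ∈ L, c •ᶜ T = g •ᶜ T) (hg : g •ᶜ T ≤ Γ)
    (hne : ¬ ∀ r ∈ R, r ∈ 𝐂[g •ᶜ T] ↔ r ∈ 𝐂[T]) :
    ∃ c ∈ Γ ⊓ 𝐍[R], X.β v (c * v * c⁻¹) ≠ 1 ∧ c * (c * v * c⁻¹) * c⁻¹ = v⁻¹ ∧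
      c ∈ 𝐂[hA.perp (⟪v⟫ ⊔ ⟪c * v * c⁻¹⟫)] ∧
      (⟪v⟫ ⊔ ⟪c * v * c⁻¹⟫) ⊔ hA.perp (⟪v⟫ ⊔ ⟪c * v * c⁻¹⟫) = R := by
  set D := R ⊓ 𝐂[T] ⊓ 𝐂[g •ᶜ T] with hD
  have hDR : D ≤ R := inf_le_left.trans inf_le_left
  obtain ⟨a, ha, e⟩ := pro (Γ ⊓ 𝐂[D]) inf_le_left
    (le_inf h.TΓ (centsC.1 (inf_le_left.trans inf_le_right))) (le_inf hg (centsC.1 inf_le_right))
  have hRD : R ≤ Γ ⊓ 𝐂[D] := le_inf h.sylR.le (sub_abelian_cent hA.ab hDR)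
  have h1 : Syl 3 R (Γ ⊓ 𝐂[D] ⊓ 𝐍[g •ᶜ T]) :=
    h.sylR.subl (le_inf hRD hR) (inf_le_left.trans inf_le_left)
  have h2 : Syl 3 (a •ᶜ R) (Γ ⊓ 𝐂[D] ⊓ 𝐍[g •ᶜ T]) :=
    ((sylJ ha.1).2 h.sylR).subl (le_inf (conj_le_of_mem ha hRD) (e ▸ conj_norms a h.RN))
      (inf_le_left.trans inf_le_left)
  obtain ⟨d, hd, e'⟩ := Sylow_trans h2 h1
  rw [conj_conj] at e'
  have hc : d * a ∈ 𝐍[R] := conj_eq_iff_mem_norm.1 e'.symm
  have hcT : (d * a) •ᶜ T = g •ᶜ T := by rw [← conj_conj, e, conj_eq_of_mem_norm hd.2]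
  have hcD : d * a ∈ Γ ⊓ 𝐂[D] := mul_mem hd.1 ha
  generalize d * a = c at hc hcT hcD
  have hv' : c * v * c⁻¹ ∈ R := (memJ_norm hc).2 h.vR
  have hp : ∀ r ∈ R, X.β (c * v * c⁻¹) r = 1 ↔ r ∈ 𝐂[g •ᶜ T] := fun r hr => by
    rw [h.perp_conj hA hc hr, hcT]
  have hle : hA.perp (⟪v⟫ ⊔ ⟪c * v * c⁻¹⟫) ≤ D := fun r hr => by
    have hr1 := hr.1
    exact ⟨⟨hr1, (h.perp r hr1).1 ((hA.symm_eq_one hr1 h.vR).2
      (hr.2 v (mem_sup_left (mem_zpowers v)) h.vR))⟩, (hp r hr1).1 ((hA.symm_eq_one hr1 hv').2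
      (hr.2 _ (mem_sup_right (mem_zpowers _)) hv'))⟩
  have h3 : c * v * c⁻¹ ∉ ⟪v⟫ := fun h4 => hne fun r hr => by
    rw [← hp r hr, ← h.perp r hr]
    rcases mem_cycle3 (h.cube hA) h4 with h5 | h5 | h5
    · exact absurd (by simpa using h5) h.ne_one
    · rw [h5]
    · rw [h5, hA.inv_left h.vR hr, inv_eq_one]
  obtain ⟨f1, f2, f3⟩ := af_step hA h.vR (h.cube hA) hc (fun n hn r hr => cube_comm h.sylR hA.ab
    (zpowers_le.2 (show c ∈ Γ ⊓ 𝐍[R] from ⟨hcD.1, hc⟩) hn) hr) h3 (centS hle hcD.2)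
  exact ⟨c, ⟨hcD.1, hc⟩, f1, f2, centS hle hcD.2, f3⟩

end DK

theorem sq_inverts (h : c * (c * v * c⁻¹) * c⁻¹ = v⁻¹) : c ^ 2 * v * (c ^ 2)⁻¹ = v⁻¹ := by
  rw [← h, pow_two]; group

theorem not_le_cent [Finite G] (hT : Klein T) (hR : Syl 3 R (Γ ⊓ 𝐍[T])) (hn : n ∈ Γ ⊓ 𝐍[T])
    (h2 : n ^ 2 ∉ 𝐂[T]) : ¬ R ≤ 𝐂[T] := fun h => h2 (pow_mem
  (mem_of_syl (subcent_normal Γ T) hR (le_inf (hR.le.trans inf_le_left) h) hn (k := 1)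
    ⟨Γ.pow_mem hn.1 _, (klein_or hT hn.2).resolve_left h2⟩).2 2)

end Cfsg.Gag.Fin5

namespace Cfsg.Gag

open Subgroup Cfsg.FT Fin5
open scoped Pointwise

universe u

theorem stFinK : StFinK.{u} := by
  intro G _ _ X T hS hT hN H3 hng
  obtain ⟨n, hn, hnC⟩ := SetLike.not_le_iff_exists.1 hN
  have hTab : T ≤ ⊤ ⊓ 𝐂[T] := le_inf le_top (abelian_iff.1 (klein_ab hT))
  have h2 : n ^ 2 ∉ 𝐂[T] := fun h => hnC (mem_of_syl (subcent_normal ⊤ T)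
    (hS.subl (le_inf le_top (normG T)) le_top) hTab ⟨mem_top n, hn⟩ (k := 1) ⟨mem_top _, h⟩).2
  obtain ⟨R, hR⟩ := Sylow_exists (p := 3) (⊤ ⊓ 𝐍[T])
  obtain ⟨v, h⟩ := exists_DK (fun Q hQ => (H3 Q hQ).1) hT (hS.subl hTab le_top) hR
    (not_le_cent hT hR ⟨mem_top n, hn⟩ h2) hng
  obtain ⟨hab, hnd, hZ⟩ := H3 R h.sylR
  have hA := hnd.af hab
  have ninv : ∀ s : G, s * v * s⁻¹ ≠ v⁻¹ := fun s e =>
    h.inv_ne hA (inv_eq_of_syl hS (le_cent1.2 h.vC) (mem_top s) e)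
  refine h.ne_one (mem_bot.1 (hZ ▸ ⟨h.vR, mem_cent.2 fun m hm => ?_⟩))
  by_cases e : ∀ r ∈ R, r ∈ 𝐂[m •ᶜ T] ↔ r ∈ 𝐂[T]
  · exact mul_inv_eq_iff_eq_mul.1 ((h.conj_or hA hm e).resolve_right (ninv m))
  · obtain ⟨c, -, -, h3, -⟩ := h.stepU hA (conj_eq_of_mem_norm hm ▸ conj_norms m h.RN)
      (fun L _ h1 h2 => (Sylow_trans (hS.subl h1 le_top)
        ((hS.conj_top m).subl h2 le_top)).imp fun _ e => ⟨e.1, e.2.symm⟩) le_top e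
    exact absurd (sq_inverts h3) (ninv _)

end Cfsg.Gag
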