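import Cfsg.Agent.Gag.Defs
import Mathlib.GroupTheory.FiniteAbelian.Duality

/-!
# Nondegenerate alternating forms on abelian subgroups; vocabulary of piece W
-/

set_option autoImplicit false

namespace Cfsg.Gag

open Subgroup Cfsg.FT
open scoped Pointwise

universe u

variable {G : Type u} [Group G] {A U V : Subgroup G} {β : G → G → ℂˣ} {a b n : G}

namespace AF

variable (h : AF A β)
include h

theorem one_right (ha : a ∈ A) : β a 1 = 1 := by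
  have := h.mul_right a ha 1 A.one_mem 1 A.one_mem
  rw [mul_one] at this
  exact left_eq_mul.1 this

theorem one_left (ha : a ∈ A) : β 1 a = 1 := by
  have := h.mul_left 1 A.one_mem 1 A.one_mem a ha
  rw [mul_one] at this
  exact left_eq_mul.1 this

theorem symm_inv (ha : a ∈ A) (hb : b ∈ A) : β b a = (β a b)⁻¹ := by
  have h1 := h.alt (a * b) (A.mul_mem ha hb)
  rw [h.mul_left a ha b hb _ (A.mul_mem ha hb), h.mul_right a ha a ha b hb,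
    h.mul_right b hb a ha b hb, h.alt a ha, h.alt b hb, one_mul, mul_one] at h1
  exact eq_inv_of_mul_eq_one_right h1

theorem symm_eq_one (ha : a ∈ A) (hb : b ∈ A) : β b a = 1 ↔ β a b = 1 := by
  rw [h.symm_inv ha hb, inv_eq_one]

/-- `β a ·` on `A` -/
def hom (a : A) : A →* ℂˣ where
  toFun y := β a y
  map_one' := h.one_right a.2
  map_mul' y z := h.mul_right a a.2 y y.2 z z.2

/-- `a ↦ β a ·` -/
def dual : A →* (A →* ℂˣ) where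
  toFun := h.hom
  map_one' := MonoidHom.ext fun y => h.one_left y.2
  map_mul' a b := MonoidHom.ext fun y => h.mul_left a a.2 b b.2 y y.2

theorem dual_apply (a y : A) : h.dual a y = β a y := rfl

theorem inv_right (ha : a ∈ A) (hb : b ∈ A) : β a b⁻¹ = (β a b)⁻¹ := map_inv (h.hom ⟨a, ha⟩) ⟨b, hb⟩

theorem pow_right (ha : a ∈ A) (hb : b ∈ A) (k : ℕ) : β a (b ^ k) = β a b ^ k :=
  map_pow (h.hom ⟨a, ha⟩) ⟨b, hb⟩ k

theorem zpow_right (ha : a ∈ A) (hb : b ∈ A) (k : ℤ) : β a (b ^ k) = β a b ^ k :=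
  map_zpow (h.hom ⟨a, ha⟩) ⟨b, hb⟩ k

theorem inv_left (ha : a ∈ A) (hb : b ∈ A) : β a⁻¹ b = (β a b)⁻¹ :=
  DFunLike.congr_fun (map_inv h.dual ⟨a, ha⟩) ⟨b, hb⟩

theorem pow_left (ha : a ∈ A) (hb : b ∈ A) (k : ℕ) : β (a ^ k) b = β a b ^ k :=
  DFunLike.congr_fun (map_pow h.dual ⟨a, ha⟩ k) ⟨b, hb⟩

theorem zpow_left (ha : a ∈ A) (hb : b ∈ A) (k : ℤ) : β (a ^ k) b = β a b ^ k :=
  DFunLike.congr_fun (map_zpow h.dual ⟨a, ha⟩ k) ⟨b, hb⟩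

theorem eq_of_forall (ha : a ∈ A) (hb : b ∈ A) (e : ∀ c ∈ A, β a c = β b c) : a = b := by
  by_contra hne
  obtain ⟨c, hc, h1⟩ := h.nd (a * b⁻¹) (A.mul_mem ha (A.inv_mem hb)) (by rwa [Ne, mul_inv_eq_one])
  exact h1 (by rw [h.mul_left a ha _ (A.inv_mem hb) c hc, h.inv_left hb hc, e c hc, mul_inv_cancel])

theorem dual_injective : Function.Injective h.dual := fun a b e =>
  Subtype.ext (h.eq_of_forall a.2 b.2 fun c hc => DFunLike.congr_fun e ⟨c, hc⟩)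

theorem dual_surjective [Finite G] : Function.Surjective h.dual := by
  haveI := h.ab
  letI : CommGroup A := IsMulCommutative.instCommGroup
  have hc := CommGroup.card_monoidHom_of_hasEnoughRootsOfUnity A ℂ
  haveI : Finite (A →* ℂˣ) := Nat.finite_of_card_ne_zero (hc ▸ Nat.card_pos.ne')
  exact (h.dual_injective.bijective_of_nat_card_le hc.le).2

/-- every linear character of `A` is `β a ·` -/
theorem exists_eq [Finite G] (φ : A →* ℂˣ) : ∃ a ∈ A, ∀ y : A, β a y = φ y :=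
  let ⟨a, ha⟩ := h.dual_surjective φ
  ⟨a, a.2, fun y => DFunLike.congr_fun ha y⟩

/-- the orthogonal complement of `V` in `A` -/
def perp (V : Subgroup G) : Subgroup G where
  carrier := {a | a ∈ A ∧ ∀ v ∈ V, v ∈ A → β a v = 1}
  one_mem' := ⟨A.one_mem, fun _ _ hv => h.one_left hv⟩
  mul_mem' := fun {a b} ha hb => ⟨A.mul_mem ha.1 hb.1, fun v hv hA => by
    rw [h.mul_left a ha.1 b hb.1 v hA, ha.2 v hv hA, hb.2 v hv hA, one_mul]⟩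
  inv_mem' := fun {a} ha => ⟨A.inv_mem ha.1, fun v hv hA => by
    rw [h.inv_left ha.1 hA, ha.2 v hv hA, inv_one]⟩

theorem mem_perp' : a ∈ h.perp V ↔ a ∈ A ∧ ∀ v ∈ V, v ∈ A → β a v = 1 := Iff.rfl

theorem mem_perp (hV : V ≤ A) : a ∈ h.perp V ↔ a ∈ A ∧ ∀ v ∈ V, β a v = 1 :=
  ⟨fun ha => ⟨ha.1, fun v hv => ha.2 v hv (hV hv)⟩, fun ha => ⟨ha.1, fun v hv _ => ha.2 v hv⟩⟩

theorem perp_le (V : Subgroup G) : h.perp V ≤ A := fun _ ha => ha.1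

theorem perp_anti (hUV : U ≤ V) : h.perp V ≤ h.perp U :=
  fun _ ha => ⟨ha.1, fun v hv => ha.2 v (hUV hv)⟩

theorem le_perp_comm (hU : U ≤ A) (hV : V ≤ A) : U ≤ h.perp V ↔ V ≤ h.perp U :=
  ⟨fun e v hv => ⟨hV hv, fun _ hw hA => (h.symm_eq_one hA (hV hv)).2 ((e hw).2 v hv (hV hv))⟩,
   fun e v hv => ⟨hU hv, fun _ hw hA => (h.symm_eq_one hA (hU hv)).2 ((e hw).2 v hv (hU hv))⟩⟩

theorem le_perp_perp (hV : V ≤ A) : V ≤ h.perp (h.perp V) :=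
  (h.le_perp_comm hV (h.perp_le V)).2 le_rfl

theorem perp_top : h.perp A = ⊥ := eq_bot_iff.2 fun a ha => by
  by_contra h1
  obtain ⟨b, hb, h2⟩ := h.nd a ha.1 h1
  exact h2 (ha.2 b hb hb)

theorem perp_bot : h.perp ⊥ = A := le_antisymm (h.perp_le _) fun a ha =>
  ⟨ha, fun v hv _ => by rw [mem_bot.1 hv]; exact h.one_right ha⟩

theorem perp_sup (hU : U ≤ A) (hV : V ≤ A) : h.perp (U ⊔ V) = h.perp U ⊓ h.perp V :=
  le_antisymm (le_inf (h.perp_anti le_sup_left) (h.perp_anti le_sup_right))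
    ((h.le_perp_comm (inf_le_left.trans (h.perp_le U)) (sup_le hU hV)).2 (sup_le
      ((h.le_perp_comm hU (inf_le_left.trans (h.perp_le U))).2 inf_le_left)
      ((h.le_perp_comm hV (inf_le_left.trans (h.perp_le U))).2 inf_le_right)))

theorem mem_perp_cycle (hb : b ∈ A) : a ∈ h.perp ⟪b⟫ ↔ a ∈ A ∧ β a b = 1 :=
  ⟨fun ha => ⟨ha.1, ha.2 b (mem_zpowers b) hb⟩, fun ha => ⟨ha.1, fun v ⟨k, hk⟩ _ => by
    rw [← hk]; dsimp only; rw [h.zpow_right ha.1 hb, ha.2, one_zpow]⟩⟩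

theorem card_perp [Finite G] (hV : V ≤ A) : Nat.card (h.perp V) * Nat.card V = Nat.card A := by
  haveI := h.ab
  letI : CommGroup A := IsMulCommutative.instCommGroup
  let f : A →* (V.subgroupOf A →* ℂˣ) := (MonoidHom.domRestrictHom (V.subgroupOf A) ℂˣ).comp h.dual
  have hf : Function.Surjective f :=
    (MonoidHom.domRestrict_surjective ℂ (V.subgroupOf A)).comp h.dual_surjective
  have hk : f.ker = (h.perp V).subgroupOf A := by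
    ext a
    rw [MonoidHom.mem_ker, mem_subgroupOf, h.mem_perp hV]
    exact ⟨fun e => ⟨a.2, fun v hv => DFunLike.congr_fun e ⟨⟨v, hV hv⟩, hv⟩⟩,
      fun e => MonoidHom.ext fun v => e.2 v.1.1 v.2⟩
  have h1 := f.ker.card_mul_index
  rw [index_ker, MonoidHom.range_eq_top.2 hf, card_top,
    CommGroup.card_monoidHom_of_hasEnoughRootsOfUnity, hk,
    Nat.card_congr (subgroupOfEquivOfLe (h.perp_le V)).toEquiv,
    Nat.card_congr (subgroupOfEquivOfLe hV).toEquiv] at h1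
  exact h1

theorem perp_perp [Finite G] (hV : V ≤ A) : h.perp (h.perp V) = V := by
  refine (eq_of_le_of_card_ge (h.le_perp_perp hV) (le_of_eq ?_)).symm
  have h1 := h.card_perp hV
  have h2 := h.card_perp (h.perp_le V)
  rw [mul_comm] at h2
  exact Nat.eq_of_mul_eq_mul_left Nat.card_pos (h2.trans h1.symm)

theorem perp_inj [Finite G] (hU : U ≤ A) (hV : V ≤ A) (e : h.perp U = h.perp V) : U = V := by
  rw [← h.perp_perp hU, e, h.perp_perp hV]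

theorem perp_conj (hn : n ∈ 𝐍[A]) (V : Subgroup G) : h.perp (n •ᶜ V) = n •ᶜ h.perp V := by
  ext a
  rw [mem_conj, h.mem_perp', h.mem_perp', memJ_norm' hn]
  refine and_congr_right fun ha => ⟨fun e v hv hA => ?_, fun e v hv hA => ?_⟩
  · have := h.inv n hn _ ((memJ_norm' hn).2 ha) v hA
    rw [← this]
    simpa [mul_assoc] using e _ (conj_mem_conj.2 hv) ((memJ_norm hn).2 hA)
  · have := h.inv n⁻¹ (inv_mem hn) a ha v hA
    rw [← this, inv_inv]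
    exact e _ (mem_conj.1 hv) ((memJ_norm' hn).2 hA)

/-- `[A, N] ⟂ C_A(N)` -/
theorem cent_le_perp_comm {N : Subgroup G} (hN : N ≤ 𝐍[A]) : A ⊓ 𝐂[N] ≤ h.perp ⁅A, N⁆ := by
  refine (h.le_perp_comm inf_le_left (commg_subl.2 hN)).2 (commg_le_iff.2 fun x hx g hg => ?_)
  have hx' : g * x⁻¹ * g⁻¹ ∈ A := (memJ_norm (hN hg)).2 (A.inv_mem hx)
  refine ⟨by simpa [mul_assoc] using A.mul_mem hx hx', fun c hc hA => ?_⟩
  have e := h.inv g (hN hg) _ (A.inv_mem hx) c hA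
  rw [hc.2 g hg, mul_inv_cancel_right] at e
  rw [show x * g * x⁻¹ * g⁻¹ = x * (g * x⁻¹ * g⁻¹) by group, h.mul_left x hx _ hx' c hA, e,
    h.inv_left hx hA, mul_inv_cancel]

/-- restriction to a nondegenerate subgroup -/
theorem restrict_nd (hV : V ≤ A) (hd : V ⊓ h.perp V = ⊥) : ∀ a ∈ V, a ≠ 1 → ∃ b ∈ V, β a b ≠ 1 := by
  intro a ha h1
  by_contra h2
  push Not at h2
  exact h1 (mem_bot.1 (hd ▸ ⟨ha, (h.mem_perp hV).2 ⟨hV ha, h2⟩⟩))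

theorem sup_perp [Finite G] (hV : V ≤ A) (hd : V ⊓ h.perp V = ⊥) : V ⊔ h.perp V = A := by
  refine eq_of_le_of_card_ge (sup_le hV (h.perp_le V)) (le_of_eq ?_)
  rw [← h.card_perp hV, mul_comm]
  exact sdprod_card ⟨rfl, hd, (h.perp_le V).trans (sub_abelian_norm h.ab hV)⟩

end AF

/-- normal closure of `V` under `C` -/
def ncl (V C : Subgroup G) : Subgroup G := ⨆ g ∈ C, g •ᶜ V

/-- `K / O(C)` is a non-abelian minimal normal subgroup of `O^{2'}(C) O(C) / O(C)` -/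
def IsComp (A C K : Subgroup G) : Prop :=
  core {2}ᶜ C ≤ K ∧ K ⊴ ncl A C ⊔ core {2}ᶜ C ∧ ¬ ⁅K, K⁆ ≤ core {2}ᶜ C ∧
    ∀ L : Subgroup G, core {2}ᶜ C ≤ L → L ≤ K → ncl A C ≤ 𝐍[L] → L = core {2}ᶜ C ∨ L = K

/-- structure of a proper overgroup `C` of the abelian Sylow 2-subgroup `A` -/
structure WFacts (h : AF A β) (C : Subgroup G) : Prop where
  klein : ∀ K, IsComp A C K → Klein (K ⊓ A)
  exn : ∀ K, IsComp A C K → ∃ n ∈ K ⊓ 𝐍[A], ⁅A, ⟪n⟫⁆ = K ⊓ A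
  nd : ∀ K, IsComp A C K → (K ⊓ A) ⊓ h.perp (K ⊓ A) = ⊥
  perp : ∀ K, IsComp A C K → ⁅h.perp (K ⊓ A), K⁆ ≤ core {2}ᶜ C
  gen : ∀ K, IsComp A C K → K = ncl (K ⊓ A) K ⊔ core {2}ᶜ C
  odd_le : ∀ X, X ≤ C → Odd (Nat.card X) → A ≤ 𝐍[X] →
    (∀ K, IsComp A C K → ⁅X, K⁆ ≤ core {2}ᶜ C) → X ≤ core {2}ᶜ C
  fact : ∀ L, core {2}ᶜ C ≤ L → (∀ K, IsComp A C K → K ≤ L) → C ≤ 𝐍[L] →
    ∀ g ∈ C, ∃ n ∈ C ⊓ 𝐍[A], ∃ k ∈ L, g = n * k
  norm : ∀ X, X ≤ C → Odd (Nat.card X) → A ≤ 𝐍[X] → ∀ K, IsComp A C K → X ≤ 𝐍[K]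
  orth : ∀ K K', IsComp A C K → IsComp A C K' → K ≠ K' → K ⊓ A ≤ h.perp (K' ⊓ A)
  ex : ∀ n ∈ ncl A C ⊓ 𝐍[A], Nat.card ↥⁅A, ⟪n⟫⁆ = 4 → ∃ K, IsComp A C K ∧ K ⊓ A = ⁅A, ⟪n⟫⁆
  simp : ∀ K, IsComp A C K → ∀ L, core {2}ᶜ C ≤ L → L ⊴ K → L = core {2}ᶜ C ∨ L = K

/-- induction hypothesis of piece W -/
def WIH (G : Type u) [Group G] : Prop := ∀ (L : Type u) [Group L] [Finite L] [IsSimpleGroup L],
  Nat.card L < Nat.card G → ¬ IsMulCommutative L →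
  ∀ (A : Subgroup L) (β : L → L → ℂˣ), Syl 2 A ⊤ → AF A β → Nat.card A = 4

/-- piece WS -/
def StWS : Prop := ∀ (G : Type u) [Group G] [Finite G] (A C : Subgroup G) (β : G → G → ℂˣ)
  (h : AF A β), WIH G → Syl 2 A ⊤ → A ≤ C → C ≠ ⊤ → WFacts h C

/-- piece WL1: rank two -/
def StWL1 : Prop := ∀ (G : Type u) [Group G] [Finite G] [IsSimpleGroup G], ¬ IsMulCommutative G →
  ∀ (A : Subgroup G), Syl 2 A ⊤ → IsMulCommutative A → Nat.card (Ohm1 2 A) ≤ 4 → Nat.card A = 4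

/-- piece WL2: `N(A)` is not transitive on the involutions of `A` -/
def StWL2 : Prop := ∀ (G : Type u) [Group G] [Finite G] (A : Subgroup G) (β : G → G → ℂˣ),
  Syl 2 A ⊤ → AF A β → 4 < Nat.card (Ohm1 2 A) →
    ∃ a ∈ A, ∃ b ∈ A, orderOf a = 2 ∧ orderOf b = 2 ∧ ∀ n ∈ 𝐍[A], n * a * n⁻¹ ≠ b

/-- piece WL3: order 16 -/
def StWL3 : Prop := ∀ (G : Type u) [Group G] [Finite G] (A : Subgroup G) (β : G → G → ℂˣ)
  (h : AF A β), Syl 2 A ⊤ → 4 < Nat.card A → ∀ n ∈ 𝐍[A], ∀ m ∈ 𝐍[A], Klein ⁅A, ⟪n⟫⁆ → Klein ⁅A, ⟪m⟫⁆ →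
    h.perp ⁅A, ⟪n⟫⁆ ⊓ h.perp ⁅A, ⟪m⟫⁆ = ⊥ → ⁅A, ⟪m⟫⁆ = h.perp ⁅A, ⟪n⟫⁆

end Cfsg.Gag
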