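import Cfsg.Agent.Gag.Short
import Cfsg.Agent.Gag.Conj

/-!
# Gagola, short endgame: the lemmas Irr and Aut, basic facts on `Cfg`
-/

set_option autoImplicit false

namespace Cfsg.Gag

open Subgroup Cfsg.FT Two Fin5
open scoped Pointwise

universe u

variable {G : Type u} [Group G] [Finite G] {X : CP G} {Γ P A B R T : Subgroup G} {z c d g x y : G}

namespace Sh

theorem exists_odd_pow (g : G) : ∃ k, Odd (orderOf (g ^ 2 ^ k)) := by
  obtain ⟨k, m, hm, e⟩ := Nat.exists_eq_two_pow_mul_odd (orderOf_pos g).ne'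
  exact ⟨k, by rwa [orderOf_pow_of_dvd (by positivity) ⟨m, e⟩, e, Nat.mul_div_cancel_left _ (by positivity)]⟩

theorem odd_val (X : CP G) (hx : Odd (orderOf x)) (hc : Commute x g) {k : ℕ}
    (h : X.β x g ^ 2 ^ k = 1) : X.β x g = 1 :=
  orderOf_eq_one_iff.1 (Nat.eq_one_of_dvd_coprimes ((Nat.coprime_two_right.2 hx).pow_right k)
    (orderOf_dvd_of_pow_eq_one (X.pow_eq_one_of_left hc (pow_orderOf_eq_one x)))
    (orderOf_dvd_of_pow_eq_one h))

/-- the odd part of an element outside `ker ψ_x` -/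
theorem odd_part (X : CP G) (hx : Odd (orderOf x)) (hc : Commute x g) (h : X.β x g ≠ 1) :
    ∃ g' ∈ ⟪g⟫, Odd (orderOf g') ∧ X.β x g' ≠ 1 :=
  let ⟨k, hk⟩ := exists_odd_pow g
  ⟨_, pow_mem (mem_zpowers g) _, hk, fun e => h (odd_val X hx hc (by rwa [X.pow_right hc] at e))⟩

theorem two_le_ker (X : CP G) (hx : Odd (orderOf x)) (hR : IsPGroup 2 R) (h : R ≤ 𝐂₁[x]) :
    R ≤ X.ker x := fun r hr => by
  obtain ⟨k, hk⟩ := hR ⟨r, hr⟩
  have hc : Commute x r := (mem_cent1.1 (h hr)).symm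
  exact X.mem_ker.2 ⟨hc, odd_val X hx hc (X.pow_eq_one_of_right hc (congrArg Subtype.val hk))⟩

/-- lemma Irr -/
theorem irr (hX : X.ND ⊤) (h1 : x ≠ 1) (hx : Odd (orderOf x)) (hR : Syl 2 R 𝐂₁[x]) :
    ∃ g ∈ 𝐍[R], Odd (orderOf g) ∧ Commute x g ∧ X.β x g ≠ 1 := by
  obtain ⟨y, -, hc, hy⟩ := hX x (mem_top x) h1
  obtain ⟨k, hk, n, hn, rfl⟩ := (Frattini_arg (X.ker_normal x) (hR.subl
    (two_le_ker X hx hR.pgroup hR.le) (X.ker_normal x).le)).exists_mul (mem_cent1.2 hc.symm)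
  have h2 : Commute x n := (mem_cent1.1 hn.1).symm
  rw [X.mul_right (X.mem_ker.1 hk).1 h2, (X.mem_ker.1 hk).2, one_mul] at hy
  obtain ⟨g, hg, ho, h3⟩ := odd_part X hx h2 hy
  exact ⟨g, zpowers_le.2 hn.2 hg, ho, (mem_cent1.1 (zpowers_le.2 hn.1 hg)).symm, h3⟩

theorem mem_of_odd (h : Γ.index = 2) (ho : Odd (orderOf g)) : g ∈ Γ :=
  mem_of_sq_odd ho (sq_mem_of_index_two h g)

omit [Finite G] in
theorem comm_mem (h : Γ.index = 2) (a b : G) : a * b * a⁻¹ * b⁻¹ ∈ Γ := by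
  simp [mul_mem_iff_of_index_two h]
  tauto

omit [Finite G] in
theorem ab_of_sq (h : ∀ a ∈ A, a * a = 1) : IsMulCommutative A :=
  abelian_iff_forall.2 fun x hx y hy => by
    rw [← inv_eq_of_mul_eq_one_right (h _ (A.mul_mem hx hy)), mul_inv_rev,
      inv_eq_of_mul_eq_one_right (h x hx), inv_eq_of_mul_eq_one_right (h y hy)]

theorem card_inf_index (h : Γ.index = 2) (hx : x ∈ R) (hx' : x ∉ Γ) :
    Nat.card R = 2 * Nat.card ↥(R ⊓ Γ) := by
  haveI := normal_of_index_eq_two h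
  have h1 := card_mul_relIndex (inf_le_left : R ⊓ Γ ≤ R)
  rw [inf_relIndex_left] at h1
  rcases (Nat.dvd_prime Nat.prime_two).1 (h ▸ relIndex_dvd_index_of_normal Γ R) with e | e
  · exact absurd (relIndex_eq_one.1 e hx) hx'
  · rw [← h1, e, mul_comm]

end Sh

open Sh

namespace Cfg

variable (h : Cfg X Γ P A B z c d)
include h

omit [Finite G] in
theorem zAB : z ∈ A ⊓ B := (h.inf z).2 (by simp)
omit [Finite G] in
theorem cAB : c ∈ A ⊓ B := (h.inf c).2 (by simp)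
omit [Finite G] in
theorem dAB : d ∈ A ⊓ B := (h.inf d).2 (by simp)
omit [Finite G] in
theorem dΓ : d ∉ Γ := h.symm.cΓ
omit [Finite G] in
theorem abA : IsMulCommutative A := ab_of_sq h.sqA
omit [Finite G] in
theorem infΓ (hx : x ∈ A ⊓ B) (hx' : x ∈ Γ) : x = 1 ∨ x = z := by
  rcases (h.inf x).1 hx with e | e | e | e
  · exact Or.inl e
  · exact Or.inr e
  · exact absurd (e ▸ hx') h.cΓ
  · exact absurd (e ▸ hx') h.dΓ

theorem exists_AB : ∃ a ∈ A, a ∉ B := SetLike.not_le_iff_exists.1 fun e => by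
  have h1 : (A : Set G) ⊆ {1, z, c, d} := fun x hx => by simpa using (h.inf x).1 ⟨hx, e hx⟩
  have h2 := (Set.ncard_le_ncard h1).trans (Set.ncard_insert_le _ _ |>.trans (Nat.succ_le_succ
    (Set.ncard_insert_le _ _ |>.trans (Nat.succ_le_succ (Set.ncard_insert_le _ _)))))
  rw [← Nat.card_coe_set_eq, SetLike.coe_sort_coe, h.cardA, Set.ncard_singleton] at h2
  omega

theorem sup : A ⊔ B = P := by
  obtain ⟨b, hb, hb'⟩ := h.symm.exists_AB
  exact le_antisymm (sup_le h.leA h.leB) ((sup_eq h.syl.pgroup h.leA (by rw [h.card, h.cardA])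
    (h.leB hb) hb').ge.trans (sup_le_sup_left (zpowers_le.2 hb) A))

theorem inf_cent : A ⊓ B ≤ 𝐂[P] := h.sup ▸ centsY (inf_le_left.trans (abelian_iff.1 h.abA))
  (inf_le_right.trans (abelian_iff.1 h.symm.abA))

theorem mul_mem (hx : x ∈ P) (hy : y ∈ P) (hx' : x ∉ A) (hy' : y ∉ A) : x * y ∈ A :=
  idx2 h.leA (by rw [h.card, h.cardA]) hx hy hx' hy'

theorem kleinV : Klein (A ⊓ Γ) :=
  ⟨by have := card_inf_index h.index h.cAB.1 h.cΓ; rw [h.cardA] at this; omega,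
    fun t ht => h.sqA t ht.1⟩

theorem V_sup : (A ⊓ Γ) ⊔ ⟪d⟫ = A := sup_eq (h.syl.pgroup.to_le h.leA) inf_le_left
  (by rw [h.kleinV.1, h.cardA]) h.dAB.1 fun e => h.dΓ e.2

/-- `d` spans the radical of `A` -/
theorem rad (hx : x ∈ A) (hβ : ∀ a ∈ A, X.β x a = 1) : x = 1 ∨ x = d := by
  obtain ⟨a, ha, ha'⟩ := h.exists_AB
  have h1 := mt (h.βc a (h.leA ha)).1 ha'
  have hc := fun {u v} hu hv => (comm_of_abelian h.abA (x := u) (y := v) hu hv : Commute u v)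
  rcases (h.inf x).1 ⟨hx, (h.βc x (h.leA hx)).1 ((X.symm_eq_one (hc hx h.cAB.1)).2
    (hβ c h.cAB.1))⟩ with e | rfl | rfl | e
  · exact Or.inl e
  · have := (h.βd a (h.leA ha)).2 ha
    rw [h.dcz, X.mul_left (hc h.cAB.1 ha) (hc hx ha), hβ a ha, mul_one] at this
    exact absurd this h1
  · exact absurd (hβ a ha) h1
  · exact Or.inr e

theorem norm_le : 𝐍[A] ≤ 𝐂₁[d] := fun n hn => mem_cent1.2 (mul_inv_eq_iff_eq_mul.1 <|
  (h.rad ((memJ_norm hn).2 h.dAB.1) fun a ha => by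
    have h1 := (memJ_norm' hn).2 ha
    have := X.conj n (comm_of_abelian h.abA h.dAB.1 h1 : Commute _ _)
    rw [(h.βd _ (h.leA h1)).2 h1] at this
    simpa [mul_assoc] using this).resolve_left fun e => h.dΓ (by simp [show d = 1 by simpa using e]))

theorem cent_of_V (hg : g ∈ 𝐍[A]) (hV : g ∈ 𝐂[A ⊓ Γ]) : g ∈ 𝐂[A] := by
  rw [← h.V_sup, centY, cent_cycle]
  exact ⟨hV, h.norm_le hg⟩

theorem norm_cycle (hR : R ≤ P) (hx : x ∈ R) (h2 : x * x ≠ 1) : 𝐍[R] ≤ 𝐍[⟪x⟫] := fun n hn => by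
  have h1 : ∀ y ∈ R, y * y ≠ 1 → y ∉ A ∧ y ∉ B := fun y _ e =>
    ⟨fun e' => e (h.sqA y e'), fun e' => e (h.sqB y e')⟩
  have h3 : ∀ u ∈ R, ∀ v ∈ R, u * u ≠ 1 → v * v ≠ 1 → u * v ∈ Γ → u * v = 1 ∨ u * v = z :=
    fun u hu v hv u2 v2 => h.infΓ ⟨h.mul_mem (hR hu) (hR hv) (h1 u hu u2).1 (h1 v hv v2).1,
      h.symm.mul_mem (hR hu) (hR hv) (h1 u hu u2).2 (h1 v hv v2).2⟩
  have h4 := (h3 x hx x hx h2 h2 (mul_self_mem_of_index_two h.index x)).resolve_left h2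
  refine mem_norm_of_conj_le (conj_zpowers n x ▸ zpowers_le.2 ?_)
  rcases h3 _ ((memJ_norm hn).2 hx) _ (R.inv_mem hx) (by simpa using h2)
    (by rwa [← mul_inv_rev, Ne, inv_eq_one]) (comm_mem h.index n x) with e | e
  · rw [mul_inv_eq_one.1 e]
    exact mem_zpowers x
  · rw [mul_inv_eq_iff_eq_mul.1 e, ← h4]
    exact Subgroup.mul_mem _ (Subgroup.mul_mem _ (mem_zpowers x) (mem_zpowers x)) (mem_zpowers x)

theorem aut_le (hR : R ≤ P) (hg : g ∈ 𝐍[R]) (ho : Odd (orderOf g)) (hc : g ∉ 𝐂[R]) :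
    R = A ∨ R = B ∨ (R ≤ Γ ∧ Klein R) := by
  have hp := h.syl.pgroup.to_le hR
  have hco : ∀ K ≤ R, (Nat.card K).Coprime (Nat.card ⟪g⟫) := fun K hK =>
    coprime_pgroup (hp.to_le hK) (Nat.card_zpowers g ▸ ho.not_two_dvd_nat)
  have h2 : ∀ r ∈ R, r * r = 1 := by
    by_contra! e
    obtain ⟨r, hr, h2⟩ := e
    have h3 : ∀ s ∈ R, s * s ≠ 1 → g ∈ 𝐂₁[s] := fun s hs s2 => cent_cycle s ▸ zpowers_le.1
      (cents_cyclic_pgroup (cycle_cyclic s) (hp.to_le (zpowers_le.2 hs))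
        (zpowers_le.2 (h.norm_cycle hR hs s2 hg)) fun q hq hd =>
        ⟨ne_two_of_odd_of_dvd (Nat.card_zpowers g ▸ ho) hd, by simpa using hq.one_lt.ne'⟩)
    refine hc (zpowers_le.1 (stable_factor_cent (K := R ⊓ 𝐂₁[r]) (zpowers_le.2 fun s hs => ?_)
      (le_inf (commg_subl.2 (zpowers_le.2 hg)) (cent_cycle r ▸ commg_cent_cyclic (cycle_cyclic r)
        ((normG R).trans (h.norm_cycle hR hr h2)) (zpowers_le.2 (h.norm_cycle hR hr h2 hg))))
      (hco _ inf_le_left)))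
    by_cases s2 : s * s = 1
    · have h4 := cent1C.1 (h3 (s * r) (R.mul_mem hs.1 hr) (by
        rwa [(show Commute s r from mem_cent1.1 hs.2).symm.mul_mul_mul_comm, s2, one_mul]))
      exact mem_cent1.1 ((mul_mem_cancel_right (cent1C.1 (h3 r hr h2))).1 h4)
    · exact (mem_cent1.1 (h3 s hs.1 s2)).symm
  have h3 : R ≤ A ∨ R ≤ B := by
    by_contra! e
    obtain ⟨b, hb, hb'⟩ := SetLike.not_le_iff_exists.1 e.1
    obtain ⟨a, ha, ha'⟩ := SetLike.not_le_iff_exists.1 e.2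
    rcases h.invol _ (hR (R.mul_mem ha hb)) (h2 _ (R.mul_mem ha hb)) with e | e
    · exact hb' ((A.mul_mem_cancel_left ((h.invol a (hR ha) (h2 a ha)).resolve_right ha')).1 e)
    · exact ha' ((B.mul_mem_cancel_right ((h.invol b (hR hb) (h2 b hb)).resolve_left hb')).1 e)
  have h4 : ∀ K : Subgroup G, Nat.card K = 2 → g ∈ 𝐍[K] → g ∈ 𝐂[K] := fun K e hK => zpowers_le.1
    (cents_prime_of_coprime (e ▸ Nat.prime_two) (zpowers_le.2 hK) (by simp [e]))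
  obtain ⟨k, hk, e⟩ := (Nat.dvd_prime_pow Nat.prime_two).1 (show Nat.card R ∣ 2 ^ 3 from
    h3.elim (fun e => (card_dvd_of_le e).trans h.cardA.dvd) fun e => (card_dvd_of_le e).trans h.cardB.dvd)
  interval_cases k
  · exact absurd (by simp [card_eq_one.1 e]) hc
  · exact absurd (h4 R e hg) hc
  · refine Or.inr (Or.inr ⟨?_, e, h2⟩)
    by_contra e'
    obtain ⟨x, hx, hx'⟩ := SetLike.not_le_iff_exists.1 e'
    have h5 := card_inf_index h.index hx hx'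
    have h6 : Nat.card ↥(R ⊓ Γ) = 2 := by omega
    obtain ⟨t, ht, t1⟩ := exists_ne_one (ne_bot_of_prime (h6 ▸ Nat.prime_two))
    exact hc (klein_fix ⟨e, h2⟩ hg ho ht.1 t1 (h4 _ h6 (zpowers_le.1 (normsI (zpowers_le.2 hg)
      (normsG (zpowers_le.2 (mem_of_odd h.index ho))))) t ht).symm)
  · exact h3.imp (fun l => card_eq_of_le l (by rw [e, h.cardA]; rfl))
      fun l => Or.inl (card_eq_of_le l (by rw [e, h.cardB]; rfl))

/-- lemma Aut -/
theorem aut (hR : IsPGroup 2 R) (hg : g ∈ 𝐍[R]) (ho : Odd (orderOf g)) (hc : g ∉ 𝐂[R]) :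
    (∃ k : G, R = k •ᶜ A ∨ R = k •ᶜ B) ∨ (R ≤ Γ ∧ Klein R) := by
  obtain ⟨k, -, hk⟩ := Sylow_Jsub h.syl le_top hR
  haveI := normal_of_index_eq_two h.index
  rcases h.aut_le hk (g := k * g * k⁻¹) (by rwa [norm_conj, conj_mem_conj])
    (by rwa [show orderOf (k * g * k⁻¹) = orderOf g from (MulAut.conj k).orderOf_eq g])
    (by rwa [cent_conj, conj_mem_conj]) with e | e | e
  · exact Or.inl ⟨k⁻¹, Or.inl (conj_eq_iff.1 e)⟩
  · exact Or.inl ⟨k⁻¹, Or.inr (conj_eq_iff.1 e)⟩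
  · exact Or.inr ⟨(conj_le_iff_of_mem_norm (le_normalizer_of_normal (mem_top k))).1 e.1,
      inv_conj_conj k R ▸ klein_conj e.2 k⁻¹⟩

end Cfg

end Cfsg.Gag
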