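import Cfsg.Agent.Gag.Irr
import Cfsg.Agent.Gag.Core

/-!
# Gagola, short endgame: pieces Klein and Cfg
-/

set_option autoImplicit false

namespace Cfsg.Gag

open Subgroup Cfsg.FT Two Fin5 Sh Cfsg.Gag.Core
open scoped Pointwise

universe u

namespace Sh

variable {G : Type u} [Group G] [Finite G] {T : Subgroup G} {a b g : G}

theorem pgroup_two (ha : a * a = 1) (hb : b * b = 1) (h : Commute a b) : IsPGroup 2 ↥(⟪a⟫ ⊔ ⟪b⟫) :=
  abelem_pgroup (abelem_sup (cycle_abelem (sq a ▸ ha)) (cycle_abelem (sq b ▸ hb))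
    (by rw [cent_cycle, zpowers_le]; exact mem_cent1.2 h.symm))

theorem commutator_top {S : Subgroup G} (h : ⁅S, S⁆ = S) : commutator S = ⊤ :=
  map_injective S.subtype_injective (by rw [map_subtype_commutator, h, map_subtype_top])

theorem conj_of_klein (hT : Syl 2 T ⊤) (h : Klein T) (hg : g ∈ 𝐍[T]) (ho : Odd (orderOf g))
    (hc : g ∉ 𝐂[T]) (s t : G) (hs : orderOf s = 2) (ht : orderOf t = 2) : IsConj s t := by
  have key : ∀ s : G, orderOf s = 2 → ∃ a ∈ T, a ≠ 1 ∧ IsConj s a ∧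
      ∃ c ∈ T, IsConj a c ∧ c ≠ 1 ∧ c ≠ a := fun s hs => by
    obtain ⟨k, -, hk⟩ := Sylow_Jsub hT (le_top : ⟪s⟫ ≤ ⊤) (prime_pgroup (by rw [Nat.card_zpowers, hs]))
    have h1 : k * s * k⁻¹ ≠ 1 := fun e => by simp [show s = 1 by simpa using e] at hs
    have h2 := hk (conj_mem_conj.2 (mem_zpowers s))
    exact ⟨_, h2, h1, isConj_iff.2 ⟨k, rfl⟩, _, (memJ_norm hg).2 h2, isConj_iff.2 ⟨g, rfl⟩,
      by simpa using h1, fun e => hc (klein_fix h hg ho h2 h1 (mul_inv_eq_iff_eq_mul.1 e))⟩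
  obtain ⟨a, ha, h1, ea, c, hc, e, c1, c2⟩ := key s hs
  obtain ⟨b, hb, h2, eb, d, hd, e', d1, d2⟩ := key t ht
  refine ea.trans (IsConj.trans ?_ eb.symm)
  by_cases h3 : a = b
  · exact h3 ▸ IsConj.refl a
  rcases Cj.klein_mem h ha hb h1 h2 h3 hc with rfl | rfl | rfl | rfl
  · exact absurd rfl c1
  · exact absurd rfl c2
  · exact e
  rcases Cj.klein_mem h ha hb h1 h2 h3 hd with rfl | rfl | rfl | rfl
  · exact absurd rfl d1
  · exact e'.symm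
  · exact absurd rfl d2
  · exact e.trans e'.symm

end Sh

theorem stKlein (hV : StV.{u}) : StKlein.{u} := by
  intro G _ _ X S P hX hS hP hK
  have hA := hS.syl 2 Nat.prime_two P hP
  have hT : Syl 2 ((P ⊓ S).subgroupOf S) ⊤ := by simpa using hA.subgroupOf le_rfl
  have hp := commutator_top (comp_der hS)
  refine hV S (X.sub S) _ hT (klein_sub hK hA.le)
    (stConj S _ hp hT (Or.inl (klein_sub hK hA.le))).1 ?_ hp
  rintro ⟨i, hi⟩ ⟨x, hx⟩ ⟨u, hu⟩ oi x1 ox ix uu ux ui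
  replace x1 : x ≠ 1 := fun e => x1 (Subtype.ext e)
  rw [← orderOf_coe] at oi ox
  replace ix : i * x * i⁻¹ = x⁻¹ := congrArg Subtype.val ix
  replace ux : Commute u x := congrArg Subtype.val ux
  have hn : ⟪i⟫ ≤ 𝐍[𝐂₁[x]] := zpowers_le.2 (conj_eq_iff_mem_norm.1 (by rw [← cent1_conj, ix, cent1_inv]))
  obtain ⟨R, hR, hl⟩ := Sylow_superset (H := 𝐂₁[x] ⊔ ⟪i⟫) (sup_le_sup_right (zpowers_le.2
    (mem_cent1.2 ux)) _) (pgroup_two (congrArg Subtype.val uu) (by rw [← sq, ← oi, pow_orderOf_eq_one])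
      (congrArg Subtype.val ui))
  obtain ⟨c, hc, -, cx, h1⟩ := irr hX.top x1 ox (Sylow_setI_normal (normalYl hn) hR)
  have hcS : c ∈ 𝐍[S] := hS.norm c x hx x1 (by rwa [← cx.eq, mul_inv_cancel_right])
  obtain ⟨k, -, hk⟩ := Sylow_subJ hA (inf_le_right : R ⊓ S ≤ S) (hR.pgroup.to_le inf_le_left)
  have h2 : i ∈ 𝐂[R ⊓ 𝐂₁[x] ⊓ S] := sub_abelian_cent (abelianS hk (isMulCommutative_conj.2 hK.ab))
    (inf_le_inf_right S inf_le_left) ⟨hl (mem_sup_right (mem_zpowers i)), hi⟩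
  have h3 := mul_mem ((memJ_norm (cent_norm _ (zpowers_le.1 (normsI (zpowers_le.2 hc)
    (zpowers_le.2 hcS))))).2 h2) (inv_mem h2)
  have h4 : Commute x (i * c⁻¹ * i⁻¹) :=
    (mem_cent1.1 ((memJ_norm (zpowers_le.1 hn)).2 (inv_mem (mem_cent1.2 cx.symm)))).symm
  have h5 : X.cp.β x (i * c⁻¹ * i⁻¹) = X.cp.β x c := by
    have := X.cp.conj i cx.inv_inv
    rwa [X.cp.inv_left cx.inv_right, X.cp.inv_right cx, inv_inv, ← conj_inv, ix, inv_inv] at this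
  have e : c * i * c⁻¹ * i⁻¹ = c * (i * c⁻¹ * i⁻¹) := by group
  have h6 : Commute (⟨x, hx⟩ : S) ⟨_, mul_mem ((memJ_norm hcS).2 hi) (inv_mem hi)⟩ :=
    Subtype.ext (e ▸ cx.mul_right h4 :)
  refine ⟨_, Subtype.ext (h3 u ⟨⟨hl (mem_sup_left (mem_zpowers u)), mem_cent1.2 ux⟩, hu⟩), h6, ?_⟩
  rw [X.sub_β S h6]
  exact fun e' => h1 (odd_val X.cp ox cx (k := 1) (by
    dsimp only at e'
    rwa [e, X.cp.mul_right cx h4, h5, ← sq] at e'))

theorem stCfg (hN : StNoReg.{u}) (hC : StCnt.{u}) : StCfg.{u} := by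
  intro G _ _ X Γ P A B z c d hX h
  haveI := normal_of_index_eq_two h.index
  have hn : X.cp.ker d ⊓ Γ ⊴ 𝐂₁[d] := ⟨inf_le_left.trans (X.cp.ker_normal d).le,
    normsI (X.cp.ker_normal d).norm le_normalizer_of_normal⟩
  have hT := Sylow_setI_normal hn (h.syl.subl (le_cent1.2 (h.inf_cent h.dAB)) le_top)
  rw [← inf_assoc, show P ⊓ X.cp.ker d = A from le_antisymm
    (fun p hp => (h.βd p hp.1).1 (X.cp.mem_ker.1 hp.2).2) fun a ha => ⟨h.leA ha, X.cp.mem_ker.2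
      ⟨comm_of_abelian h.abA h.dAB.1 ha, (h.βd a (h.leA ha)).2 ha⟩⟩] at hT
  have hd2 := h.sqA d h.dAB.1
  have ho : ∀ g, Commute d g → Odd (orderOf g) → g ∈ X.cp.ker d ⊓ Γ := fun g hc ho =>
    ⟨X.cp.mem_ker.2 ⟨hc, (X.cp.symm_eq_one hc.symm).2 (odd_val X.cp ho hc.symm (k := 1)
      (X.cp.pow_eq_one_of_right hc.symm (sq d ▸ hd2)))⟩, mem_of_odd h.index ho⟩
  have hT' : Syl 2 ((A ⊓ Γ).subgroupOf (X.cp.ker d ⊓ Γ)) ⊤ := by simpa using hT.subgroupOf le_rfl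
  obtain ⟨g, hg, og, cg⟩ := h.fusA
  refine hC _ (X.sub (X.cp.ker d ⊓ Γ)) _ hT' (klein_sub h.kleinV hT.le)
    (conj_of_klein hT' (klein_sub h.kleinV hT.le) (g := ⟨g, ho g (mem_cent1.1 (h.norm_le hg)).symm og⟩)
      (by rw [norm_subgroupOf hT.le]
          exact (zpowers_le (g := g)).1 (normsI (zpowers_le.2 hg) le_normalizer_of_normal))
      (by rwa [← orderOf_coe]) (by rw [cent_subgroupOf hT.le]; exact fun e => cg (h.cent_of_V hg e))) ?_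
  rintro ⟨x, hx⟩ ⟨u, hu⟩ x1 ox uu ux
  replace x1 : x ≠ 1 := fun e => x1 (Subtype.ext e)
  rw [← orderOf_coe] at ox
  obtain ⟨R, hR, hl⟩ := Sylow_superset (H := 𝐂₁[x]) (sup_le (zpowers_le.2 (mem_cent1.2
    (X.cp.mem_ker.1 hx.1).1)) (zpowers_le.2 (mem_cent1.2 (congrArg Subtype.val ux))))
    (pgroup_two hd2 (congrArg Subtype.val uu) (X.cp.mem_ker.1 hu.1).1)
  have hdR := hl (mem_sup_left (mem_zpowers d))
  obtain ⟨y, hy, xy, h1⟩ : ∃ y ∈ 𝐂[R], Commute x y ∧ X.cp.β x y ≠ 1 := by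
    obtain ⟨y, hy, oy, xy, h1⟩ := irr hX.top x1 ox hR
    by_cases hc : y ∈ 𝐂[R]
    · exact ⟨y, hc, xy, h1⟩
    obtain ⟨k, hk⟩ := (h.aut hR.pgroup hy oy hc).resolve_right fun e => h.dΓ (e.1 hdR)
    have key : ∀ {A B c d}, Cfg X.cp Γ P A B z c d → R = k •ᶜ A →
        ∃ y ∈ 𝐂[R], Commute x y ∧ X.cp.β x y ≠ 1 := fun h e => by
      obtain ⟨y, hy, xy, h1⟩ := hN G X _ _ _ _ _ _ _ (k⁻¹ * x * k) hX h
        (mem_conj.1 (cent_conj k _ ▸ e ▸ le_cent1.1 hR.le)) 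
        (fun e => x1 (by rwa [mul_assoc, inv_mul_eq_one, right_eq_mul] at e))
        (by rwa [show orderOf (k⁻¹ * x * k) = orderOf x by simpa using (MulAut.conj k⁻¹).orderOf_eq x])
      have h2 := X.cp.conj k xy
      have h3 := xy.map (MulAut.conj k)
      simp only [MulAut.conj_apply, mul_assoc, mul_inv_cancel, mul_one, mul_inv_cancel_left] at h1 h2 h3
      exact ⟨_, by rwa [e, cent_conj, ← mul_assoc, conj_mem_conj], h3, h2 ▸ h1⟩
    exact hk.elim (key h) (key h.symm)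
  obtain ⟨y', hy', oy, h2⟩ := odd_part X.cp ox xy h1
  have h3 := zpowers_le.2 hy hy'
  have h4 : Commute (⟨x, hx⟩ : ↥(X.cp.ker d ⊓ Γ)) ⟨y', ho y' (h3 d hdR) oy⟩ :=
    Subtype.ext (mem_cent1.1 (zpowers_le.2 (mem_cent1.2 xy.symm) hy')).symm
  exact ⟨_, Subtype.ext (h3 u (hl (mem_sup_right (mem_zpowers u)))), h4, by rwa [X.sub_β _ h4]⟩

end Cfsg.Gag
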