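import Cfsg.Agent.Gag.Irr
import Cfsg.Agent.Gag.FinK
import Cfsg.Agent.Gag.W3

/-!
# Gagola, short endgame: piece NoReg
-/

set_option autoImplicit false
set_option linter.style.haveILetI false
set_option linter.unusedSectionVars false

namespace Cfsg.Gag.NR

open Subgroup Cfsg.FT Cfsg.Gag.Fin5 Cfsg.Gag.Sh
open scoped Pointwise

universe u

variable {G : Type u} [Group G] [Finite G] {X : CP G} {Γ P A B R E O V Q : Subgroup G}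
  {z c d g g' y b r : G}

theorem not_two_dvd (h : Odd (orderOf g)) : PiElt {2}ᶜ g :=
  piElt_compl.2 (by rwa [← even_iff_two_dvd, Nat.not_even_iff_odd])

theorem odd_constt (g : G) : Odd (orderOf (constt {2}ᶜ g)) := by
  rw [← Nat.not_even_iff_odd, even_iff_two_dvd]
  exact piElt_compl.1 (p_elt_constt _ g)

theorem constt3_mem {K : Subgroup G} (h3 : g ^ 3 ∈ K) (h : constt {3} g ∈ K) : g ∈ K := by
  rw [← consttC {3} g]
  refine mul_mem h (mem_of_pow_coprime (a := 3) (by rw [← consttX]; exact constt_mem _ h3)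
    (by rw [pow_orderOf_eq_one]; exact one_mem _) ?_)
  exact (Nat.Prime.coprime_iff_not_dvd Nat.prime_three).2 (piElt_compl.1 (p_elt_constt _ g))

theorem cent_V (hO : IsPGroup 3 O) (hc : Nat.card O ≤ 27) (hV : Klein V) (hVO : V ≤ 𝐍[O])
    (hgO : g ∈ 𝐍[O]) (hgV : g ∈ 𝐍[V]) (ho : Odd (orderOf g)) (hg : g ∉ 𝐂[V])
    (hy : O ⊓ 𝐂[V] ≠ ⊥) : O ≤ 𝐂[V] := by
  obtain ⟨v₁, h1, n1⟩ := exists_ne_one hV.ne_bot
  have h2 := (memJ_norm hgV).2 h1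
  have h3 := (memJ_norm hgV).2 h2
  have nf : ∀ v ∈ V, v ≠ 1 → g * v * g⁻¹ ≠ v := fun v hv n e =>
    hg (klein_fix hV hgV ho hv n (mul_inv_eq_iff_eq_mul.1 e))
  have n2 : g * v₁ * g⁻¹ ≠ 1 := by simpa using n1
  have n3 : g * (g * v₁ * g⁻¹) * g⁻¹ ≠ 1 := by simpa using n1
  have n12 := nf v₁ h1 n1
  have n23 := nf _ h2 n2
  have n13 : g * (g * v₁ * g⁻¹) * g⁻¹ ≠ v₁ := fun e => hg (mem_of_sq_odd ho (klein_fix hV
    (pow_mem hgV 2) (ho.of_dvd_nat (orderOf_pow_dvd 2)) h1 n1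
      (mul_inv_eq_iff_eq_mul.1 (Eq.trans (by rw [pow_two]; group) e))))
  have cj : ∀ v : G, O ⊓ 𝐂₁[g * v * g⁻¹] = g •ᶜ (O ⊓ 𝐂₁[v]) := fun v => by
    rw [conj_inf, conj_eq_of_mem_norm hgO, cent1_conj]
  have e2 := cj v₁
  have e3 := cj (g * v₁ * g⁻¹)
  generalize g * v₁ * g⁻¹ = v₂ at *
  generalize g * v₂ * g⁻¹ = v₃ at *
  have cm : ∀ a ∈ V, ∀ b ∈ V, Commute a b := fun a ha b hb => comm_of_abelian hV.ab ha hb
  have gen : ∀ s ∈ V, ∀ l ∈ V, s ≠ 1 → l ≠ 1 → s ≠ l → 𝐂[V] = 𝐂₁[l] ⊓ 𝐂₁[s] :=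
    fun s hs l hl a b c => by
      conv_lhs => rw [hV.gen hs hl a b c]
      rw [centY, cent_cycle, cent_cycle]
  have mem : ∀ v ∈ V, v = 1 ∨ v = v₁ ∨ v = v₂ ∨ v = v₁ * v₂ := fun v hv => by
    rw [hV.gen h2 h1 n2 n1 n12] at hv
    obtain ⟨i, hi, j, hj, rfl⟩ := (mem_join_norm (norms_cycle
      (zpowers_le.2 (mem_cent1.2 (cm _ h2 _ h1))))).1 hv
    rcases mem_cycle2 (hV.2 _ h1) hi with rfl | rfl <;>
      rcases mem_cycle2 (hV.2 _ h2) hj with rfl | rfl <;> simp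
  have e12 : v₃ = v₁ * v₂ := (((mem v₃ h3).resolve_left n3).resolve_left n13).resolve_left n23
  have co : (Nat.card O).Coprime (Nat.card V) := coprime_pgroups hO hV.pgroup (by decide)
  by_cases hC : O ⊓ 𝐂₁[v₁] ≤ 𝐂[V]
  · have k2 : O ⊓ 𝐂₁[v₂] ≤ 𝐂[V] := e2 ▸ conj_le_of_mem_norm (cent_norm V hgV) hC
    have k3 : O ⊓ 𝐂₁[v₃] ≤ 𝐂[V] := e3 ▸ conj_le_of_mem_norm (cent_norm V hgV) k2
    refine coprime_abelian_gen_cent1_le hV.ab hV.not_cyclic hVO co fun v hv n => ?_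
    rcases (mem v hv).resolve_left n with e | e | e <;> rw [e]
    · exact hC
    · exact k2
    · exact e12 ▸ k3
  exfalso
  have c2 : Nat.card ↥(O ⊓ 𝐂₁[v₂]) = Nat.card ↥(O ⊓ 𝐂₁[v₁]) := by rw [e2, card_conj]
  have c3 : Nat.card ↥(O ⊓ 𝐂₁[v₃]) = Nat.card ↥(O ⊓ 𝐂₁[v₁]) := by rw [e3, card_conj, c2]
  have l1 : O ⊓ 𝐂[V] < O ⊓ 𝐂₁[v₁] := lt_of_le_of_ne (inf_le_inf_left _ (cent_le_cent1 h1))
    fun e => hC (e.ge.trans inf_le_right)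
  have l2 : O ⊓ 𝐂₁[v₁] < O := lt_of_le_of_ne inf_le_left fun e => hC (by
    have k : O ⊓ 𝐂₁[v₂] = O := by rw [e2, e, conj_eq_of_mem_norm hgO]
    rw [gen _ h2 _ h1 n2 n1 n12]
    exact le_inf inf_le_right (inf_le_left.trans (k.ge.trans inf_le_right)))
  have k1 := card_mul_le_of_lt (hO.to_le inf_le_left) l1
  have k2 := card_mul_le_of_lt hO l2
  have k3 := Nat.le_of_dvd Nat.card_pos (pgroup_pdiv (hO.to_le inf_le_left) hy)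
  have k4 := card_mul_relIndex l2.le
  have i1 : (O ⊓ 𝐂₁[v₁]).relIndex O = 3 := by
    rw [show Nat.card ↥(O ⊓ 𝐂₁[v₁]) = 9 by omega] at k4; omega
  have k5 : ¬ O ⊓ 𝐂₁[v₂] ≤ O ⊓ 𝐂₁[v₁] := fun h => by
    have := card_le_of_le (show O ⊓ 𝐂₁[v₂] ≤ O ⊓ 𝐂[V] from le_inf inf_le_left (by
      rw [gen _ h2 _ h1 n2 n1 n12]; exact le_inf (h.trans inf_le_right) inf_le_right))
    omega
  have k6 := (p_index_maximal l2.le (i1 ▸ Nat.prime_three)).sup_eq inf_le_left k5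
  have k7 : O ⊓ 𝐂₁[v₃] ≤ O ⊓ 𝐂[V] := fun x hx => by
    obtain ⟨a, ha, b, hb, rfl⟩ := (mem_join_norm (inf_le_left.trans
      (index_p_normal hO l2.le i1).norm)).1 (k6.ge hx.1)
    have a1 : Commute a v₁ := mem_cent1.1 ha.2
    have b2 : Commute b v₂ := mem_cent1.1 hb.2
    have e : v₂ * a * v₂⁻¹ * (v₁ * b * v₁⁻¹) = a * b := by
      have x3 : Commute (a * b) (v₁ * v₂) := e12 ▸ mem_cent1.1 hx.2
      calc v₂ * a * v₂⁻¹ * (v₁ * b * v₁⁻¹)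
          = v₂ * (v₁ * a * v₁⁻¹) * v₂⁻¹ * (v₁ * (v₂ * b * v₂⁻¹) * v₁⁻¹) := by
            rw [← a1.eq, ← b2.eq, mul_inv_cancel_right, mul_inv_cancel_right]
        _ = (v₂ * v₁) * a * (v₂ * v₁)⁻¹ * (v₁ * v₂) * b * (v₁ * v₂)⁻¹ := by group
        _ = (v₁ * v₂) * (a * b) * (v₁ * v₂)⁻¹ := by rw [(cm _ h2 _ h1).eq]; group
        _ = a * b := by rw [← x3.eq, mul_inv_cancel_right]
    have u2 : Commute (a⁻¹ * (v₂ * a * v₂⁻¹)) v₂ := by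
      rw [show a⁻¹ * (v₂ * a * v₂⁻¹) = b * (v₁ * b * v₁⁻¹)⁻¹ by
        rw [eq_mul_inv_iff_mul_eq, mul_assoc, e]; group]
      exact b2.mul_left (((cm _ h1 _ h2).mul_left b2).mul_left (cm _ h1 _ h2).inv_left).inv_left
    have u1 : a⁻¹ * (v₂ * a * v₂⁻¹) = 1 := by
      have s : (a⁻¹ * (v₂ * a * v₂⁻¹)) ^ 2 = 1 := by
        rw [pow_two]
        nth_rw 1 [← mul_inv_cancel_right (a⁻¹ * (v₂ * a * v₂⁻¹)) v₂, u2.eq]
        rw [show v₂ * (a⁻¹ * (v₂ * a * v₂⁻¹)) * v₂⁻¹ * (a⁻¹ * (v₂ * a * v₂⁻¹))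
          = v₂ * a⁻¹ * v₂ * a * (v₂ * v₂)⁻¹ * a⁻¹ * v₂ * a * v₂⁻¹ by group, hV.2 _ h2,
          show v₂ * a⁻¹ * v₂ * a * 1⁻¹ * a⁻¹ * v₂ * a * v₂⁻¹
            = v₂ * a⁻¹ * (v₂ * v₂) * a * v₂⁻¹ by group, hV.2 _ h2]
        group
      exact mem_bot.1 (mem_of_sq_odd (odd_of_pelt3 (pelt3 hO (mul_mem (inv_mem ha.1)
        ((memJ_norm (hVO h2)).2 ha.1)))) (s ▸ one_mem _))
    have a2 : Commute a v₂ := (mul_inv_eq_iff_eq_mul.1 (inv_mul_eq_one.1 u1).symm).symm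
    refine ⟨hx.1, ?_⟩
    rw [gen _ h3 _ h2 n3 n2 n23]
    exact ⟨mem_cent1.2 (a2.mul_left b2), hx.2⟩
  have := card_le_of_le k7
  omega

section

variable (h : Cfg X Γ P A B z c d)
include h

omit [Finite G] in
theorem elem_le (hE : E ≤ P) (he : ∀ e ∈ E, e * e = 1) (hr : r ∈ E) (hrB : r ∉ B) : E ≤ A :=
  fun e h1 => by
  have h2 := (h.invol r (hE hr) (he r hr)).resolve_right hrB
  refine (h.invol e (hE h1) (he e h1)).elim id fun h3 => ?_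
  rcases h.invol _ (hE (mul_mem h1 hr)) (he _ (mul_mem h1 hr)) with h4 | h4
  · exact (mul_mem_cancel_right h2).1 h4
  · exact absurd ((mul_mem_cancel_left h3).1 h4) hrB

theorem pA : IsPGroup 2 A := h.syl.pgroup.to_le h.leA

theorem sylA : Syl 2 A 𝐂[A] := by
  refine max_pgroup_Sylow (abelian_iff.1 h.abA) (pA h) fun S h1 h2 h3 => by_contra fun h4 => ?_
  have l := lt_of_le_of_ne h1 (Ne.symm h4)
  obtain ⟨s, hs, hsA⟩ := SetLike.exists_of_lt l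
  have h5 := card_mul_le_of_lt h3 l
  rw [h.cardA] at h5
  have h6 := h.syl.of_card_le le_top h3 (by rw [h.card]; exact h5)
  have h7 := Two.sup_eq h3 h1 (by rw [h6.card_eq h.syl, h.card, h.cardA]) hs hsA
  obtain ⟨k, -, e⟩ := Sylow_trans h6 h.syl
  have h8 : IsMulCommutative P := e ▸ isMulCommutative_conj.2
    (h7 ▸ abelianY.2 ⟨h.abA, cycle_abelian s, zpowers_le.2 (h2 hs)⟩)
  obtain ⟨a, ha, haB⟩ := h.exists_AB
  obtain ⟨b, hb, hbA⟩ := h.symm.exists_AB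
  have h9 := h.comm a ha haB b hb hbA
  rw [comm_of_abelian h8 (h.leA ha) (h.leB hb), mul_inv_cancel_right, left_eq_mul] at h9
  exact h.z1 h9

theorem reg (hX : X.ND ⊤) (hy : y ∈ 𝐂[A]) (y1 : y ≠ 1) (ho : Odd (orderOf y))
    (hr : ∀ g ∈ 𝐂[A], Commute y g → X.β y g = 1) : Syl 2 A 𝐂₁[y] ∧
      ∃ g ∈ 𝐍[A], Odd (orderOf g) ∧ Commute y g ∧ X.β y g ≠ 1 := by
  obtain ⟨R, hR, hAR⟩ := Sylow_superset (le_cent1.2 hy) (pA h)
  obtain ⟨g, hg, h1, h2, h3⟩ := irr hX y1 ho hR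
  have e : A = R := by
    rcases h.aut hR.pgroup hg h1 fun h4 => h3 (hr g (centS hAR h4) h2) with ⟨k, e | e⟩ | ⟨e, -⟩
    · exact card_eq_of_le hAR (by rw [e, card_conj])
    · exact card_eq_of_le hAR (by rw [e, card_conj, h.cardA, h.cardB])
    · exact absurd (e (hAR h.cAB.1)) h.cΓ
  exact ⟨e ▸ hR, g, e ▸ hg, h1, h2, h3⟩

omit [Finite G] in
theorem normV : 𝐍[A] ≤ 𝐍[A ⊓ Γ] :=
  normsI le_rfl (norm_eq_top.2 (normal_of_index_eq_two h.index) ▸ le_top)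

theorem three (hg : g ∈ 𝐍[A]) (hg' : g' ∈ 𝐍[A]) (o : Odd (orderOf g)) (o' : Odd (orderOf g'))
    (n : g ∉ 𝐂[A]) (n' : g' ∉ 𝐂[A]) : g' * g⁻¹ ∈ 𝐂[A] ∨ g' * g ∈ 𝐂[A] :=
  (klein_three h.kleinV (normV h hg) (normV h hg') o o' (mt (h.cent_of_V hg) n)
    (mt (h.cent_of_V hg') n')).imp (h.cent_of_V (mul_mem hg' (inv_mem hg)))
    (h.cent_of_V (mul_mem hg' hg))

theorem cube (hg : g ∈ 𝐍[A]) (o : Odd (orderOf g)) : g ^ 3 ∈ 𝐂[A] :=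
  h.cent_of_V (pow_mem hg 3) (klein_cube h.kleinV (normV h hg) o)

theorem fix (hg : g ∈ 𝐍[A]) (o : Odd (orderOf g)) (hb : b ∈ A) (b1 : b ≠ 1) (bd : b ≠ d)
    (hc : Commute g b) : g ∈ 𝐂[A] := by
  refine h.cent_of_V hg ?_
  by_cases hΓ : b ∈ Γ
  · exact klein_fix h.kleinV (normV h hg) o ⟨hb, hΓ⟩ b1 hc
  · exact klein_fix h.kleinV (normV h hg) o (t := b * d) ⟨mul_mem hb h.dAB.1,
      (mul_mem_iff_of_index_two h.index).2 (iff_of_false hΓ h.dΓ)⟩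
      (fun e => bd (by rw [eq_inv_of_mul_eq_one_left e,
        inv_eq_of_mul_eq_one_right (h.sqA d h.dAB.1)]))
      (hc.mul_right (mem_cent1.1 (h.norm_le hg)))

/-- step (e) -/
theorem final (hQ : Syl 3 Q 𝐂₁[c]) (hQA : Q ≤ 𝐂[A]) : False := by
  obtain ⟨a, ha, haB⟩ := h.exists_AB
  obtain ⟨v, hv, hvB⟩ : ∃ v ∈ A ⊓ Γ, v ∉ B := by
    by_cases hΓ : a ∈ Γ
    · exact ⟨a, ⟨ha, hΓ⟩, haB⟩
    · exact ⟨a * c, ⟨mul_mem ha h.cAB.1, (mul_mem_iff_of_index_two h.index).2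
        (iff_of_false hΓ h.cΓ)⟩, fun e => haB ((B.mul_mem_cancel_right h.cAB.2).1 e)⟩
  obtain ⟨g, hg, og, ng⟩ := h.fusB
  have hs := h.symm
  have hPc : P ≤ 𝐂₁[c] := le_cent1.2 (h.inf_cent h.cAB)
  have hgc : g ∈ 𝐂₁[c] := hs.norm_le hg
  have vc : v ∈ 𝐂₁[c] := hPc (h.leA hv.1)
  have vv := h.sqA v hv.1
  have vi : v⁻¹ = v := inv_eq_of_mul_eq_one_right vv
  have vz : Commute v z := comm_of_abelian h.abA hv.1 h.zAB.1
  have hz : z ∈ B ⊓ Γ := ⟨h.zAB.2, h.zΓ⟩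
  have nz : ∀ k ∈ 𝐍[B], Odd (orderOf k) → k ∉ 𝐂[B] → k * z * k⁻¹ ∈ B ∧
      v * (k * z * k⁻¹) * v⁻¹ = k * z * k⁻¹ * z ∧ k * z * k⁻¹ ∉ A := fun k hk ok nk => by
    have m := (memJ_norm (normV hs hk)).2 hz
    have m' : k * z * k⁻¹ ∉ A := fun e => (h.infΓ ⟨e, m.1⟩ m.2).elim
      (fun e => h.z1 (by simpa using e)) fun e => nk (hs.cent_of_V hk
        (klein_fix hs.kleinV (normV hs hk) ok hz h.z1 (mul_inv_eq_iff_eq_mul.1 e)))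
    exact ⟨m.1, h.comm v hv.1 hvB _ m.1 m', m'⟩
  obtain ⟨m1, m2, m3⟩ := nz g hg og ng
  obtain ⟨-, m4, -⟩ := nz g⁻¹ (inv_mem hg) (by rwa [orderOf_inv]) (fun e => ng (inv_mem_iff.1 e))
  have vB : v ∈ 𝐍[B] := by
    refine normsP.2 (fun p (hp : p ∈ ⟪v⟫) b hb => ?_) (mem_zpowers v)
    rcases mem_cycle2 vv hp with rfl | rfl
    · simpa using hb
    · by_cases hbA : b ∈ A
      · rwa [comm_of_abelian h.abA hv.1 hbA, mul_inv_cancel_right]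
      · rw [h.comm _ hv.1 hvB b hb hbA]; exact mul_mem hb h.zAB.2
  set k := v * (g * v * g⁻¹) with hk
  have kB : k ∈ 𝐍[B] := mul_mem vB (mul_mem (mul_mem hg vB) (inv_mem hg))
  have kc : k ∈ 𝐂₁[c] := mul_mem vc (mul_mem (mul_mem hgc vc) (inv_mem hgc))
  have zz := h.sqA z h.zAB.1
  have cz : Commute (g * z * g⁻¹) z := comm_of_abelian hs.abA m1 h.zAB.2
  have f1 : k * z * k⁻¹ = g * z * g⁻¹ := by
    rw [hk, show v * (g * v * g⁻¹) * z * (v * (g * v * g⁻¹))⁻¹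
      = v * (g * (v * (g⁻¹ * z * g⁻¹⁻¹) * v⁻¹) * g⁻¹) * v⁻¹ by group, m4,
      show v * (g * (g⁻¹ * z * g⁻¹⁻¹ * z) * g⁻¹) * v⁻¹ = v * z * v⁻¹ * (v * (g * z * g⁻¹) * v⁻¹) by
        group, m2, vz.eq, mul_inv_cancel_right, cz.eq, ← mul_assoc, zz, one_mul]
  have f2 : k * (g * z * g⁻¹) * k⁻¹ = g * z * g⁻¹ * z := by
    rw [hk, show v * (g * v * g⁻¹) * (g * z * g⁻¹) * (v * (g * v * g⁻¹))⁻¹
      = v * (g * (v * z * v⁻¹) * g⁻¹) * v⁻¹ by group, vz.eq, mul_inv_cancel_right, m2]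
  have k2 : k ^ 2 ∉ 𝐂[B ⊓ Γ] := fun e => by
    have : k ^ 2 * z * (k ^ 2)⁻¹ = g * z * g⁻¹ * z := by rw [← f2, ← f1, pow_two]; group
    rw [← e z hz, mul_inv_cancel_right, right_eq_mul] at this
    exact m3 (this ▸ one_mem A)
  have k3 := (klein_or hs.kleinV (normV hs kB)).resolve_left k2
  have w1 : constt {3} k ≠ 1 := fun e => k2 (pow_mem (constt3_mem k3 (e ▸ one_mem _)) 2)
  have wi : v * constt {3} k * v⁻¹ = (constt {3} k)⁻¹ := by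
    rw [← consttJ, ← consttV, hk, mul_inv_rev, ← mul_assoc, vv, one_mul]
    congr 2
    rw [mul_inv_rev, mul_inv_rev, vi]; group
  obtain ⟨m, hm, e⟩ := Sylow_Jsub hQ (zpowers_le.2 (constt_mem {3} kc))
    (piElt_singleton_iff_pgroup.1 (p_elt_constt _ k))
  have hw := hQA (e (conj_mem_conj.2 (mem_zpowers _)))
  have w3 : PiElt {3} (m * constt {3} k * m⁻¹) := (p_elt_constt _ k).conj m
  have w1' : m * constt {3} k * m⁻¹ ≠ 1 := by simpa using w1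
  have wi' : m * v * m⁻¹ * (m * constt {3} k * m⁻¹) * (m * v * m⁻¹)⁻¹ = (m * constt {3} k * m⁻¹)⁻¹ := by
    rw [show m * v * m⁻¹ * (m * constt {3} k * m⁻¹) * (m * v * m⁻¹)⁻¹
      = m * (v * constt {3} k * v⁻¹) * m⁻¹ by group, wi]
    group
  generalize m * constt {3} k * m⁻¹ = w at hw w3 w1' wi'
  have hAL : A ≤ 𝐂₁[c] ⊓ 𝐍[⟪w⟫] := le_inf (h.leA.trans hPc) (norms_cycle (le_cent1.2 hw))
  obtain ⟨S, hS, hAS⟩ := Sylow_superset hAL (pA h)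
  have vL : m * v * m⁻¹ ∈ 𝐂₁[c] ⊓ 𝐍[⟪w⟫] := mem_inf.2 ⟨mul_mem (mul_mem hm vc) (inv_mem hm),
    by rw [← conj_eq_iff_mem_norm, conj_zpowers, wi', zpowers_inv]⟩
  obtain ⟨l, hl, el⟩ := Sylow_Jsub hS (zpowers_le.2 vL) (piElt_singleton_iff_pgroup.1
    (((piSub_singleton.2 (pA h)).piElt hv.1).conj m))
  obtain ⟨n, hn, en⟩ := Sylow_Jsub (h.syl.subl hPc le_top) (hS.le.trans inf_le_left) hS.pgroup
  have nB : ∀ s ∈ 𝐂₁[c], ∀ u ∈ A, u ∉ B → s * u * s⁻¹ ∈ P → s * u * s⁻¹ ∉ B :=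
    fun s hs u hu huB hP e => huB ((h.βc u (h.leA hu)).1 (by
      rw [← beta_conj X (mem_cent1.1 hs) (mem_cent1.1 (hPc (h.leA hu))).symm]
      exact (h.βc _ hP).2 e))
  have hnA := (conj_le_conj.2 hAS).trans en
  have e1 : n •ᶜ A = A := card_eq_of_le (elem_le h hnA (fun e he => by
      obtain ⟨u, hu, rfl⟩ := mem_conj_iff_exists.1 he
      rw [← pow_two, conj_pow, pow_two, h.sqA u hu]; group)
    (conj_mem_conj.2 ha) (nB n hn a ha haB (hnA (conj_mem_conj.2 ha)))) (card_conj n A).ge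
  have e2 : n * (l * (m * v * m⁻¹) * l⁻¹) * n⁻¹ ∈ P :=
    en (conj_mem_conj.2 (el (conj_mem_conj.2 (mem_zpowers _))))
  have e3 : n * (l * (m * v * m⁻¹) * l⁻¹) * n⁻¹ = n * l * m * v * (n * l * m)⁻¹ := by group
  have e4 : l * (m * v * m⁻¹) * l⁻¹ ∈ A := by
    rw [← conj_mem_conj (g := n), e1]
    rw [e3] at e2 ⊢
    exact (h.invol _ e2 (by rw [← pow_two, conj_pow, pow_two, vv]; group)).resolve_right
      (nB _ (mul_mem (mul_mem hn hl.1) hm) v hv.1 hvB e2)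
  have e5 : m * v * m⁻¹ ∈ 𝐂[⟪w⟫] :=
    (memJ_norm (cent_norm _ hl.2)).1 (by rw [cent_cycle]; exact le_cent1.2 hw e4)
  rw [← e5 w (mem_zpowers w), mul_inv_cancel_right, eq_inv_iff_mul_eq_one, ← pow_two] at wi'
  exact w1' (mem_bot.1 (mem_of_sq_odd (odd_of_pelt3 w3) (wi' ▸ one_mem _)))

end

end Cfsg.Gag.NR

namespace Cfsg.Gag

open Subgroup Cfsg.FT Fin5 Sh NR
open scoped Pointwise

universe u

theorem stNoReg (hE : StE.{u}) : StNoReg.{u} := by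
  intro G _ _ Y Γ P A B z c d y hX h hy y1 oy
  by_contra hr
  push Not at hr
  set X := Y.cp with hXd
  -- (a)
  have hsA := sylA h
  have hsd := (Burnside_normal_complement hsA inf_le_left).sdprod hsA
  set F := core {2}ᶜ 𝐂[A] with hF
  have memF : ∀ g ∈ 𝐂[A], Odd (orderOf g) → g ∈ F := fun g hg o =>
    (mem_Hall_pcore (Burnside_normal_complement hsA inf_le_left) hg).2 (not_two_dvd o)
  have oF : Odd (Nat.card F) := by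
    rw [← Nat.not_even_iff_odd, even_iff_two_dvd]; exact p'core_not_dvd 2 _
  have βA : ∀ e ∈ 𝐂[A], Odd (orderOf e) → ∀ a ∈ A, X.β e a = 1 := fun e he o a ha =>
    (X.mem_ker.1 (two_le_ker X o (pA h) (le_cent1.2 he) ha)).2
  obtain ⟨c₃, hc₃, oc₃, nc₃⟩ := h.fusA
  obtain ⟨⟨m, hm⟩, k, ky⟩ := hE G Y F c₃ y oF (norms_pcore _ (cent_norm A) hc₃)
    (memF _ (cube h hc₃ oc₃) (oc₃.of_dvd_nat (orderOf_pow_dvd 3))) (fun e he e1 => by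
      have eC := hsd.left_le he
      have oe : Odd (orderOf e) := oF.of_dvd_nat (orderOf_dvd_natCard _ he)
      have key : ∀ g u : G, g * u ∈ 𝐂[A] → u ∈ ⟪c₃⟫ → Commute e g → X.β e g ≠ 1 →
          ∃ g ∈ F ⊔ ⟪c₃⟫, Commute e g ∧ X.β e g ≠ 1 := fun g u h1 hu h2 h3 => by
        obtain ⟨a, ha, f, hf, e'⟩ := hsd.exists_mul' h1
        have ea : Commute e a := (eC a ha).symm
        refine ⟨a⁻¹ * g, ?_, ea.inv_right.mul_right h2, ?_⟩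
        · rw [show a⁻¹ * g = f * u⁻¹ by rw [eq_mul_inv_iff_mul_eq, mul_assoc, e']; group]
          exact mul_mem (mem_sup_left hf) (inv_mem (mem_sup_right hu))
        · rwa [X.mul_right ea.inv_right h2, βA e eC oe _ (inv_mem ha), one_mul]
      by_cases hre : ∀ g ∈ 𝐂[A], Commute e g → X.β e g = 1
      · obtain ⟨-, g, hg, o, h2, h3⟩ := reg h hX.top eC e1 oe hre
        rcases three h hc₃ hg oc₃ o nc₃ fun h4 => h3 (hre g h4 h2) with h4 | h4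
        · exact key g _ h4 (inv_mem (mem_zpowers _)) h2 h3
        · exact key g _ h4 (mem_zpowers _) h2 h3
      · push Not at hre
        obtain ⟨g, hg, h2, h3⟩ := hre
        exact key g 1 (by rwa [mul_one]) (one_mem _) h2 h3) (memF y hy oy) y1
    fun g hg => hr g (hsd.left_le hg)
  have y3 : PiElt {3} y := piElt_singleton.2 ⟨k, ky⟩
  -- (b)
  obtain ⟨hAD, g₀, hg₀, og₀, cg₀, bg₀⟩ := reg h hX.top hy y1 oy hr
  have ng₀ : g₀ ∉ 𝐂[A] := fun e => bg₀ (hr g₀ e cg₀)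
  have hn0 := X.ker_normal y
  have cD : ∀ g ∈ 𝐂₁[y], Commute y g := fun g hg => (mem_cent1.1 hg).symm
  have hA0 : A ≤ X.ker y := two_le_ker X oy (pA h) hAD.le
  have hAS0 : Syl 2 A (X.ker y) := hAD.subl hA0 hn0.le
  have two : ∀ n ∈ 𝐂₁[y] ⊓ 𝐍[A], constt {2} n ∈ A := fun n hn =>
    (mem_normal_Hall (hAD.subl (le_inf hAD.le (normG A)) inf_le_left).hall
      ⟨le_inf hAD.le (normG A), inf_le_right⟩ (constt_mem _ hn)).2 (p_elt_constt _ n)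
  have hN0 : X.ker y ⊓ 𝐍[A] ≤ 𝐂[A] := fun n hn => by
    rw [← consttC {2} n]
    refine mul_mem (abelian_iff.1 h.abA (two n ⟨hn0.le hn.1, hn.2⟩)) (by_contra fun h1 => bg₀ ?_)
    have h2 : constt {2}ᶜ n ∈ X.ker y ⊓ 𝐍[A] := constt_mem _ hn
    obtain ⟨h3, h4⟩ := X.mem_ker.1 h2.1
    rcases three h hg₀ h2.2 og₀ (odd_constt n) ng₀ h1 with h5 | h5
    · have := hr _ h5 (h3.mul_right cg₀.inv_right)
      rwa [X.mul_right h3 cg₀.inv_right, h4, one_mul, X.inv_right cg₀, inv_eq_one] at this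
    · have := hr _ h5 (h3.mul_right cg₀)
      rwa [X.mul_right h3 cg₀, h4, one_mul] at this
  have hB := Burnside_normal_complement hAS0 hN0
  have hsd0 := hB.sdprod hAS0
  set O := core {2}ᶜ (X.ker y) with hO
  have hOn : O ⊴ 𝐂₁[y] := hn0.core _
  have oO : ¬ 2 ∣ Nat.card O := p'core_not_dvd 2 _
  have yO : y ∈ O := (mem_Hall_pcore hB (X.mem_ker.2 ⟨Commute.refl y, X.alt y⟩)).2 (not_two_dvd oy)
  have hS : ∀ b ∈ A, b ≠ 1 → b ≠ d → 𝐂₁[y] ⊓ 𝐂₁[b] ≤ X.ker y := fun b hb b1 bd u hu => by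
    have h1 : A ≤ 𝐂₁[y] ⊓ 𝐂₁[b] := le_inf hAD.le (le_cent1.2 (abelian_iff.1 h.abA hb))
    obtain ⟨u₀, hu₀, n, hn, rfl⟩ := (Frattini_arg (normalGI inf_le_left hn0)
      (hAS0.subl (le_inf h1 hA0) inf_le_right)).exists_mul hu
    refine mul_mem hu₀.2 ?_
    rw [← consttC {2} n]
    have h2 : constt {2}ᶜ n ∈ 𝐂₁[y] ⊓ 𝐂₁[b] ⊓ 𝐍[A] := constt_mem _ hn
    exact mul_mem (hA0 (two n ⟨hn.1.1, hn.2⟩)) (X.mem_ker.2 ⟨cD _ h2.1.1,
      hr _ (fix h h2.2 (odd_constt n) hb b1 bd (mem_cent1.1 h2.1.2)) (cD _ h2.1.1)⟩)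
  -- (c)
  have sA : SolOr O A := Or.inr (pgroup_sol (pA h))
  have co := (coprime_pgroup (pA h) oO).symm
  obtain ⟨O₃, hO₃, hAO⟩ := sol_coprime_Sylow_exists 3 sA hsd0.norm co
  have g₀D : g₀ ∈ 𝐂₁[y] := mem_cent1.2 cg₀.symm
  obtain ⟨u, hu, eu⟩ := sol_coprime_Sylow_trans sA hsd0.norm co hO₃ hAO
    ((sylJnorm (hOn.norm g₀D)).2 hO₃) (conj_eq_of_mem_norm hg₀ ▸ conj_norms g₀ hAO)
  have h1 : u⁻¹ * g₀ ∈ 𝐂₁[y] ⊓ 𝐍[A] ⊓ 𝐍[O₃] :=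
    ⟨⟨𝐂₁[y].mul_mem (𝐂₁[y].inv_mem (hOn.le hu.1)) g₀D,
      𝐍[A].mul_mem (𝐍[A].inv_mem (cent_sub A hu.2)) hg₀⟩,
      conj_eq_iff_mem_norm.1 (by rw [← conj_conj, eu, inv_conj_conj])⟩
  have hu2 : u⁻¹ ∈ 𝐂[A] := 𝐂[A].inv_mem hu.2
  have h2 : constt {3} (u⁻¹ * g₀) ∉ 𝐂[A] := fun e => ng₀ ((mul_mem_cancel_left hu2).1 (constt3_mem (by
      rw [show (u⁻¹ * g₀) ^ 3 = u⁻¹ * (g₀ * u⁻¹ * g₀⁻¹) * (g₀ ^ 2 * u⁻¹ * (g₀ ^ 2)⁻¹) * g₀ ^ 3 by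
        rw [pow_three, pow_three, pow_two]; group]
      exact mul_mem (mul_mem (mul_mem hu2 ((cent_normal A).conj_mem hg₀ hu2))
        ((cent_normal A).conj_mem (pow_mem hg₀ 2) hu2)) (cube h hg₀ og₀)) e))
  have h3 := constt_mem {3} h1
  have h4 := p_elt_constt {3} (u⁻¹ * g₀)
  generalize constt {3} (u⁻¹ * g₀) = s at h2 h3 h4
  have s0 : s ∉ X.ker y := fun e => h2 (hN0 ⟨e, h3.1.2⟩)
  have ps := piElt_singleton_iff_pgroup.1 h4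
  have py := piElt_singleton_iff_pgroup.1 y3
  have yO₃ : y ∈ O₃ := zpowers_le.1 (hO₃.le_of_normal py ⟨zpowers_le.2 yO, norms_cycle hOn.le⟩)
  have sV : s ∉ 𝐂[A ⊓ Γ] := mt (h.cent_of_V h3.1.2) h2
  have hV : O₃ ≤ 𝐂[A ⊓ Γ] := by
    obtain ⟨S, hS', hle⟩ := Sylow_superset (H := ⊤) le_top
      (pgroup_sup hO₃.pgroup ps (zpowers_le.2 h3.2))
    rcases hX.shape 3 Nat.prime_three S hS' with k1 | k1
    · have k2 := coprime_cent_prod (H := A ⊓ Γ) (A := ⟪s⟫) (zpowers_le.2 (normV h h3.1.2))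
        (coprime_pgroups h.kleinV.pgroup ps (by decide)) (solOr_cycle _ s)
      have k3 : A ⊓ Γ ⊓ 𝐂[⟪s⟫] = ⊥ := eq_bot_iff.2 fun t ht => by_contra fun k4 =>
        sV (klein_fix h.kleinV (normV h h3.1.2) (odd_of_pelt3 h4) ht.1 k4 (ht.2 s (mem_zpowers s)))
      rw [k3, sup_bot_eq] at k2
      rw [centsC, ← k2, commGC]
      exact (commSg _ (sub_abelian_cent2 k1 (le_sup_right.trans hle) (le_sup_left.trans hle))).trans
        ((cent_normal O₃).commg_le (inf_le_left.trans hAO))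
    · have k2 := card_mul_le_of_lt hS'.pgroup (lt_of_le_of_ne (le_sup_left.trans hle) fun e =>
        s0 (hsd0.left_le (hO₃.le (e.ge (hle (mem_sup_right (mem_zpowers s)))))))
      exact cent_V hO₃.pgroup (by omega) h.kleinV (inf_le_left.trans hAO) h3.2 (normV h h3.1.2)
        (odd_of_pelt3 h4) sV (ne_bot_of_mem ⟨yO₃, centS inf_le_left hy⟩ y1)
  have c1 : c ≠ 1 := fun e => h.cΓ (e ▸ one_mem Γ)
  have cd : c ≠ d := fun e => h.ncd (e ▸ IsConj.refl c)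
  have hcA := zpowers_le.2 h.cAB.1
  have hQ₁A : O₃ ⊓ 𝐂[⟪c⟫] ≤ 𝐂[A] := by
    have k : (A ⊓ Γ) ⊔ ⟪c⟫ = A := Two.sup_eq (pA h) inf_le_left (by rw [h.kleinV.1, h.cardA])
      h.cAB.1 fun e => h.cΓ e.2
    conv_rhs => rw [← k, centY]
    exact inf_le_inf_right _ hV
  have hQ₁ : Syl 3 (O₃ ⊓ 𝐂[⟪c⟫]) (𝐂₁[y] ⊓ 𝐂[⟪c⟫]) := by
    have k1 := coprime_Sylow_subcent (solOr_cycle O c) (hcA.trans hsd0.norm)
      (coprimegS hcA co) hO₃ (hcA.trans hAO)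
    have k2 := sdprod_modr hsd0 (sub_abelian_cent h.abA hcA)
    rw [show X.ker y ⊓ 𝐂[⟪c⟫] = 𝐂₁[y] ⊓ 𝐂[⟪c⟫] from le_antisymm (inf_le_inf_right _ hn0.le)
      (le_inf (cent_cycle c ▸ hS c h.cAB.1 c1 cd) inf_le_right)] at k2
    exact k1.trans_index k2.left_le (by rw [index_sdprod k2, h.cardA]; decide)
  rw [cent_cycle] at hQ₁A hQ₁
  -- (d)
  obtain ⟨Q, hQ, hle⟩ := Sylow_superset (inf_le_right : O₃ ⊓ 𝐂₁[c] ≤ 𝐂₁[c]) hQ₁.pgroup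
  have yQ₁ : y ∈ O₃ ⊓ 𝐂₁[c] := ⟨yO₃, cent_le_cent1 h.cAB.1 hy⟩
  have eQ : Q ⊓ 𝐂₁[y] = O₃ ⊓ 𝐂₁[c] := hQ₁.eq_of_le (hQ.pgroup.to_le inf_le_left)
    (le_inf hle (hQ₁.le.trans inf_le_left)) (le_inf inf_le_right (inf_le_left.trans hQ.le))
  by_cases hQD : Q ≤ 𝐂₁[y]
  · exact final h hQ (((inf_eq_left.2 hQD).symm.trans eQ).le.trans hQ₁A)
  obtain ⟨S, hS', hQS⟩ := Sylow_superset (H := ⊤) le_top hQ.pgroup
  have cS := (hX.shape 3 Nat.prime_three S hS').resolve_left fun e =>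
    hQD (le_cent1.2 (abelian_iff.1 (abelianS hQS e) (hle yQ₁)))
  by_cases eS : Q = S
  · obtain ⟨S₃, hS₃, k1⟩ := Sylow_superset (H := ⊤) le_top
      (pgroup_sup py ps (norms_cycle (zpowers_le.2 h3.1.1)))
    obtain ⟨g, -, eg⟩ := Sylow_trans (eS ▸ hS') hS₃
    have k2 : S₃ ≤ 𝐂₁[g * c * g⁻¹] := by rw [eg, cent1_conj, conj_le_conj]; exact hQ.le
    have k3 : g * c * g⁻¹ ∈ 𝐂₁[y] := cent1C.1 (k2 (k1 (mem_sup_left (mem_zpowers y))))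
    obtain ⟨t, ht, et⟩ := Sylow_Jsub hAD (zpowers_le.2 k3) (piElt_singleton_iff_pgroup.1
      (((piSub_singleton.2 (pA h)).piElt h.cAB.1).conj g))
    have k4 := et (conj_mem_conj.2 (mem_zpowers _))
    refine s0 ((memJ_norm (hn0.norm ht)).1 (hS _ k4 (by simpa using c1) (fun e => h.ncd
      (isConj_iff.2 ⟨t * g, by rw [← e]; group⟩)) (mem_inf.2 ⟨(normal_refl _).conj_mem ht h3.1.1, ?_⟩)))
    rw [cent1_conj, conj_mem_conj]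
    exact k2 (k1 (mem_sup_right (mem_zpowers s)))
  have k1 := card_mul_le_of_lt hS'.pgroup (lt_of_le_of_ne hQS eS)
  have k2 : 𝐙[Q] < O₃ ⊓ 𝐂₁[c] := lt_of_le_of_ne (eQ ▸ inf_le_inf_left _ (cent_le_cent1 (hle yQ₁)))
    fun e => hQD (le_cent1.2 (e.ge yQ₁).2)
  have k3 := mul_card_dvd_of_lt_of_isPGroup hQ₁.pgroup k2
  have k4 := pgroup_pdiv (hQ.pgroup.to_le (inf_le_left : 𝐙[Q] ≤ Q))
    (mt (trivg_center_pgroup hQ.pgroup).1 (ne_bot_of_mem (hle yQ₁) y1))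
  have k5 : O₃ ⊓ 𝐂₁[c] ≤ F := fun e he => memF e (hQ₁A he) (odd_of_pelt3 (pelt3 hQ₁.pgroup he))
  have k6 : 3 * 3 ∣ 3 * m ^ 2 := hm ▸ ((Nat.mul_dvd_mul_right k4 3).trans k3).trans (card_dvd_of_le k5)
  have k7 : 3 ^ 3 ∣ Nat.card F := by
    obtain ⟨j, rfl⟩ := Nat.prime_three.dvd_of_dvd_pow (Nat.dvd_of_mul_dvd_mul_left (by decide) k6)
    exact hm ▸ ⟨j ^ 2, by ring⟩
  obtain ⟨F₃, hF₃, cF⟩ := exists_card_pow k7
  exact final h (hQ.of_card_le ((hF₃.trans hsd.left_le).trans (cent_le_cent1 h.cAB.1))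
    (IsPGroup.of_card cF) (by omega)) (hF₃.trans hsd.left_le)

end Cfsg.Gag
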