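import Cfsg.Agent.Gag.M1
import Cfsg.Agent.Gag.Core
import Cfsg.Agent.Gag.FinBase

/-! # Piece R: Sylow subgroups of a component are nondegenerate -/

set_option autoImplicit false

namespace Cfsg.Gag

open Subgroup Cfsg.FT
open scoped Pointwise

universe u

variable {G : Type u} [Group G] [Finite G] {S A : Subgroup G} {p : ℕ}

/-- the radical of the pairing on `A` -/
def CP.rad (X : CP G) (A : Subgroup G) : Subgroup G := A ⊓ ⨅ a ∈ A, X.ker a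

omit [Finite G] in
theorem CP.mem_rad (X : CP G) (hA : IsMulCommutative A) {v : G} :
    v ∈ X.rad A ↔ v ∈ A ∧ ∀ a ∈ A, X.β a v = 1 := by
  simp only [CP.rad, mem_inf, mem_iInf, X.mem_ker]
  exact and_congr_right fun hv =>
    ⟨fun h c hc => (h c hc).2, fun h c hc => ⟨comm_of_abelian hA hc hv, h c hc⟩⟩

omit [Finite G] in
theorem CP.norm_rad (X : CP G) (hA : IsMulCommutative A) : 𝐍[A] ≤ 𝐍[X.rad A] :=
  normsP.2 fun g hg v hv => by
    rw [X.mem_rad hA] at hv ⊢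
    refine ⟨(memJ_norm hg).2 hv.1, fun c hc => ?_⟩
    have h2 := (memJ_norm (inv_mem hg)).2 hc
    have h3 := X.conj g (comm_of_abelian hA h2 hv.1)
    rw [hv.2 _ h2] at h3
    rw [← h3]
    congr 1
    group

theorem Comp.card_sup_conj (hS : Comp S) (hA : A ≤ S) {g : G} (hg : g ∉ 𝐍[S]) :
    g •ᶜ A ≤ 𝐂[A] ∧ Nat.card ↥(A ⊔ g •ᶜ A) = Nat.card A ^ 2 := by
  have h1 : g •ᶜ A ≤ 𝐂[S] := (conj_le_conj.2 hA).trans (hS.cent g hg)
  have h2 := centsS hA h1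
  refine ⟨h2, ?_⟩
  rw [sq, ← sdprod_card ⟨rfl, eq_bot_iff.2 ((inf_le_inf hA h1).trans (Core.comp_center hS).le),
    cents_norm h2⟩, card_conj]

theorem rad_perp [hp : Fact p.Prime] (X : CP G) (hS : Comp S) (hA : Syl p A S)
    (hc : IsMulCommutative A) (h0 : X.rad A ≠ ⊥) :
    ∀ v ∈ X.rad A, ∀ h ∈ 𝐂[X.rad A], X.β h v = 1 := by
  intro v hv h hh
  have hRA : X.rad A ≤ A := inf_le_left
  obtain ⟨r₀, hr₀⟩ := ne_bot_iff_exists_ne_one.1 h0
  have hn : h ∈ 𝐍[S] := hS.norm h r₀ (hA.le (hRA r₀.2)) (fun e => hr₀ (Subtype.ext e)) (by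
    rw [← hh _ r₀.2, mul_inv_cancel_right]; exact hA.le (hRA r₀.2))
  obtain ⟨K, hK, hK'⟩ := (hA.subl (le_inf hA.le (normG A)) inf_le_left).hall.exists_sdprod
    ⟨le_inf hA.le (normG A), inf_le_right⟩
  have hKR : K ≤ 𝐍[X.rad A] := (hK.right_le.trans inf_le_right).trans (X.norm_rad hc)
  have h1 := coprime_cent_prod hKR
    ((piSub_singleton.2 (hA.pgroup.to_le hRA)).coprime hK'.pi) (.inl (abelian_sol (abelianS hRA hc)))
  have h2 : X.rad A ⊓ 𝐂[K] = ⊥ := by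
    have h2 := abelian_Sylow_der1_TI_center hA hc
    rw [Core.comp_der hS, ← hK.1] at h2
    exact eq_bot_iff.2 (le_trans (le_inf (inf_le_left.trans (le_inf hRA (hRA.trans hA.le)))
      (centsY (inf_le_left.trans (hRA.trans (abelian_iff.1 hc))) inf_le_right)) h2.le)
  rw [h2, sup_bot_eq] at h1
  refine (X.mem_ker.1 ((h1.ge.trans (commg_le_iff.2 fun r hr s hs => ?_)) hv)).2
  have hsS : s ∈ S := (hK.right_le hs).1
  have hr' : s * r⁻¹ * s⁻¹ ∈ X.rad A := (memJ_norm (hKR hs)).2 (inv_mem hr)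
  have hk : s⁻¹ * h * s⁻¹⁻¹ ∈ 𝐂[X.rad A] := (memJ_norm (inv_mem (norms_cent hKR hs))).2 hh
  have hk' : s⁻¹ * h * s⁻¹⁻¹ * h⁻¹ ∈ S ⊓ 𝐂[X.rad A] := mem_inf.2 ⟨by
    rw [mul_assoc s⁻¹, mul_assoc s⁻¹]
    exact mul_mem (inv_mem hsS) ((memJ_norm hn).2 (inv_mem (inv_mem hsS))), mul_mem hk (inv_mem hh)⟩
  have h3 := Fin5.triv_of_syl X ((piSub_singleton.2 hA.pgroup).piElt (hRA (inv_mem hr)))
    (inf_le_right.trans (cent_le_cent1 (inv_mem hr)))
    (hA.subl (le_inf hA.le (sub_abelian_cent hc hRA)) inf_le_left)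
    (fun a ha => (X.symm_eq_one (comm_of_abelian hc ha (hRA (inv_mem hr)))).2
      (((X.mem_rad hc).1 (inv_mem hr)).2 a ha)) hk'
  have c1 : Commute r⁻¹ h := hh _ (inv_mem hr)
  have c2 : Commute r⁻¹ (s⁻¹ * h * s⁻¹⁻¹) := hk _ (inv_mem hr)
  have c3 : Commute (s * r⁻¹ * s⁻¹) h := hh _ hr'
  rw [X.mul_right c2 c1.inv_right, X.inv_right c1, mul_inv_eq_one, ← X.conj s c2,
    show s * (s⁻¹ * h * s⁻¹⁻¹) * s⁻¹ = h by group] at h3
  rw [show r * s * r⁻¹ * s⁻¹ = r * (s * r⁻¹ * s⁻¹) by group]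
  have c4 : Commute r h := hh _ hr
  refine X.mem_ker.2 ⟨(c4.mul_left c3).symm, (X.symm_eq_one (c4.mul_left c3)).2 ?_⟩
  rw [X.mul_left c4 c3, h3, X.inv_left c4, mul_inv_cancel]

theorem stR : StR.{u} := by
  intro G _ _ X S P p hX hS hp hP
  have := Fact.mk hp
  have hA := hS.syl p hp P hP
  obtain ⟨k, hk⟩ := hA.pgroup.exists_card_eq
  have h1 : IsMulCommutative ↥(P ⊓ S) → X.ND (P ⊓ S) := fun hc v hv hv1 => by
    by_contra! h1
    have hv' : v ∈ X.rad (P ⊓ S) := (X.mem_rad hc).2 ⟨hv, fun a ha =>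
      (X.symm_eq_one (comm_of_abelian hc hv ha)).2 (h1 a ha (comm_of_abelian hc hv ha))⟩
    have h0 : X.rad (P ⊓ S) ≠ ⊥ := fun e => hv1 (mem_bot.1 (e ▸ hv'))
    have h2 := rad_perp X hS hA hc h0
    have hRA : X.rad (P ⊓ S) ≤ P ⊓ S := inf_le_left
    have h3 : ¬ P ≤ 𝐍[X.rad (P ⊓ S)] := fun h3 => (hX.syl p hp P hP).not_isotropic hP.pgroup
      (hX.shape p hp P hP) (hRA.trans inf_le_left) h3 h0 (abelianS hRA hc) h2
    have h4 : ¬ IsMulCommutative P := fun h4 => h3 (sub_abelian_norm h4 (hRA.trans inf_le_left))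
    have h5 := (hX.shape p hp P hP).resolve_left h4
    obtain ⟨g, hg, h6⟩ := SetLike.not_le_iff_exists.1 fun h6 : P ≤ 𝐍[S] =>
      h3 ((normsI (normG P) h6).trans (X.norm_rad hc))
    obtain ⟨h7, h8⟩ := hS.card_sup_conj inf_le_right h6
    have h9 : P ⊓ S ⊔ g •ᶜ (P ⊓ S) < P := lt_of_le_of_ne (sup_le inf_le_left
      (conj_le_of_mem hg inf_le_left)) fun e =>
        h4 (e ▸ abelianY.2 ⟨hc, isMulCommutative_conj.2 hc, h7⟩)
    have h10 := card_mul_le_of_lt hP.pgroup h9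
    rw [h8, h5, hk, ← pow_mul, ← pow_succ, Nat.pow_le_pow_iff_right hp.one_lt] at h10
    have h11 : IsCyclic ↥(P ⊓ S) := isCyclic_of_card_dvd_prime (p := p)
      (hk ▸ (pow_dvd_pow p (show k ≤ 1 by omega)).trans (pow_one p).dvd)
    obtain ⟨r, hr⟩ := cyclicP.1 (cyclicS hRA h11)
    obtain ⟨y, -, h12, h13⟩ := hX.top r trivial fun e => h0 (by rw [hr, e, zpowers_one_eq_bot])
    exact h13 ((X.symm_eq_one h12.symm).2 (h2 r (hr ▸ mem_zpowers r) y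
      (by rw [hr, cent_cycle]; exact mem_cent1.2 h12.symm)))
  refine ⟨h1, fun h2 => ?_⟩
  have h3 : ¬ IsMulCommutative ↥(P ⊓ S) := fun h => h2 (h1 h)
  have h4 := (hX.shape p hp P hP).resolve_left fun h => h3 (abelianS inf_le_left h)
  have h5 := card_mul_le_of_lt hP.pgroup (lt_of_le_of_ne (inf_le_left : P ⊓ S ≤ P)
    fun e => h2 (e.symm ▸ hX.syl p hp P hP))
  rw [h4, hk, ← pow_succ, Nat.pow_le_pow_iff_right hp.one_lt] at h5
  have h6 : ¬ k ≤ 2 := fun h => h3 (p2group_abelian (p := p) (hk ▸ pow_dvd_pow p h))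
  obtain rfl : k = 3 := by omega
  refine ⟨normalizer_eq_top_iff.1 (eq_top_iff.2 fun g _ => by_contra fun hg => ?_), h4, hk⟩
  obtain ⟨h7, h8⟩ := hS.card_sup_conj inf_le_right hg
  have h9 := hP.card_dvd le_top (pgroup_sup hA.pgroup (hA.conj g).pgroup (cents_norm h7))
  rw [h8, hk, h4, ← pow_mul, Nat.pow_dvd_pow_iff_le_right hp.one_lt] at h9
  omega

end Cfsg.Gag
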