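import Cfsg.Agent.Gag.FinD8

/-!
# Piece Three: fusion lemmas
-/

set_option autoImplicit false
set_option linter.style.haveILetI false

namespace Cfsg.Gag.Th

open Subgroup Cfsg.FT Cfsg.Gag.Fin5
open scoped Pointwise

universe u

variable {G : Type u} [Group G] {S A Q K L : Subgroup G} {c x y g h k b u : G} {p : ℕ}

/-- `g` acts on the pair `(c, x)` by an integer matrix -/
def Act (c x g : G) (a b d e : ℤ) : Prop :=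
  g * c * g⁻¹ = c ^ a * x ^ b ∧ g * x * g⁻¹ = c ^ d * x ^ e

theorem Act.apply {a b d e : ℤ} (hc : Commute c x) (h : Act c x g a b d e) (i j : ℤ) :
    g * (c ^ i * x ^ j) * g⁻¹ = c ^ (a * i + d * j) * x ^ (b * i + e * j) := by
  rw [show g * (c ^ i * x ^ j) * g⁻¹ = (g * c ^ i * g⁻¹) * (g * x ^ j * g⁻¹) by group,
    ← conj_zpow, ← conj_zpow, h.1, h.2, (hc.zpow_zpow a b).mul_zpow, (hc.zpow_zpow d e).mul_zpow,
    ← zpow_mul, ← zpow_mul, ← zpow_mul, ← zpow_mul, zpow_add, zpow_add, mul_assoc, mul_assoc,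
    ← mul_assoc (x ^ (b * i)), ← (hc.zpow_zpow (d * j) (b * i)).eq, mul_assoc]

theorem Act.mul {a b d e a' b' d' e' : ℤ} (hc : Commute c x) (h1 : Act c x g a b d e)
    (h2 : Act c x h a' b' d' e') :
    Act c x (g * h) (a * a' + d * b') (b * a' + e * b') (a * d' + d * e') (b * d' + e * e') :=
  ⟨by rw [← h1.apply hc, ← h2.1]; group, by rw [← h1.apply hc, ← h2.2]; group⟩

theorem zpow_congr3 (h3 : c ^ 3 = 1) {a a' : ℤ} (h : (a - a') % 3 = 0) : c ^ a = c ^ a' := by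
  obtain ⟨k, hk⟩ := Int.dvd_of_emod_eq_zero h
  rw [show a = a' + 3 * k by omega, zpow_add, zpow_mul,
    show c ^ (3 : ℤ) = 1 from by exact_mod_cast h3, one_zpow, mul_one]

theorem Act.red {a b d e : ℤ} (h : Act c x g a b d e) (h3 : c ^ 3 = 1) (h3' : x ^ 3 = 1)
    (a' b' d' e' : ℤ) (e1 : (a - a') % 3 = 0 := by decide) (e2 : (b - b') % 3 = 0 := by decide)
    (e3 : (d - d') % 3 = 0 := by decide) (e4 : (e - e') % 3 = 0 := by decide) :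
    Act c x g a' b' d' e' :=
  ⟨by rw [h.1, zpow_congr3 h3 e1, zpow_congr3 h3' e2],
    by rw [h.2, zpow_congr3 h3 e3, zpow_congr3 h3' e4]⟩

theorem Act.norm [Finite G] {a b d e : ℤ} (h : Act c x g a b d e) : g ∈ 𝐍[⟪c⟫ ⊔ ⟪x⟫] := by
  have m : ∀ i j : ℤ, c ^ i * x ^ j ∈ ⟪c⟫ ⊔ ⟪x⟫ := fun i j =>
    mul_mem (mem_sup_left (zpow_mem_zpowers c i)) (mem_sup_right (zpow_mem_zpowers x j))
  refine mem_norm_of_conj_le ?_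
  rw [conj_sup, conj_zpowers, conj_zpowers, h.1, h.2]
  exact sup_le (zpowers_le.2 (m _ _)) (zpowers_le.2 (m _ _))

theorem Act.cent {a b d e : ℤ} (h1 : Act c x g a b d e) (h2 : Act c x h a b d e) :
    g⁻¹ * h ∈ 𝐂[⟪c⟫ ⊔ ⟪x⟫] := by
  rw [centY, cent_cycle, cent_cycle]
  refine ⟨mem_cent1.2 (mul_inv_eq_iff_eq_mul.1 ?_), mem_cent1.2 (mul_inv_eq_iff_eq_mul.1 ?_)⟩
  · rw [show g⁻¹ * h * c * (g⁻¹ * h)⁻¹ = g⁻¹ * (h * c * h⁻¹) * g by group, h2.1, ← h1.1]; group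
  · rw [show g⁻¹ * h * x * (g⁻¹ * h)⁻¹ = g⁻¹ * (h * x * h⁻¹) * g by group, h2.2, ← h1.2]; group

theorem act_one : Act c x 1 1 0 0 1 := ⟨by simp, by simp⟩

theorem constt_mem_iff [Finite G] (hk : k ^ 4 ∈ K) (hL : K ≤ L) : constt {2} k ∈ L ↔ k ∈ L := by
  have h1 : constt {2}ᶜ k ∈ L := by
    refine mem_of_pow_coprime (a := 4) (by rw [← consttX]; exact constt_mem _ (hL hk))
      (by rw [pow_orderOf_eq_one]; exact one_mem _) (Nat.Coprime.pow_left (m := 2) 2 ?_)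
    exact (Nat.Prime.coprime_iff_not_dvd Nat.prime_two).2 (piElt_compl.1 (p_elt_constt _ k))
  exact ⟨fun h => consttC {2} k ▸ mul_mem h h1, constt_mem _⟩

/-- opposite transvections force a quaternion section -/
theorem transv [Finite G] (hA : Syl 2 A S)
    (h4 : ∀ s ∈ A, ∀ t ∈ A, s * s ≠ 1 → t * t ≠ 1 → t ∈ ⟪s⟫) (hc : Commute c x) (c3 : c ^ 3 = 1)
    (x3 : x ^ 3 = 1) (c1 : c ≠ 1) (hh : h ∈ S) (hk : k ∈ S) (e1 : h * c * h⁻¹ = c)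
    (e2 : h * x * h⁻¹ = c * x) (e3 : k * c * k⁻¹ = c * x) (e4 : k * x * k⁻¹ = x) : False := by
  have a1 : Act c x h 1 0 1 1 := ⟨by simpa using e1, by simpa using e2⟩
  have a2 : Act c x k 1 1 0 1 := ⟨by simpa using e3, by simpa using e4⟩
  have b1 := (a1.mul hc a2).red c3 x3 (-1) 1 1 1
  have b2 := (a2.mul hc a1).red c3 x3 1 1 1 (-1)
  have h1 : h * k ∈ S := mul_mem hh hk
  have h2 : k * h ∈ S := mul_mem hk hh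
  generalize h * k = k₁ at b1 h1
  generalize k * h = k₂ at b2 h2
  have s1 := (b1.mul hc b1).red c3 x3 (-1) 0 0 (-1)
  have s2 := (b2.mul hc b2).red c3 x3 (-1) 0 0 (-1)
  set C := S ⊓ 𝐂[⟪c⟫ ⊔ ⟪x⟫] with hC
  have nsq : ∀ k : G, Act c x (k * k) (-1) 0 0 (-1) → k ^ 2 ∉ C := fun k a hk => by
    have e := a.1
    rw [← pow_two, ← hk.2 c (mem_sup_left (mem_zpowers c)), mul_inv_cancel_right, zpow_zero, mul_one,
      zpow_neg_one, eq_inv_iff_mul_eq_one] at e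
    exact c1 (by rwa [pow_succ, pow_two, e, one_mul] at c3)
  have p4 : ∀ k ∈ S, Act c x (k * k) (-1) 0 0 (-1) → k ^ 4 ∈ C := fun k hk a => ⟨pow_mem hk 4, by
    have := act_one.cent ((a.mul hc a).red c3 x3 1 0 0 1)
    rwa [inv_one, one_mul, ← pow_two, ← pow_two, ← pow_mul] at this⟩
  have hn := subcent_normal S (⟪c⟫ ⊔ ⟪x⟫)
  have n1 : k₁ ∈ 𝐍[C] := hn.norm ⟨h1, b1.norm⟩
  have n2 : k₂ ∈ 𝐍[C] := hn.norm ⟨h2, b2.norm⟩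
  have r1 : k₂⁻¹ * (k₁ * k₂ * k₁) ∈ C := ⟨S.mul_mem (S.inv_mem h2) (S.mul_mem (S.mul_mem h1 h2) h1),
    b2.cent (((b1.mul hc b2).mul hc b1).red c3 x3 1 1 1 (-1))⟩
  have n3 : k₂⁻¹ ∈ 𝐍[C ⊔ ⟪k₁⟫] := by
    refine mem_norm_of_conj_le ?_
    rw [conj_sup, conj_eq_of_mem_norm (inv_mem n2), conj_zpowers]
    refine sup_le le_sup_left (zpowers_le.2 ?_)
    convert mul_mem (mem_sup_left r1 : _ ∈ C ⊔ ⟪k₁⟫) (inv_mem (mem_sup_right (mem_zpowers k₁))) using 1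
    group
  have hR : C ⊔ ⟪k₁⟫ ⊴ (C ⊔ ⟪k₁⟫) ⊔ ⟪k₂⟫ := normalYl (zpowers_le.2 (inv_mem_iff.1 n3))
  have hRC : (C ⊔ ⟪k₁⟫) ⊔ ⟪k₂⟫ ≤ 𝐍[C] :=
    sup_le (sup_le (normG C) (zpowers_le.2 n1)) (zpowers_le.2 n2)
  have hRS : (C ⊔ ⟪k₁⟫) ⊔ ⟪k₂⟫ ≤ S := sup_le (sup_le inf_le_left (zpowers_le.2 h1)) (zpowers_le.2 h2)
  obtain ⟨T, hT⟩ := Sylow_exists (p := 2) ((C ⊔ ⟪k₁⟫) ⊔ ⟪k₂⟫)
  obtain ⟨a, -, ha⟩ := Sylow_Jsub hA (hT.le.trans hRS) hT.pgroup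
  have get : ∀ k ∈ (C ⊔ ⟪k₁⟫) ⊔ ⟪k₂⟫, k ^ 4 ∈ C → k ^ 2 ∉ C → ∃ t ∈ T, t * t ≠ 1 ∧
      (t ∈ C ⊔ ⟪k₁⟫ ↔ k ∈ C ⊔ ⟪k₁⟫) := fun k hk q4 q2 => by
    obtain ⟨g, hg, e⟩ := Sylow_Jsub hT (zpowers_le.2 (constt_mem {2} hk))
      (piElt_singleton_iff_pgroup.1 (p_elt_constt _ k))
    refine ⟨_, e (conj_mem_conj.2 (mem_zpowers _)), fun e' => q2 ?_, by
      rw [memJ_norm (hR.norm hg), constt_mem_iff q4 le_sup_left]⟩
    rw [← pow_two, conj_pow, ← consttX, mul_inv_eq_one, mul_eq_left] at e'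
    exact (constt_mem_iff (by rw [← pow_mul, mul_comm, pow_mul]; exact pow_mem q4 2) le_rfl).1
      (e' ▸ one_mem C)
  obtain ⟨t₁, ht₁, q1, m1⟩ := get k₁ (mem_sup_left (mem_sup_right (mem_zpowers _)))
    (p4 k₁ h1 s1) (nsq k₁ s1)
  obtain ⟨t₂, ht₂, q2, m2⟩ := get k₂ (mem_sup_right (mem_zpowers _)) (p4 k₂ h2 s2) (nsq k₂ s2)
  have cj : ∀ t : G, t * t ≠ 1 → a * t * a⁻¹ * (a * t * a⁻¹) ≠ 1 := fun t ht e => ht (by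
    rwa [← pow_two, conj_pow, mul_inv_eq_one, mul_eq_left, pow_two] at e)
  have h5 := h4 _ (ha (conj_mem_conj.2 ht₁)) _ (ha (conj_mem_conj.2 ht₂)) (cj _ q1) (cj _ q2)
  rw [← conj_zpowers, conj_mem_conj] at h5
  have h6 := m2.1 (zpowers_le.2 (m1.2 (mem_sup_right (mem_zpowers _))) h5)
  obtain ⟨_, ⟨j, rfl⟩, u, hu, rfl⟩ := (mem_join_norm' (zpowers_le.2 n1)).1 h6
  refine nsq k₁ s1 ?_
  have h7 : (k₁ ^ j * u)⁻¹ * (k₁ * (k₁ ^ j * u) * k₁) = u⁻¹ * (k₁ * u * k₁⁻¹) * k₁ ^ 2 := by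
    rw [pow_two]; group
  rw [h7] at r1
  exact (mul_mem_cancel_left (mul_mem (inv_mem hu) ((memJ_norm n1).2 hu))).1 r1

theorem transv' [Finite G] (hA : Syl 2 A S)
    (h4 : ∀ s ∈ A, ∀ t ∈ A, s * s ≠ 1 → t * t ≠ 1 → t ∈ ⟪s⟫) (hc : Commute c x) (c3 : c ^ 3 = 1)
    (x3 : x ^ 3 = 1) (hh : h ∈ S) (hk : k ∈ S) (e1 : Commute h c) (e2 : h * x * h⁻¹ * x⁻¹ ∈ ⟪c⟫)
    (e2' : ¬ Commute h x) (e4 : Commute k x) (e3 : k * c * k⁻¹ * c⁻¹ ∈ ⟪x⟫) (e3' : ¬ Commute k c) :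
    False := by
  have key : ∀ {c x h : G}, c ^ 3 = 1 → h ∈ S → Commute h c → h * x * h⁻¹ * x⁻¹ ∈ ⟪c⟫ →
      ¬ Commute h x → c ≠ 1 ∧ ∃ h' ∈ S, h' * c * h'⁻¹ = c ∧ h' * x * h'⁻¹ = c * x := by
    intro c x h c3 hh e1 e2 e2'
    have n1 : h * x * h⁻¹ * x⁻¹ ≠ 1 := fun e => e2' (mul_inv_eq_iff_eq_mul.1 (mul_inv_eq_one.1 e))
    refine ⟨fun e => n1 (by simpa [e] using e2), ?_⟩
    rcases mem_cycle3 c3 e2 with e | e | e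
    · exact absurd e n1
    · exact ⟨h, hh, by rw [e1.eq, mul_inv_cancel_right], mul_inv_eq_iff_eq_mul.1 e⟩
    · refine ⟨h⁻¹, inv_mem hh, by rw [e1.inv_left.eq, mul_inv_cancel_right], ?_⟩
      rw [mul_inv_eq_iff_eq_mul, ← inv_mul_eq_iff_eq_mul, inv_inv] at e
      calc h⁻¹ * x * h⁻¹⁻¹ = h⁻¹ * (c * (h * x * h⁻¹)) * h⁻¹⁻¹ := by rw [e]
        _ = h⁻¹ * (c * h) * x := by group
        _ = c * x := by rw [← e1.eq]; group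
  obtain ⟨c1, h', hh', f1, f2⟩ := key c3 hh e1 e2 e2'
  obtain ⟨-, k', hk', f3, f4⟩ := key x3 hk e4 e3 e3'
  exact transv hA h4 hc c3 x3 c1 hh' hk' f1 f2 (f4.trans hc.symm.eq) f3

theorem adjust [Finite G] [Fact p.Prime] (hQ : Syl p Q S) (hc : c ∈ 𝐂[Q]) (hg : g ∈ S) :
    ∃ a ∈ S, a * c * a⁻¹ = g * c * g⁻¹ ∧ Q ⊓ 𝐂₁[g * c * g⁻¹] ≤ a •ᶜ Q := by
  have h1 : Syl p (g •ᶜ Q) (S ⊓ 𝐂₁[g * c * g⁻¹]) := ((sylJ hg).2 hQ).subl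
    (le_inf (conj_le_of_mem hg hQ.le) (by rw [cent1_conj, conj_le_conj]; exact le_cent1.2 hc))
    inf_le_left
  obtain ⟨d, hd, e⟩ := Sylow_subJ h1 (inf_le_inf_right _ hQ.le) (hQ.pgroup.to_le inf_le_left)
  refine ⟨d * g, mul_mem hd.1 hg, ?_, by rwa [conj_conj] at e⟩
  rw [show d * g * c * (d * g)⁻¹ = d * (g * c * g⁻¹) * d⁻¹ by group, mem_cent1.1 hd.2,
    mul_inv_cancel_right]

/-- weak closure from transvections -/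
theorem weakly_closed [Finite G] (hA : Syl 2 A S)
    (h4 : ∀ s ∈ A, ∀ t ∈ A, s * s ≠ 1 → t * t ≠ 1 → t ∈ ⟪s⟫) (hQ : Syl 3 Q S) (hc : c ∈ 𝐙[Q])
    (c3 : c ^ 3 = 1) (H : ∀ g ∈ S, g * c * g⁻¹ ∈ Q → g * c * g⁻¹ ∉ ⟪c⟫ →
      ∃ e ∈ Q, e * (g * c * g⁻¹) * e⁻¹ * (g * c * g⁻¹)⁻¹ ∈ ⟪c⟫ ∧ ¬ Commute e (g * c * g⁻¹))
    (hg : g ∈ S) (hx : g * c * g⁻¹ ∈ Q) : g * c * g⁻¹ ∈ ⟪c⟫ := by
  by_contra hn
  obtain ⟨a, ha, e, hle⟩ := adjust hQ hc.2 hg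
  rw [← e] at hx hn hle
  have h1 : a⁻¹ * c * a⁻¹⁻¹ ∈ Q := by
    rw [inv_inv]; exact mem_conj.1 (hle ⟨hc.1, mem_cent1.2 (hc.2 _ hx).symm⟩)
  have h2 : a⁻¹ * c * a⁻¹⁻¹ ∉ ⟪c⟫ := fun h => hn (by
    have h3 : a⁻¹ ∈ 𝐍[⟪c⟫] := mem_norm_of_conj_le (by rw [conj_zpowers]; exact zpowers_le.2 h)
    exact (memJ_norm (inv_mem_iff.1 h3)).2 (mem_zpowers c))
  obtain ⟨h, hh, f1, f2⟩ := H a ha hx hn
  obtain ⟨k, hk, f3, f4⟩ := H a⁻¹ (inv_mem ha) h1 h2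
  refine transv' hA h4 (hc.2 _ hx).symm c3 (by rw [conj_pow, c3]; group) (hQ.le hh)
    (k := a * k * a⁻¹) (mul_mem (mul_mem ha (hQ.le hk)) (inv_mem ha)) (hc.2 h hh) f1 f2
    (by simpa using (show Commute k c from hc.2 k hk).map (MulAut.conj a)) ?_ fun h => f4 ?_
  · rw [← conj_zpowers, mem_conj]
    convert f3 using 1
    group
  · simpa [mul_assoc] using h.map (MulAut.conj a⁻¹)

/-- control of fusion by the normaliser of a weakly closed central cyclic subgroup -/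
theorem control [Finite G] [Fact p.Prime] (hQ : Syl p Q S) (hc : c ∈ 𝐙[Q])
    (H : ∀ g ∈ S, g * c * g⁻¹ ∈ Q → g * c * g⁻¹ ∈ ⟪c⟫) (hy : y ∈ Q) (hg : g ∈ S)
    (hz : g * y * g⁻¹ ∈ Q) : ∃ n ∈ S ⊓ 𝐍[⟪c⟫], n * y * n⁻¹ = g * y * g⁻¹ := by
  have hp : IsPGroup p ⟪c⟫ := hQ.pgroup.to_le (zpowers_le.2 hc.1)
  obtain ⟨R, hR, h1⟩ := Sylow_superset (H := S ⊓ 𝐂₁[g * y * g⁻¹])
    (zpowers_le.2 ⟨hQ.le hc.1, mem_cent1.2 (hc.2 _ hz).symm⟩) hp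
  obtain ⟨d, hd, h2⟩ := Sylow_Jsub hR (R := g •ᶜ ⟪c⟫) (le_inf
    (conj_le_of_mem hg (zpowers_le.2 (hQ.le hc.1))) (by
      rw [cent1_conj, conj_le_conj]; exact zpowers_le.2 (mem_cent1.2 (hc.2 _ hy).symm)))
    (isPGroup_conj.2 hp)
  obtain ⟨a, ha, h3⟩ := Sylow_Jsub hQ (hR.le.trans inf_le_left) hR.pgroup
  have nm : ∀ b ∈ S, b •ᶜ ⟪c⟫ ≤ Q → b ∈ 𝐍[⟪c⟫] := fun b hb h => mem_norm_of_conj_le (by
    rw [conj_zpowers] at h ⊢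
    exact zpowers_le.2 (H b hb (h (mem_zpowers _))))
  have h4 := nm a ha ((conj_le_conj.2 h1).trans h3)
  have h5 := nm (a * (d * g)) (mul_mem ha (mul_mem hd.1 hg)) (by
    rw [← conj_conj, ← conj_conj]; exact (conj_le_conj.2 h2).trans h3)
  refine ⟨d * g, ⟨mul_mem hd.1 hg, (mul_mem_cancel_left h4).1 h5⟩, ?_⟩
  rw [show d * g * y * (d * g)⁻¹ = d * (g * y * g⁻¹) * d⁻¹ by group, mem_cent1.1 hd.2,
    mul_inv_cancel_right]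

theorem idx3 [Finite G] (hn : K ⊴ L) (hi : K.relIndex L = 3) (hb : b ∈ L) (hbK : b ∉ K)
    (hu : u ∈ L) : u ∈ K ∨ u * b⁻¹ ∈ K ∨ u * b ∈ K := by
  have hc : Nat.card (L ⁄ K) = 3 := (card_quotient hn.norm).trans hi
  have h1 : coset K b ≠ 1 := fun e => hbK (coset_idr (hn.norm hb) e)
  have h2 := nt_gen_prime (hc ▸ Nat.prime_three) (mem_quotient K hb) h1
  have h3 : coset K b ^ 3 = 1 := by
    rw [← hc, h2, Nat.card_zpowers, pow_orderOf_eq_one]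
  rcases mem_cycle3 h3 (h2 ▸ mem_quotient K hu) with e | e | e
  · exact Or.inl (coset_idr (hn.norm hu) e)
  · exact Or.inr (Or.inl ((coset_eq_iff' (hn.norm hu) (hn.norm hb)).1 e))
  · rw [← coset_inv, coset_eq_iff' (hn.norm hu) (hn.norm (inv_mem hb)), inv_inv] at e
    exact Or.inr (Or.inr e)

theorem small_two (h : Klein A ∨ ∃ f x : G, D8 A f x) :
    ∀ s ∈ A, ∀ t ∈ A, s * s ≠ 1 → t * t ≠ 1 → t ∈ ⟪s⟫ := by
  intro s hs t ht h1 h2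
  rcases h with h | ⟨f, x, h⟩
  · exact absurd (h.2 s hs) h1
  have key : ∀ a ∈ A, a * a ≠ 1 → a = f ∨ a = f⁻¹ := fun a ha h3 => by
    obtain ⟨t, ht, e⟩ := (d8_memA h ha).resolve_left fun h4 => h3 ((d8_klein h).2 a h4)
    have k := (d8_klein (d8_swap h)).2
    rcases d8_memT h ht with h4 | h4 | h4 | h4 <;> rw [e, h4] at h3 ⊢
    · exact Or.inl (one_mul f)
    · exact Or.inr (d8_finv h).symm
    · exact absurd (k _ d8_xT) h3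
    · exact absurd (k _ (by rw [mul_assoc]; exact mul_mem d8_cT d8_xT)) h3
  rcases key s hs h1 with e | e <;> rcases key t ht h2 with e' | e' <;> simp [e, e']

end Cfsg.Gag.Th
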