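import Cfsg.Agent.CT.GlCyclic
import Cfsg.Agent.Blk.DihCount

/-!
# Characters over a central character: slices at an involution and the class sum of involutions
-/

set_option autoImplicit false

namespace Cfsg.Gag.V

open Subgroup
open scoped ComplexConjugate

universe u

variable {L : Type u} [Group L] [Finite L] {Z U : Subgroup L} {lam : Z →* ℂˣ} {t : L}

/-- `f` lies over `lam` -/
def Over (lam : Z →* ℂˣ) (f : L → ℂ) : Prop := ∀ (z : Z) (g : L), f (z * g) = lam z * f g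

omit [Finite L] in
theorem Over.vanish {f : L → ℂ} (h : Over lam f) (hf : IsClassFunction L f) {g y : L} {z : Z}
    (e : y * g * y⁻¹ = z * g) (hz : lam z ≠ 1) : f g = 0 := by
  have h1 := hf.eq_of_isConj (isConj_iff.2 ⟨y, e⟩)
  rw [h] at h1
  by_contra h0
  exact hz (Units.ext (mul_right_cancel₀ h0 (by simpa using h1.symm)))

theorem slice_gen (ht : t * t = 1) (hU : U ≤ centralizer {t}) (χ : IrrCharacter L) :
    IsGeneralizedCharacter U (fun u : U => χ.1 (u * t)) := by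
  have := Fintype.ofFinite U
  have hc : ∀ c ∈ U, Commute c t := fun c hc => mem_centralizer_singleton_iff.1 (hU hc)
  refine isGeneralizedCharacter_of_classInner (χ.isClassFunction.gl_isClassFunction hc) fun β => ?_
  obtain ⟨m, hm⟩ := isCharacter_iff_exists_sum.1 (χ.isCharacter.gl_slice (A := zpowers t)
    (fun c h a ha => commute_of_mem_zpowers (hc c h) ha) β.isCharacter)
  have e := congrFun hm ⟨t, mem_zpowers t⟩
  choose k hk using fun ξ : IrrCharacter (zpowers t) =>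
    ξ.exists_int_apply_of_mul_self (t := ⟨t, mem_zpowers t⟩) (Subtype.ext ht)
  refine ⟨∑ ξ, m ξ * k ξ, ?_⟩
  simp only at e
  rw [e]
  push_cast
  exact Finset.sum_congr rfl fun ξ _ => by rw [(hk ξ).1]

theorem mul_conj_lam (lam : Z →* ℂˣ) (z : Z) : (lam z : ℂ) * conj (lam z : ℂ) = 1 := by
  have h : ‖(lam z : ℂ)‖ = 1 := Complex.norm_eq_one_of_pow_eq_one (n := Nat.card Z)
    (by rw [← Units.val_pow_eq_pow_val, ← map_pow, pow_card_eq_one', map_one, Units.val_one])
    Nat.card_pos.ne'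
  rw [Complex.mul_conj, Complex.normSq_eq_norm_sq, h]; simp

theorem over_of_inner [Fintype U] (hZ : Z ≤ center L) (hZU : Z ≤ U) {φ : U → ℂ}
    (hφ : ∀ (z : Z) (u : U), φ (inclusion hZU z * u) = lam z * φ u) (χ : IrrCharacter L)
    (h : classInner (fun u : U => χ.1 (u * t)) φ ≠ 0) : Over lam χ.1 := by
  intro z g
  obtain ⟨c, hc⟩ := χ.center_le_charCenter (hZ z.2)
  have e : classInner (fun u : U => χ.1 (u * t)) φ =
      c * conj (lam z : ℂ) * classInner (fun u : U => χ.1 (u * t)) φ := by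
    rw [classInner_def, mul_left_comm, Finset.mul_sum _ _ (_ * _)]
    congr 1
    rw [← Equiv.sum_comp (Equiv.mulLeft (inclusion hZU z))]
    refine Finset.sum_congr rfl fun u _ => ?_
    simp only [Equiv.coe_mulLeft, hφ, Subgroup.coe_mul, coe_inclusion, mul_assoc, hc, map_mul]
    ring
  have e2 : (c : ℂ) * conj (lam z : ℂ) = 1 := mul_right_cancel₀ h (by rw [← e, one_mul])
  rw [hc, ← mul_one (c : ℂ), ← mul_conj_lam lam z, mul_left_comm, e2, mul_one]

theorem lattice (hZ : Z ≤ center L) (hZU : Z ≤ U) (ht : orderOf t = 2) (hU : U ≤ centralizer {t})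
    (ho : Odd (Nat.card U)) {m : ℕ} (hm : Nat.card (centralizer ({t} : Set L)) = m * Nat.card U)
    {r s : ℂ} (h : ∀ χ : IrrCharacter L, Over lam χ.1 → χ.1 1 = r * χ.1 t ∨ χ.1 1 = s * χ.1 t)
    {χ₀ : IrrCharacter L} (h0 : Over lam χ₀.1) :
    ∃ j : ℤ, j * (r - s) = -m * s ∧ (j ≠ 0 → ∃ χ : IrrCharacter L, Over lam χ.1 ∧
      χ.1 1 = r * χ.1 t) ∧ (j ≠ m → ∃ χ : IrrCharacter L, Over lam χ.1 ∧ χ.1 1 = s * χ.1 t) := by
  classical
  have := Fintype.ofFinite U
  have ht2 := mul_self_eq_one_of_orderOf_two ht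
  let D : AddSubgroup ℤ :=
    { carrier := {k | ∃ φ : U → ℂ, IsGeneralizedCharacter U φ ∧
        (∀ (z : Z) (u : U), φ (inclusion hZU z * u) = lam z * φ u) ∧ φ 1 = k}
      zero_mem' := ⟨0, IsGeneralizedCharacter.zero, by simp, by simp⟩
      add_mem' := fun ⟨φ, a, b, c⟩ ⟨ψ, a', b', c'⟩ =>
        ⟨φ + ψ, a.add a', fun z u => by simp [b, b', mul_add], by simp [c, c']⟩
      neg_mem' := fun ⟨φ, a, b, c⟩ => ⟨-φ, a.neg, fun z u => by simp [b], by simp [c]⟩ }
  obtain ⟨d, hd⟩ := Int.subgroup_cyclic D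
  have hD : ∀ k ∈ D, ∃ j : ℤ, j * d = k := fun k hk => by
    rw [hd, AddSubgroup.mem_closure_singleton] at hk
    simpa using hk
  obtain ⟨φ, hφ, hφ', hφ1⟩ : d ∈ D := hd ▸ AddSubgroup.subset_closure rfl
  have hd0 : (d : ℂ) ≠ 0 := by
    obtain ⟨j, hj⟩ := hD (charDegree χ₀.1) ⟨fun u => χ₀.1 u,
      (χ₀.isCharacter.res U).isGeneralizedCharacter, fun z u => h0 z u, by
        simp [χ₀.one_eq_charDegree]⟩
    have := χ₀.charDegree_pos
    rintro e
    rw [Int.cast_eq_zero.1 e, mul_zero] at hj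
    omega
  choose a ha using fun χ : IrrCharacter L => (slice_gen ht2 hU χ).exists_classInner_eq_int hφ
  choose b hb using fun χ : IrrCharacter L => χ.exists_int_apply_of_mul_self ht2
  have hov : ∀ χ, a χ ≠ 0 → Over lam χ.1 := fun χ e =>
    over_of_inner (t := t) hZ hZU hφ' χ (by rw [ha]; exact_mod_cast e)
  have col : ∀ g : L, ∑ χ, (a χ : ℂ) * conj (χ.1 g) = (Nat.card U : ℂ)⁻¹ * ∑ u : U, conj (φ u) *
      if IsConj (u * t) g then (Nat.card (centralizer ({u * t} : Set L)) : ℂ) else 0 := fun g => by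
    simp only [← ha, classInner_def, ← sum_irr_mul_conj, Finset.mul_sum, Finset.sum_mul]
    rw [Finset.sum_comm]
    exact Finset.sum_congr rfl fun u _ => Finset.sum_congr rfl fun χ _ => by ring
  have hodd : ∀ u : U, (u : L) * u = 1 → u = 1 := fun u e => by
    have h1 : orderOf u ∣ 2 := orderOf_dvd_of_pow_eq_one (Subtype.ext (by simpa [sq] using e))
    exact orderOf_eq_one_iff.1 (Nat.eq_one_of_dvd_coprimes ho.coprime_two_right
      (orderOf_dvd_natCard u) h1)
  have hsq : ∀ u : U, (u * t) * (u * t) = (u : L) * u := fun u => by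
    rw [mul_assoc, ← mul_assoc t, ← mem_centralizer_singleton_iff.1 (hU u.2), mul_assoc, ht2,
      mul_one]
  have c1 : ∑ χ, (a χ : ℂ) * χ.1 1 = 0 := by
    have := col 1
    rw [Finset.sum_eq_zero (s := Finset.univ (α := U)), mul_zero] at this
    · simpa only [IrrCharacter.one_eq_charDegree, map_natCast] using this
    · intro u _
      rw [if_neg, mul_zero]
      rw [isConj_one_left]
      intro e
      have h1 := hodd u (by rw [← hsq, e, one_mul])
      rw [h1, OneMemClass.coe_one, one_mul] at e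
      rw [e, orderOf_one] at ht
      omega
  have c2 : ∑ χ, (a χ : ℂ) * b χ = m * d := by
    have := col t
    rw [Finset.sum_eq_single (1 : U)] at this
    · have hc : (Nat.card U : ℂ) ≠ 0 := Nat.cast_ne_zero.2 Nat.card_pos.ne'
      simp only [fun χ => (hb χ).1, map_intCast, OneMemClass.coe_one, one_mul, IsConj.refl,
        if_true, hm, hφ1, Nat.cast_mul] at this
      rw [this]
      field_simp
    · intro u _ hu
      rw [if_neg, mul_zero]
      exact fun e => hu (hodd u (by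
        rw [← hsq]; exact mul_self_eq_one_of_orderOf_two ((orderOf_eq_of_isConj e).symm.trans ht)))
    · simp
  set S := Finset.univ.filter fun χ : IrrCharacter L => a χ ≠ 0 ∧ χ.1 1 = r * χ.1 t with hS
  obtain ⟨j, hj⟩ := hD (∑ χ ∈ S, a χ * b χ) ⟨∑ χ ∈ S, fun u : U => (a χ : ℂ) * χ.1 (u * t),
    IsGeneralizedCharacter.sum _ fun χ _ => (slice_gen ht2 hU χ).zsmul _, fun z u => by
      simp only [Finset.sum_apply, Finset.mul_sum]
      refine Finset.sum_congr rfl fun χ hχ => ?_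
      rw [Subgroup.coe_mul, coe_inclusion, mul_assoc, hov χ (Finset.mem_filter.1 hχ).2.1]
      ring, by simp [fun χ => (hb χ).1]⟩
  have hj' : (j : ℂ) * d = ∑ χ ∈ S, (a χ : ℂ) * b χ := by exact_mod_cast hj
  have hneg : ∀ χ ∈ Sᶜ, a χ ≠ 0 → χ.1 1 = s * χ.1 t := fun χ hχ e =>
    (h χ (hov χ e)).resolve_left fun e' => (Finset.mem_compl.1 hχ) (by simp [hS, e, e'])
  rw [← Finset.sum_add_sum_compl S] at c1 c2
  have e1 : ∑ χ ∈ S, (a χ : ℂ) * χ.1 1 = r * ∑ χ ∈ S, (a χ : ℂ) * b χ := by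
    rw [Finset.mul_sum]
    exact Finset.sum_congr rfl fun χ hχ => by
      rw [(Finset.mem_filter.1 hχ).2.2, (hb χ).1]; ring
  have e2 : ∑ χ ∈ Sᶜ, (a χ : ℂ) * χ.1 1 = s * ∑ χ ∈ Sᶜ, (a χ : ℂ) * b χ := by
    rw [Finset.mul_sum]
    refine Finset.sum_congr rfl fun χ hχ => ?_
    by_cases e : a χ = 0
    · simp [e]
    · rw [hneg χ hχ e, (hb χ).1]; ring
  rw [e1, e2, ← hj'] at c1
  rw [← hj'] at c2
  refine ⟨j, mul_right_cancel₀ hd0 (by linear_combination c1 - s * c2), fun e => ?_, fun e => ?_⟩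
  · obtain ⟨χ, hχ, -⟩ := Finset.exists_ne_zero_of_sum_ne_zero
      (hj' ▸ mul_ne_zero (Int.cast_ne_zero.2 e) hd0)
    exact ⟨χ, hov χ (Finset.mem_filter.1 hχ).2.1, (Finset.mem_filter.1 hχ).2.2⟩
  · obtain ⟨χ, hχ, e'⟩ := Finset.exists_ne_zero_of_sum_ne_zero (s := Sᶜ)
      (f := fun χ => (a χ : ℂ) * b χ) fun e' => e (by
        rw [e', add_zero] at c2
        exact_mod_cast mul_right_cancel₀ hd0 c2)
    have e'' : a χ ≠ 0 := fun z => e' (by simp [z])
    exact ⟨χ, hov χ e'', hneg χ hχ e''⟩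

end Cfsg.Gag.V
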