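import Cfsg.Agent.Gag.VA
import Cfsg.Agent.CT.ClassSum

/-!
# Klein four Sylow 2-subgroups: the index of an involution centralizer
-/

set_option autoImplicit false

namespace Cfsg.Gag.V

open Subgroup
open scoped ComplexConjugate

universe u

variable {L : Type u} [Group L] [Finite L] {Z : Subgroup L} {lam : Z →* ℂˣ} {t τ : L}
  {P : Sylow 2 L}

omit [Finite L] in
theorem dih_ord (h : IsDih (P : Subgroup L) t τ 1) : orderOf t = 2 := h.ord

theorem dih_sq (h : IsDih (P : Subgroup L) t τ 1) {u : L} (hu : ∃ k, orderOf u = 2 ^ k) :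
    u * u = 1 := by
  obtain ⟨g, hg⟩ := exists_conj_mem_sylow P hu
  have : g * u * g⁻¹ * (g * u * g⁻¹) = 1 := by
    by_cases hx : g * u * g⁻¹ ∈ zpowers t
    · rw [← sq, ← orderOf_dvd_iff_pow_eq_one, ← dih_ord h]
      exact orderOf_dvd_of_mem_zpowers hx
    · exact h.mul_self_of_notMem hg hx
  rwa [conj_mul, conj_eq_one_iff] at this

theorem dih_cent (h : IsDih (P : Subgroup L) t τ 1) {x : L} (hx : x ∈ (P : Subgroup L))
    (hx' : x ∉ zpowers t) :
    centralizer {t} ⊓ centralizer {x} = centralizer ((P : Subgroup L) : Set L) := by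
  refine le_antisymm (fun c hc => mem_centralizer_iff.2 fun y hy => ?_) (le_inf
    (centralizer_le (Set.singleton_subset_iff.2 h.mem_σ))
    (centralizer_le (Set.singleton_subset_iff.2 hx)))
  have h1 : zpowers t ≤ centralizer {c} := zpowers_le.2
    (mem_centralizer_singleton_iff.2 (mem_centralizer_singleton_iff.1 hc.1).symm)
  have h2 : x ∈ centralizer {c} :=
    mem_centralizer_singleton_iff.2 (mem_centralizer_singleton_iff.1 hc.2).symm
  refine mem_centralizer_singleton_iff.1 (by_contra fun hy' => hy' ?_)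
  exact (Subgroup.mul_mem_cancel_right _ h2).1
    (h1 (mul_mem_of_relIndex_le_two h.relIndex.le hy hx (fun e => hy' (h1 e)) hx'))

omit [Finite L] in
theorem dih_le (h : IsDih (P : Subgroup L) t τ 1) : (P : Subgroup L) ≤ centralizer {t} := by
  simpa using h.le_centralizer_J

theorem dih_nc (h : IsDih (P : Subgroup L) t τ 1) :
    HasNormalPComplement 2 (centralizer ({t} : Set L)) :=
  h.hasNormalPComplement_centralizer ⟨1, dih_ord h⟩ fun e => by
    have := dih_ord h; rw [e, orderOf_one] at this; omega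

open Classical in
/-- the number of involutions `y` with `y t` an involution -/
noncomputable def nInv [Fintype L] (t : L) : ℕ :=
  (Finset.univ.filter fun y : L => IsConj t y ∧ orderOf (y * t) = 2).card

theorem nInv_mul [Fintype L] (h : IsDih (P : Subgroup L) t τ 1)
    (hinv : ∀ s, orderOf s = 2 → IsConj t s) :
    nInv t * Nat.card (centralizer ((P : Subgroup L) : Set L)) =
      2 * Nat.card (centralizer ({t} : Set L)) := by
  classical
  have ht := dih_ord h
  have ht2 := mul_self_eq_one_of_orderOf_two ht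
  obtain ⟨π, h1, h2, h3⟩ := (dih_nc h).exists_retraction (dih_le h) P.isPGroup'
    (IsDih.not_dvd_relIndex P (dih_le h))
  have hτ' := h.mul_τ_notMem (mem_zpowers t)
  have hm := Subgroup.mul_mem _ h.mem_σ h.mem_τ
  have f1 := card_fiber_retraction (dih_le h) π h1 h2 h3 h.mem_τ
    (h.orderOf_of_notMem h.mem_τ h.notMem)
  have f2 := card_fiber_retraction (dih_le h) π h1 h2 h3 hm (h.orderOf_of_notMem hm hτ')
  rw [dih_cent h h.mem_τ h.notMem, h.card_inf_centralizer_of_notMem h.mem_τ h.notMem, h.card] at f1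
  rw [dih_cent h hm hτ', h.card_inf_centralizer_of_notMem hm hτ', h.card] at f2
  have hne : τ ≠ t * τ := fun e => by
    rw [right_eq_mul.1 e, orderOf_one] at ht; omega
  have hπ : ∀ s : centralizer ({t} : Set L), orderOf (s : L) = 2 →
      ((s : L) ≠ t ↔ π s ∉ zpowers t) := fun s hs => by
    obtain ⟨c, hc, e⟩ := h3 s
    rw [pPart_eq_self_iff.2 ⟨1, hs⟩] at e
    have ho : orderOf (π s) = 2 := (orderOf_eq_of_isConj (isConj_iff.2 ⟨c, e⟩)).trans hs
    refine ⟨fun e' hz => e' ?_, fun hz e' => hz ?_⟩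
    · rw [h.eq_J hz ho, pow_one, mul_inv_eq_iff_eq_mul, ← mem_centralizer_singleton_iff.1 hc] at e
      exact mul_left_cancel e
    · rw [h2 s (by rw [e']; exact h.mem_σ), e']; exact mem_zpowers t
  have key : nInv t = (Finset.univ.filter fun s : centralizer ({t} : Set L) =>
        orderOf (s : L) = 2 ∧ π s = τ).card + (Finset.univ.filter fun s : centralizer ({t} : Set L) =>
        orderOf (s : L) = 2 ∧ π s = t * τ).card := by
    rw [← Finset.card_union_of_disjoint (Finset.disjoint_filter.2 fun s _ a b =>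
      hne (a.2.symm.trans b.2)), ← Finset.filter_or, nInv]
    refine (Finset.card_bij (fun (s : centralizer ({t} : Set L)) _ => (s : L)) (fun s hs => ?_)
      (fun _ _ _ _ e => Subtype.ext e) fun y hy => ?_).symm
    · have hs' := (Finset.mem_filter.1 hs).2
      have o : orderOf (s : L) = 2 := hs'.elim And.left And.left
      have n : (s : L) ≠ t := (hπ s o).2 (hs'.elim (fun a => a.2 ▸ h.notMem) fun a => a.2 ▸ hτ')
      refine Finset.mem_filter.2 ⟨Finset.mem_univ _, hinv _ o, orderOf_eq_prime ?_ fun e => n ?_⟩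
      · rw [Commute.mul_pow (mem_centralizer_singleton_iff.1 s.2), sq, sq, ht2,
          mul_self_eq_one_of_orderOf_two o, one_mul]
      · exact mul_right_cancel (e.trans ht2.symm)
    · obtain ⟨-, a, b⟩ := Finset.mem_filter.1 hy
      have o : orderOf y = 2 := (orderOf_eq_of_isConj a).trans ht
      have hy' : y ∈ centralizer ({t} : Set L) := mem_centralizer_singleton_iff.2 (by
        rw [← inv_eq_of_mul_eq_one_right (mul_self_eq_one_of_orderOf_two b), mul_inv_rev,
          inv_eq_of_mul_eq_one_right ht2,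
          inv_eq_of_mul_eq_one_right (mul_self_eq_one_of_orderOf_two o)])
      refine ⟨⟨y, hy'⟩, Finset.mem_filter.2 ⟨Finset.mem_univ _, ?_⟩, rfl⟩
      obtain ⟨s, hs, e⟩ := h.exists_eq_mul (h1 ⟨y, hy'⟩) ((hπ ⟨y, hy'⟩ o).1 fun e => by
        rw [show y = t from e, ht2, orderOf_one] at b; omega)
      by_cases s1 : s = 1
      · exact Or.inl ⟨o, by rw [e, s1, one_mul]⟩
      · refine Or.inr ⟨o, e.trans (congrArg (· * τ) ((h.eq_J hs (orderOf_eq_prime ?_ s1)).trans
          (pow_one t)))⟩
        rw [← orderOf_dvd_iff_pow_eq_one, ← ht]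
        exact orderOf_dvd_of_mem_zpowers hs
  rw [key, add_mul]
  omega

/-- strongly real elements of odd order are bad -/
def Bad (lam : Z →* ℂˣ) : Prop := ∀ i x u : L, orderOf i = 2 → x ≠ 1 → ¬ 2 ∣ orderOf x →
  i * x * i⁻¹ = x⁻¹ → u * u = 1 → Commute u x → Commute u i →
    ∃ (y : L) (z : Z), Commute u y ∧ y * x * y⁻¹ = z * x ∧ lam z ≠ 1

theorem quad [Fintype L] (h : IsDih (P : Subgroup L) t τ 1)
    (hinv : ∀ s, orderOf s = 2 → IsConj t s) (hb : Bad lam) {χ : IrrCharacter L}
    (hχ : Over lam χ.1) (hZ : Z ≤ center L) : χ.1 1 ^ 2 + nInv t * (χ.1 1 * χ.1 t) =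
      (centralizer ({t} : Set L)).index * χ.1 t ^ 2 := by
  classical
  have ht := dih_ord h
  have ht2 := mul_self_eq_one_of_orderOf_two ht
  have key : ∀ y, IsConj t y → χ.1 (y * t) = (if y = t then χ.1 1 else 0) +
      if orderOf (y * t) = 2 then χ.1 t else 0 := fun y hy => by
    have o : orderOf y = 2 := (orderOf_eq_of_isConj hy).trans ht
    by_cases e : y = t
    · simp [e, ht2]
    by_cases e' : orderOf (y * t) = 2
    · simp [e, e', χ.isClassFunction.eq_of_isConj (hinv _ e')]
    rw [if_neg e, if_neg e', add_zero]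
    have hu := dih_sq h (exists_orderOf_pPart (p := 2) (y * t))
    have hi := conj_eq_inv_of_mul_involutions (mul_self_eq_one_of_orderOf_two o) ht2
    obtain ⟨w, z, h1, h2, h3⟩ := hb y (pRegPart 2 (y * t)) (pPart 2 (y * t)) o (fun e1 => by
        have e2 := pPart_mul_pRegPart 2 (y * t)
        rw [e1, mul_one] at e2
        exact e' (orderOf_eq_prime (by rw [sq, ← e2, hu])
          fun e3 => e (mul_right_cancel (e3.trans ht2.symm)))) (not_dvd_orderOf_pRegPart _)
      (by rw [← pRegPart_conj, hi, pRegPart_inv]) hu (commute_pPart_pRegPart _ _) (by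
        have := conj_pPart_eq_inv 2 hi
        rw [inv_eq_of_mul_eq_one_right hu, mul_inv_eq_iff_eq_mul] at this
        exact this.symm)
    refine hχ.vanish χ.isClassFunction (y := w) ?_ h3
    rw [← pPart_mul_pRegPart 2 (y * t), ← mul_assoc z.1, ← mem_center_iff.1 (hZ z.2), mul_assoc _ z.1,
      ← h2, ← mul_assoc w, ← h1.eq]
    group
  have := χ.one_mul_sum_isConj_mul t t
  rw [Finset.sum_congr rfl fun y hy => key y (Finset.mem_filter.1 hy).2, Finset.sum_add_distrib,
    Finset.sum_ite_eq', if_pos (Finset.mem_filter.2 ⟨Finset.mem_univ _, IsConj.refl t⟩), ← Finset.sum_filter, Finset.filter_filter,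
    Finset.sum_const, nsmul_eq_mul] at this
  rw [nInv]
  linear_combination this

theorem index_eq [Fintype L] (h : IsDih (P : Subgroup L) t τ 1)
    (hinv : ∀ s, orderOf s = 2 → IsConj t s) (hb : Bad lam) (hZ : Z ≤ center L)
    (ho : Odd (Nat.card Z)) {χ₀ : IrrCharacter L} (h0 : Over lam χ₀.1) :
    4 * (centralizer ({t} : Set L)).index = 3 * nInv t ^ 2 ∧
      (∃ χ : IrrCharacter L, Over lam χ.1 ∧ 2 * χ.1 1 = nInv t * χ.1 t) ∧
      ∃ χ : IrrCharacter L, Over lam χ.1 ∧ 2 * χ.1 1 = -3 * nInv t * χ.1 t := by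
  set C := centralizer ({t} : Set L) with hC
  have hn : 0 < nInv t := Nat.pos_of_mul_pos_right ((nInv_mul h hinv).symm ▸
    Nat.mul_pos two_pos Nat.card_pos)
  have hN : 0 < C.index := Nat.pos_of_ne_zero index_ne_zero_of_finite
  have hZC : Z ≤ C := fun z hz => mem_centralizer_singleton_iff.2 (mem_center_iff.1 (hZ hz) t).symm
  have hc : Nat.card C = 4 * Nat.card ((pPrimeCore 2 C).map C.subtype) := by
    obtain ⟨Q, hQ⟩ := exists_sylow_eq_of_not_dvd_index (isPGroup_subgroupOf P.isPGroup' C)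
      (IsDih.not_dvd_relIndex P (dih_le h))
    rw [card_map_subtype, ← ((dih_nc h).isComplement' Q).card_mul_card, hQ,
      Nat.card_congr (subgroupOfEquivOfLe (dih_le h)).toEquiv, h.card, mul_comm]
  set s := Real.sqrt (nInv t ^ 2 + 4 * C.index) with hs
  have hs2 : s ^ 2 = nInv t ^ 2 + 4 * C.index := Real.sq_sqrt (by positivity)
  have hs2' : (s : ℂ) ^ 2 = nInv t ^ 2 + 4 * C.index := by exact_mod_cast hs2
  obtain ⟨j, hj, h1, h2⟩ := lattice (U := (pPrimeCore 2 C).map C.subtype) hZ (fun z hz =>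
      ⟨⟨z, hZC hz⟩, hasNormalPComplement_iff_forall_mem_pPrimeCore.1 (dih_nc h) _ fun e =>
        ho.not_two_dvd_nat (by
          rw [← Subgroup.orderOf_coe] at e
          exact e.trans (Subgroup.orderOf_dvd_natCard Z hz)), rfl⟩) (dih_ord h)
    (map_subtype_le _) (by
      rw [card_map_subtype, ← Nat.not_even_iff_odd, even_iff_two_dvd]
      exact not_dvd_card_pPrimeCore 2) hc (r := (-nInv t + s) / 2) (s := (-nInv t - s) / 2)
    (fun χ hχ => by
      rw [← sub_eq_zero, ← sub_eq_zero (a := χ.1 1) (b := (-nInv t - s) / 2 * _), ← mul_eq_zero]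
      linear_combination quad h hinv hb hχ hZ - χ.1 t ^ 2 / 4 * hs2') h0
  have hj' : ((j : ℝ) - 2) * s = 2 * nInv t := by
    have : ((j : ℂ) - 2) * s = 2 * nInv t := by push_cast at hj; linear_combination hj
    exact_mod_cast this
  have hn' : (0 : ℝ) < nInv t := by exact_mod_cast hn
  have hN' : (0 : ℝ) < C.index := by exact_mod_cast hN
  have hs0 : (nInv t : ℝ) < s := Real.lt_sqrt_of_sq_lt (by linarith)
  have j3 : j = 3 := by
    have a : (2 : ℝ) < j := by nlinarith
    have b : (j : ℝ) < 4 := by nlinarith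
    have a' : 2 < j := by exact_mod_cast a
    have b' : j < 4 := by exact_mod_cast b
    omega
  have e : s = 2 * nInv t := by rw [j3] at hj'; push_cast at hj'; linarith
  have e' : (s : ℂ) = 2 * nInv t := by exact_mod_cast e
  refine ⟨?_, ?_, ?_⟩
  · have : (4 : ℝ) * C.index = 3 * nInv t ^ 2 := by rw [e] at hs2; linarith
    exact_mod_cast this
  · obtain ⟨χ, a, b⟩ := h1 (by omega)
    exact ⟨χ, a, by rw [b, e']; ring⟩
  · obtain ⟨χ, a, b⟩ := h2 (by omega)
    exact ⟨χ, a, by rw [b, e']; ring⟩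

end Cfsg.Gag.V
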