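import Cfsg.Agent.Gag.WA
import Cfsg.Agent.FT.App.SFT

/-!
# Piece W: the signalizer functor
-/

set_option autoImplicit false
set_option linter.unusedSectionVars false

namespace Cfsg.Gag

open Subgroup Cfsg.FT
open scoped Pointwise

universe u

variable {G : Type u} [Group G] {A H K K' L S T U V X Y : Subgroup G} {β : G → G → ℂˣ}
  {a b e g n s t : G}

/-- `D_{b,K}(a)` -/
def dd (b : G) (K : Subgroup G) (a : G) : Subgroup G := ⁅oc a, ⟪b⟫⁆ ⊔ (oc a ⊓ 𝐂₁[b] ⊓ tr K b)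

/-- the functor -/
def th (A : Subgroup G) (a : G) : Subgroup G := oc a ⊓ ⨅ b, ⨅ K, ⨅ _ : Cp A b K, dd b K a

/-- its completion -/
def thY (A : Subgroup G) : Subgroup G := ⨆ a ∈ Ohm1 2 A, ⨆ _ : a ≠ 1, th A a

theorem le_th : X ≤ th A a ↔ X ≤ oc a ∧ ∀ b K, Cp A b K → X ≤ dd b K a := by
  simp only [th, le_inf_iff, le_iInf_iff]

theorem th_le (A : Subgroup G) (a : G) : th A a ≤ oc a := inf_le_left

theorem th_le_dd (k : Cp A b K) (a : G) : th A a ≤ dd b K a := (le_th.1 le_rfl).2 b K k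

theorem norms_dd (ha : X ≤ 𝐍[oc a]) (hb : X ≤ 𝐂₁[b]) (hK : X ≤ 𝐍[K]) : X ≤ 𝐍[dd b K a] :=
  normsY (normsR ha (norms_cycle hb))
    (normsI (normsGI ha hb) (norms_commStab hK (hb.trans (oc_norm b))))

theorem dd_conj_le [Finite G] (g : G) :
    g •ᶜ dd b K a ≤ dd (g * b * g⁻¹) (g •ᶜ K) (g * a * g⁻¹) := by
  rw [dd, dd, conj_sup, conj_commutator, conj_inf, conj_inf, conj_zpowers, tr, tr, oc_conj, oc_conj,
    cent1_conj]
  exact sup_le_sup_left (inf_le_inf_left _ (commStab_conj_le g)) _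

theorem th_conj_le [Finite G] (hn : n ∈ 𝐍[A]) : n •ᶜ th A a ≤ th A (n * a * n⁻¹) :=
  le_th.2 ⟨oc_conj n a ▸ conj_le_conj.2 (th_le A a), fun b K k => by
    have := (conj_le_conj.2 (th_le_dd (k.conj (inv_mem hn)) a)).trans (dd_conj_le n)
    simpa [conj_inv_conj, mul_assoc] using this⟩

theorem AF.mem_ohm (h : AF A β) : a ∈ Ohm1 2 A ∧ a ≠ 1 ↔ Inv A a := by
  haveI := Fact.mk Nat.prime_two
  rw [mem_Ohm1_abelian h.ab]
  exact ⟨fun h => ⟨h.1.1, orderOf_eq_prime h.1.2 h.2⟩,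
    fun h => ⟨⟨h.1, by rw [pow_two, h.sq]⟩, h.ne⟩⟩

theorem AF.th_le_Y (h : AF A β) (ha : Inv A a) : th A a ≤ thY A :=
  le_iSup₂_of_le a (h.mem_ohm.2 ha).1 (le_iSup (fun _ : a ≠ 1 => th A a) ha.ne)

theorem AF.Y_le (h : AF A β) (hL : ∀ a, Inv A a → th A a ≤ L) : thY A ≤ L :=
  iSup₂_le fun a ha => iSup_le fun h1 => hL a (h.mem_ohm.1 ⟨ha, h1⟩)

theorem AF.norm_Y [Finite G] (h : AF A β) : 𝐍[A] ≤ 𝐍[thY A] := normsP''.2 fun _ hn =>
  conj_le_iff.2 (h.Y_le fun _ ha => conj_le_iff.1 ((th_conj_le hn).trans (h.th_le_Y (ha.conj hn))))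

namespace WC

variable [Finite G] {h : AF A β} (c : WC h)
include c

theorem split (ho : Odd (Nat.card X)) (hU : U ≤ A) (hn : U ≤ 𝐍[X]) : ⁅X, U⁆ ⊔ (X ⊓ 𝐂[U]) = X :=
  coprime_cent_prod hn (c.cop ho hU) (.inr (abelian_sol (abelianS hU h.ab)))

theorem split1 (ho : Odd (Nat.card X)) (hb : b ∈ A) (hn : A ≤ 𝐍[X]) :
    ⁅X, ⟪b⟫⁆ ⊔ (X ⊓ 𝐂₁[b]) = X := by
  rw [← cent_cycle]; exact c.split ho (zpowers_le.2 hb) (zpowers_le.2 (hn hb))

theorem dd_le (ha : a ∈ A) (hb : b ∈ A) : dd b K a ≤ oc a :=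
  sup_le (commg_subl.2 (zpowers_le.2 (h.A_oc ha hb))) (inf_le_left.trans inf_le_left)

theorem dd_norm (k : Cp A b K) (ha : a ∈ A) : oc a ≤ 𝐍[dd b K a] :=
  (c.split1 (oc_odd a) k.1.1 (h.A_oc ha)).ge.trans (sup_le (normsG le_sup_left)
    (norms_dd (normsG inf_le_left) inf_le_right (c.norm k ha)))

theorem comm_le_dd (k : Cp A b K) (ha : a ∈ A) (hS : S ≤ h.perp (K ⊓ A)) : ⁅oc a, S⁆ ≤ dd b K a := by
  have hSA := hS.trans (h.perp_le _)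
  have hn := hSA.trans (h.A_oc ha)
  have hb := hSA.trans (h.A_cent k.1.1)
  refine (commSg S (c.split1 (oc_odd a) k.1.1 (h.A_oc ha)).ge).trans (commg_sup_le
    (normsG le_sup_left) (inf_le_left.trans (c.dd_norm k ha))
    ((commg_subl.2 (normsR hn (norms_cycle hb))).trans le_sup_left) (le_sup_of_le_right ?_))
  exact le_inf (commg_subl.2 (normsGI hn hb)) (c.comm_tr k inf_le_right (c.norm k ha) hS)

theorem dd_le_dd (k : Cp A b K) (k' : Cp A t K') (e : K' ⊓ A = K ⊓ A) (ha : a ∈ A) :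
    dd b K a ≤ dd t K' a := by
  refine sup_le (c.comm_le_dd k' ha (zpowers_le.2 (e ▸ c.mem_perp k))) ?_
  have hA : A ≤ 𝐍[oc a ⊓ 𝐂₁[b] ⊓ tr K b] :=
    normsI (normsGI (h.A_oc ha) (h.A_cent k.1.1)) (norms_commStab k.A_norm (h.A_oc k.1.1))
  have h1 : oc a ⊓ 𝐂₁[b] ⊓ tr K b ≤ oc a := inf_le_left.trans inf_le_left
  rw [← c.split1 (oddSg h1 (oc_odd a)) k'.1.1 hA]
  have h2 := inf_le_inf_right 𝐂₁[t] h1
  exact sup_le_sup (commSg _ h1) (le_inf h2 (c.c2 k' k e.symm inf_le_right (h2.trans (c.norm k' ha))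
    (inf_le_left.trans (inf_le_left.trans (c.norm k ha))) (inf_le_left.trans inf_le_right)))

theorem dd_eq (k : Cp A b K) (k' : Cp A t K') (e : K' ⊓ A = K ⊓ A) (ha : a ∈ A) :
    dd b K a = dd t K' a := (c.dd_le_dd k k' e ha).antisymm (c.dd_le_dd k' k e.symm ha)

theorem KL (k : Cp A b K) (ha : a ∈ A) : dd b K a ⊓ 𝐂₁[b] ≤ tr K b := by
  rw [dd, group_modr (inf_le_left.trans (inf_le_left.trans (commg_norml _ _)))
    (inf_le_left.trans inf_le_right)]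
  refine sup_le ?_ inf_le_right
  obtain ⟨T, hT, hb, hB⟩ := c.exists_klein k
  have hTA := hB.trans (h.perp_le _)
  have h1 : ⁅oc a, ⟪b⟫⁆ ⊓ 𝐂₁[b] ≤ oc a ⊓ 𝐂₁[b] :=
    inf_le_inf_right _ (commg_subl.2 (zpowers_le.2 (h.A_oc ha k.1.1)))
  rw [← c.split (oddSg (h1.trans inf_le_left) (oc_odd a)) hTA (hTA.trans
    (normsGI (normsR (h.A_oc ha) (norms_cycle (h.A_cent k.1.1))) (h.A_cent k.1.1)))]
  refine sup_le (c.comm_tr k inf_le_right (h1.trans (c.norm k ha)) hB)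
    ((inf_le_inf_right _ (inf_le_left.trans (commgS _ (zpowers_le.2 hb)))).trans
      (w3 hT (hTA.trans (h.A_oc ha)) (oc_odd a) fun s hs h2 => ?_))
  obtain ⟨L, l, e⟩ := c.exists_cp k (hT.inv hTA hs h2) (hB hs)
  have h3 := hT.Q_le (hTA.trans (h.A_oc ha)) hs
  have h4 : w3Q (oc a) T s ⊓ 𝐂[T] ≤ oc a ⊓ 𝐂₁[b] :=
    inf_le_inf (h3.trans inf_le_left) (cent_le_cent1 hb)
  exact c.c2 k l e (h4.trans inf_le_right) (h4.trans (c.norm k ha))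
    (inf_le_left.trans (h3.trans (c.norm l ha)))
    (inf_le_left.trans (c.comm_tr l inf_le_right (c.norm l ha) (e ▸ hB)))

theorem norms_th (ha : a ∈ A) (hX : X ≤ 𝐂₁[a]) (hK : ∀ b K, Cp A b K →
    ∃ t K', Cp A t K' ∧ K' ⊓ A = K ⊓ A ∧ X ≤ 𝐂₁[t] ∧ X ≤ 𝐍[K']) : X ≤ 𝐍[th A a] :=
  normsI (hX.trans (oc_norm a)) (norms_iInf fun b => norms_iInf fun K => norms_iInf fun k => by
    obtain ⟨t, K', k', e, h1, h2⟩ := hK b K k
    rw [c.dd_eq k k' e ha]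
    exact norms_dd (hX.trans (oc_norm a)) h1 h2)

theorem A_th (ha : a ∈ A) : A ≤ 𝐍[th A a] :=
  c.norms_th ha (h.A_cent ha) fun b K k => ⟨b, K, k, rfl, h.A_cent k.1.1, k.A_norm⟩

theorem balance (ha : a ∈ A) (he : Inv A e) : th A a ⊓ 𝐂₁[e] ≤ th A e := by
  have ho : Odd (Nat.card ↥(th A a ⊓ 𝐂₁[e])) := oddSg (inf_le_left.trans (th_le A a)) (oc_odd a)
  have hA : A ≤ 𝐍[th A a ⊓ 𝐂₁[e]] := normsGI (c.A_th ha) (h.A_cent he.1)
  have h1 : th A a ⊓ 𝐂₁[e] ≤ oc e := (c.wf e he).odd_le _ inf_le_right ho hA fun K k =>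
    (le_commStab.1 ((inf_le_inf_right _ (th_le_dd ⟨he, k⟩ a)).trans (c.KL ⟨he, k⟩ ha))).2
  refine le_th.2 ⟨h1, fun b K k => ?_⟩
  rw [← c.split1 ho k.1.1 hA]
  exact sup_le_sup (commSg _ h1) (le_inf (inf_le_inf_right _ h1)
    ((inf_le_inf_right _ (inf_le_left.trans (th_le_dd k a))).trans (c.KL k ha)))

theorem eight_le : 2 ^ 3 ≤ Nat.card (Ohm1 2 A) := by
  haveI := Fact.mk Nat.prime_two
  obtain ⟨m, hm⟩ := exists_card_pgroup (c.syl.pgroup.to_le (Ohm_sub 2 A))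
  have := c.big
  rw [hm] at this ⊢
  exact Nat.pow_le_pow_right two_pos ((Nat.pow_lt_pow_iff_right one_lt_two).1 (show 2 ^ 2 < _ from this))

theorem complete : Odd (Nat.card (thY A)) ∧ ∀ a, Inv A a → thY A ⊓ 𝐂₁[a] = th A a := by
  haveI := Fact.mk Nat.prime_two
  have hE : IsElementaryAbelian 2 (Ohm1 2 A) := Ohm1_abelem h.ab
  have := sft (Ohm1 2 A) hE.1 hE.2 c.eight_le (th A) (fun a _ _ => (th_le A a).trans (oc_le a))
    (fun a ha _ => (Ohm_sub 2 A).trans (c.A_th (Ohm_sub 2 A ha)))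
    (fun a _ _ => Nat.Coprime.mul_right (oddSg (th_le A a) (oc_odd a)).coprime_two_right
      (oddSg (th_le A a) (oc_odd a)).coprime_two_right)
    (fun a ha _ b hb h1 => c.balance (Ohm_sub 2 A ha) (h.mem_ohm.1 ⟨hb, h1⟩))
  exact ⟨Nat.coprime_two_right.1 (Nat.Coprime.coprime_mul_left_right this.1),
    fun a ha => this.2 a (h.mem_ohm.2 ha).1 ha.ne⟩

theorem norms_Y (hH : H ≤ Ohm1 2 A) (hc : ¬ IsCyclic H)
    (hX : ∀ a ∈ H, Inv A a → X ≤ 𝐍[th A a]) : X ≤ 𝐍[thY A] := by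
  have hA := hH.trans (Ohm_sub 2 A)
  rw [← coprime_abelian_gen_cent1 (abelianS hA h.ab) hc (hA.trans ((normG A).trans h.norm_Y))
    (c.cop c.complete.1 hA)]
  refine norms_iSup fun a => norms_iSup fun ha => ?_
  have := h.mem_ohm.1 ⟨hH ha.1, ha.2⟩
  rw [c.complete.2 a this]
  exact hX a ha.1 this

theorem hyp_not_cyclic (hH : H ≤ Ohm1 2 A) (hc : IsCyclic (Ohm1 2 A ⁄ H)) : ¬ IsCyclic H := by
  intro h1
  have hE : IsElementaryAbelian 2 (Ohm1 2 A) := Ohm1_abelem h.ab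
  have h2 := Nat.le_of_dvd two_pos (card_dvd_of_abelem_cyclic (abelemS hH hE) h1)
  have h3 := Nat.le_of_dvd two_pos (card_dvd_of_abelem_cyclic (quotient_abelem H hE) hc)
  have h4 := card_quo_mul (sub_abelian_normal hE.1 hH)
  have := c.big
  nlinarith

theorem hyp_meet (hH : H ≤ Ohm1 2 A) (hc : IsCyclic (Ohm1 2 A ⁄ H)) (k : Cp A b K) :
    ∃ t K', t ∈ H ∧ Cp A t K' ∧ K' ⊓ A = K ⊓ A := by
  obtain ⟨T, hT, -, hB⟩ := c.exists_klein k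
  have hTA := hB.trans (h.perp_le _)
  have h1 : H ⊓ T ≠ ⊥ := fun e => by
    obtain ⟨f⟩ := quotient_isog (hTA.trans (sub_abelian_norm h.ab (hH.trans (Ohm_sub 2 A)))) e
    exact hT.not_cyclic (f.isCyclic.2 (cyclicS (quotientS H (abelem_le_Ohm1 hTA hT.abelem)) hc))
  obtain ⟨t, ht, ht'⟩ := c.exists_inv (inf_le_right.trans hTA) h1
  obtain ⟨K', k', e⟩ := c.exists_cp k ht' (hB ht.2)
  exact ⟨t, K', ht.1, k', e⟩

theorem oc_le_of_hyp (ha : a ∈ A)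
    (hL : ∀ H ≤ Ohm1 2 A, IsCyclic (Ohm1 2 A ⁄ H) → oc a ⊓ 𝐂[H] ≤ L) : oc a ≤ L :=
  coprime_abelian_gen_cent_le (abelianS (Ohm_sub 2 A) h.ab) ((Ohm_sub 2 A).trans (h.A_oc ha))
    (c.cop (oc_odd a) (Ohm_sub 2 A)) hL

theorem oc_norm_Y (ha : a ∈ A) : oc a ≤ 𝐍[thY A] :=
  c.oc_le_of_hyp ha fun H hH hc => c.norms_Y hH (c.hyp_not_cyclic hH hc) fun e he he' =>
    c.norms_th he'.1 (inf_le_right.trans (cent_le_cent1 he)) fun b K k => by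
      obtain ⟨t, K', ht, k', e⟩ := c.hyp_meet hH hc k
      exact ⟨t, K', k', e, inf_le_right.trans (cent_le_cent1 ht),
        (inf_le_inf_left _ (cent_le_cent1 ht)).trans (c.norm k' ha)⟩

theorem kv_norm_Y (k : Cp A b K)
    (hm : ∀ t K', Cp A t K' → h.perp (K ⊓ A) ⊓ h.perp (K' ⊓ A) ≠ ⊥) :
    h.kv (K ⊓ A) ≤ 𝐍[thY A] := by
  obtain ⟨T, hT, -, hB⟩ := c.exists_klein k
  have hTA := hB.trans (h.perp_le _)
  have h1 := h.kv_le (inf_le_right : K ⊓ A ≤ A)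
  refine c.norms_Y (abelem_le_Ohm1 hTA hT.abelem) hT.not_cyclic fun e he he' =>
    c.norms_th he'.1 (h1.trans (cent_le_cent1 (hB he))) fun t K' k' => ?_
  obtain ⟨s, hs, hs'⟩ := c.exists_inv (inf_le_left.trans (h.perp_le _)) (hm t K' k')
  obtain ⟨L, l, e⟩ := c.exists_cp k' hs' hs.2
  exact ⟨s, L, l, e, h1.trans (cent_le_cent1 hs.1),
    (ncl_mono inf_le_right (cent_le_cent1 hs.1)).trans l.ncl_norm⟩

theorem comm_le_th (h3 : StWL3.{u}) (k : Cp A b K) : ⁅oc b, K ⊓ A⁆ ≤ th A b := by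
  have h1 : ⁅oc b, K ⊓ A⁆ ≤ oc b := commg_subl.2 (inf_le_right.trans (h.A_oc k.1.1))
  refine le_th.2 ⟨h1, fun t K' k' => ?_⟩
  by_cases e : K ⊓ A = K' ⊓ A
  · rw [c.dd_eq k' k e k.1.1]
    exact h1.trans (le_sup_of_le_right (le_inf (le_inf le_rfl (oc_le b)) (le_commStab.2
      ⟨normG _, commg_subl.2 ((K_le k h.ab).trans (oc_norm b))⟩)))
  · exact c.comm_le_dd k' k.1.1 (c.orth h3 k k' e)

/-- if the functor is trivial, `K_V` is characteristic in each component over `V` -/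
theorem norm_kv (h3 : StWL3.{u}) (hY : thY A = ⊥) (k : Cp A b K) : 𝐍[K] ≤ 𝐍[h.kv (K ⊓ A)] := by
  haveI := Fact.mk Nat.prime_two
  have h1 : K ⊓ A ≤ 𝐂[oc b] :=
    commG1P'.1 (eq_bot_iff.2 (hY ▸ (c.comm_le_th h3 k).trans (h.th_le_Y k.1)))
  have h2 : h.kv (K ⊓ A) ≤ 𝐂[oc b] :=
    ncl_le h1 ((cent_le_cent1 (c.mem_perp k)).trans (norms_cent (oc_norm b)))
  have h4 : K ≤ 𝐍[h.kv (K ⊓ A)] :=
    (c.eq_kv k).le.trans (sup_le (normG _) (cents_norm (centsC.1 h2)))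
  have hS : Syl 2 (K ⊓ A) K := inf_comm K A ▸ Sylow_setI_normal k.2.2.1
    (c.syl.subl ((le_ncl _ _).trans le_sup_left) le_top)
  refine normsP''.2 fun g hg => ?_
  rw [conj_le_iff]
  refine iSup₂_le fun x hx => conj_le_iff.1 ?_
  rw [conj_conj]
  obtain ⟨y, hy, e⟩ := Sylow_trans hS ((sylJnorm (mul_mem hg (c.cent_norm k hx))).2 hS)
  rw [e]
  exact conj_le_of_mem_norm (h4 hy) (le_ncl _ _)

theorem oc_norm_kv (h3 : StWL3.{u}) (hY : thY A = ⊥) (k : Cp A b K) (ha : a ∈ A) :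
    oc a ≤ 𝐍[h.kv (K ⊓ A)] :=
  c.oc_le_of_hyp ha fun H hH hc => by
    obtain ⟨t, K', ht, k', e⟩ := c.hyp_meet hH hc k
    rw [← e]
    exact ((inf_le_inf_left _ (cent_le_cent1 ht)).trans (c.norm k' ha)).trans (c.norm_kv h3 hY k')

end WC

end Cfsg.Gag
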