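import Cfsg.Agent.Gag.WL1

/-!
# Piece WL2: an odd group preserving a non-zero alternating form is not transitive
-/

set_option autoImplicit false
set_option linter.style.haveILetI false

namespace Cfsg.Gag

open Subgroup Cfsg.FT
open scoped Pointwise

universe u

namespace WL

section

variable {V : Type u} [CommGroup V] [Finite V] (h2 : ∀ x : V, x * x = 1) {γ : V → V → ℂˣ}
  (hl : ∀ a b c, γ (a * b) c = γ a c * γ b c) (hr : ∀ a b c, γ a (b * c) = γ a b * γ a c)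
  (ha : ∀ a, γ a a = 1)
include h2 hl hr ha

omit [Finite V] h2 hl ha in
theorem form_one_right (a : V) : γ a 1 = 1 := by
  have := hr a 1 1
  rw [mul_one] at this
  exact left_eq_mul.1 this

omit [Finite V] h2 hr ha in
theorem form_one_left (a : V) : γ 1 a = 1 := by
  have := hl 1 1 a
  rw [mul_one] at this
  exact left_eq_mul.1 this

omit [Finite V] hl ha in
theorem form_sq (a b : V) : γ a b * γ a b = 1 := by rw [← hr, h2, form_one_right hr]

omit [Finite V] in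
theorem form_symm (a b : V) : γ b a = γ a b := by
  have := ha (a * b)
  rw [hl, hr, hr, ha, ha, one_mul, mul_one] at this
  rw [← inv_eq_of_mul_eq_one_right this, inv_eq_of_mul_eq_one_right (form_sq h2 hr a b)]

/-- a quadratic form with given polar form -/
theorem exists_quad : ∃ Q : V → ℂˣ, ∀ x y, Q (x * y) = Q x * Q y * γ x y := by
  classical
  obtain ⟨W, ⟨Q, hQ⟩, hmax⟩ := exists_maximal_of_wellFoundedGT
    (fun W : Subgroup V => ∃ Q : V → ℂˣ, ∀ x ∈ W, ∀ y ∈ W, Q (x * y) = Q x * Q y * γ x y)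
    ⟨⊥, fun _ => 1, fun x hx y hy => by rw [mem_bot.1 hy, form_one_right hr]; simp⟩
  by_cases hW : ∀ x, x ∈ W
  · exact ⟨Q, fun x y => hQ x (hW x) y (hW y)⟩
  push Not at hW
  obtain ⟨x, hx⟩ := hW
  have hxx : ∀ w, x * (x * w) = w := fun w => by rw [← mul_assoc, h2, one_mul]
  let Q' : V → ℂˣ := fun z => if z ∈ W then Q z else Q (x * z) * γ x (x * z)
  have q1 : ∀ w ∈ W, Q' w = Q w := fun w hw => if_pos hw
  have q2 : ∀ w ∈ W, Q' (x * w) = Q w * γ x w := fun w hw => by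
    have : x * w ∉ W := fun h => hx ((mul_mem_cancel_right hw).1 h)
    simp only [Q', if_neg this, hxx]
  have hm : ∀ z ∈ W ⊔ zpowers x, z ∈ W ∨ ∃ w ∈ W, z = x * w := fun z hz => by
    obtain ⟨w, hw, y, hy, rfl⟩ := mem_sup.1 hz
    rcases Fin5.mem_cycle2 (h2 x) hy with rfl | rfl
    · exact .inl (by rwa [mul_one])
    · exact .inr ⟨w, hw, mul_comm _ _⟩
  refine absurd (hmax (y := W ⊔ zpowers x) ⟨Q', fun y hy z hz => ?_⟩ le_sup_left
    (mem_sup_right (mem_zpowers x))) hx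
  rcases hm y hy with h | ⟨v, h, rfl⟩ <;> rcases hm z hz with h' | ⟨w, h', rfl⟩
  · rw [q1 _ h, q1 _ h', q1 _ (mul_mem h h'), hQ _ h _ h']
  · rw [mul_left_comm, q1 _ h, q2 _ h', q2 _ (mul_mem h h'), hQ _ h _ h', hr, hr,
      form_symm h2 hl hr ha x y]
    ac_rfl
  · rw [mul_assoc, q1 _ h', q2 _ h, q2 _ (mul_mem h h'), hQ _ h _ h', hr, hl]
    ac_rfl
  · rw [mul_mul_mul_comm, h2, one_mul, q2 _ h, q2 _ h', q1 _ (mul_mem h h'), hQ _ h _ h', hl, hr,
      hr, ha, form_symm h2 hl hr ha x v]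
    calc Q v * Q w * γ v w = Q v * Q w * γ v w * (γ x v * γ x v) * (γ x w * γ x w) := by
          rw [form_sq h2 hr, form_sq h2 hr, mul_one, mul_one]
      _ = _ := by rw [one_mul]; ac_rfl

theorem form_trivial (F : Subgroup (MulAut V)) (hF : Odd (Nat.card F))
    (hinv : ∀ σ ∈ F, ∀ a b, γ (σ a) (σ b) = γ a b)
    (htr : ∀ a b : V, a ≠ 1 → b ≠ 1 → ∃ σ ∈ F, σ a = b) (h4 : 4 < Nat.card V) (a b : V) :
    γ a b = 1 := by
  classical
  haveI := Fintype.ofFinite F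
  obtain ⟨Q, hQ⟩ := exists_quad h2 hl hr ha
  let R : V → ℂˣ := fun x => ∏ σ : F, Q (σ.1 x)
  have r1 : ∀ x y, R (x * y) = R x * R y * γ x y := fun x y => by
    obtain ⟨k, hk⟩ := hF
    simp only [R, map_mul, hQ, Finset.prod_mul_distrib]
    rw [Finset.prod_congr rfl fun (σ : F) _ => hinv σ.1 σ.2 x y, Finset.prod_const, Finset.card_univ,
      ← Nat.card_eq_fintype_card, hk, pow_succ, pow_mul, pow_two, form_sq h2 hr, one_pow, one_mul]
  have r2 : ∀ x y, x ≠ 1 → y ≠ 1 → R y = R x := fun x y hx hy => by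
    obtain ⟨τ, hτ, rfl⟩ := htr x y hx hy
    exact Fintype.prod_equiv (Equiv.mulRight ⟨τ, hτ⟩) _ _ fun σ => rfl
  have hinj : ∀ x y : V, x * y = 1 → x = y := fun x y e => by
    rw [← inv_eq_of_mul_eq_one_right e, inv_eq_of_mul_eq_one_right (h2 x)]
  by_contra hab
  have a1 : a ≠ 1 := fun e => hab (e ▸ form_one_left hl b)
  have r3 : ∀ y, y ≠ 1 → y ≠ a → R a * γ a y = 1 := fun y hy hya => by
    have := r1 a y
    rw [r2 a _ a1 fun e => hya (hinj _ _ e).symm, r2 a y a1 hy, mul_assoc] at this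
    exact left_eq_mul.1 this
  have b1 : b ≠ 1 := fun e => hab (e ▸ form_one_right hr a)
  have ab : b ≠ a := fun e => hab (e ▸ ha b)
  obtain ⟨z, hz⟩ : ∃ z, z ∉ ({1, a, b, a * b} : Finset V) := by
    by_contra h
    push Not at h
    haveI := Fintype.ofFinite V
    have := Finset.card_le_card (fun z _ => h z : Finset.univ ⊆ ({1, a, b, a * b} : Finset V))
    rw [Finset.card_univ, ← Nat.card_eq_fintype_card] at this
    exact absurd (this.trans Finset.card_le_four) (not_le.2 h4)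
  simp only [Finset.mem_insert, Finset.mem_singleton, not_or] at hz
  have e1 := r3 z hz.1 hz.2.1
  have e2 := r3 (z * b) (fun e => hz.2.2.1 (hinj _ _ e)) fun e => hz.2.2.2 (by
    rw [← e, mul_assoc, h2, mul_one])
  rw [hr, ← mul_assoc, e1, one_mul] at e2
  exact hab e2

end

end WL

theorem stWL2 : StWL2.{u} := fun G _ _ A β hS h h4 => by
  classical
  haveI := Fact.mk Nat.prime_two
  by_contra htr
  push Not at htr
  have hex : ∃ k, ∀ a ∈ A, a ^ 2 ^ k = 1 := by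
    obtain ⟨k, hk⟩ := IsPGroup.iff_card.1 hS.pgroup
    exact ⟨k, fun a ha => hk ▸ congrArg Subtype.val (pow_card_eq_one' (x := (⟨a, ha⟩ : A)))⟩
  have hO := Ohm1_abelem (p := 2) h.ab
  have hk0 : Nat.find hex ≠ 0 := fun e => by
    have h1 := Nat.find_spec hex
    rw [e] at h1
    have : Ohm1 2 A = ⊥ := eq_bot_iff.2 fun a ha => by simpa using h1 a (Ohm_sub 2 A ha)
    rw [this, card_bot] at h4
    omega
  obtain ⟨k, hk⟩ := Nat.exists_eq_succ_of_ne_zero hk0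
  have h1 : ∀ a ∈ A, a ^ 2 ^ k ∈ Ohm1 2 A := fun a ha => mem_Ohm1 (pow_mem ha _) (by
    rw [← pow_mul, ← pow_succ]; exact (hk ▸ Nat.find_spec hex :) a ha)
  obtain ⟨a₀, ha₀, hne⟩ : ∃ a ∈ A, a ^ 2 ^ k ≠ 1 := by
    have := Nat.find_min hex (hk ▸ Nat.lt_succ_self k)
    push Not at this
    exact this
  have ho : ∀ v : Ohm1 2 A, v ≠ 1 → orderOf (v : G) = 2 := fun v hv =>
    orderOf_eq_prime (hO.2 v v.2) fun e => hv (Subtype.ext e)
  have hN : 𝐍[A] ≤ 𝐍[Ohm1 2 A] := norms_Ohm1 2 le_rfl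
  have h3 : ∀ v : Ohm1 2 A, ∃ a ∈ A, a ^ 2 ^ k = v := fun v => by
    by_cases hv : v = 1
    · exact ⟨1, one_mem _, by rw [hv, one_pow]; rfl⟩
    obtain ⟨n, hn, e⟩ := htr _ (pow_mem ha₀ _) v (Ohm_sub 2 A v.2)
      (ho ⟨_, h1 a₀ ha₀⟩ fun e => hne (congrArg Subtype.val e)) (ho v hv)
    exact ⟨n * a₀ * n⁻¹, (memJ_norm hn).2 ha₀, by rw [conj_pow, e]⟩
  choose r hr hr' using h3
  have key : ∀ a ∈ A, ∀ x y : Ohm1 2 A, a ^ 2 ^ k = x → β x (r y) = β a y := fun a ha x y e => by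
    rw [← e, ← hr' y, h.pow_left ha (hr y), h.pow_right ha (hr y)]
  have hA : ∀ v : Ohm1 2 A, (v : G) ∈ A := fun v => Ohm_sub 2 A v.2
  haveI := hO.1
  letI : CommGroup (Ohm1 2 A) := IsMulCommutative.instCommGroup
  obtain ⟨b, hb, hab⟩ := h.nd _ (pow_mem ha₀ _) hne
  refine hab ?_
  have := WL.form_trivial (V := Ohm1 2 A) (γ := fun x y => β x (r y))
    (fun x => Subtype.ext (by rw [← pow_two]; exact hO.2 x x.2))
    (fun x y z => h.mul_left _ (hA x) _ (hA y) _ (hr z))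
    (fun x y z => by
      rw [key _ (hr x) x _ (hr' x), key _ (hr x) x _ (hr' x), key _ (hr x) x _ (hr' x)]
      exact h.mul_right _ (hr x) _ (hA y) _ (hA z))
    (fun x => by rw [← hr' x, h.pow_left (hr x) (hr x), h.alt _ (hr x), one_pow])
    (WL.act hN).range ?_ ?_ ?_ h4 ⟨_, h1 a₀ ha₀⟩ ⟨_, h1 b hb⟩
  · rw [key a₀ ha₀ _ _ rfl] at this
    rw [h.pow_left ha₀ hb, ← h.pow_right ha₀ hb]
    exact this
  · rw [← index_ker]
    exact (WL.odd_relIndex hS).of_dvd_nat (index_dvd_of_le fun g hg =>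
      (WL.act_eq_one hN g).2 (centS (Ohm_sub 2 A) (abelian_iff.1 h.ab hg)))
  · rintro _ ⟨n, rfl⟩ x y
    rw [key _ ((memJ_norm n.2).2 (hr x)) _ _ (by rw [conj_pow, hr' x]; rfl),
      key _ (hr x) x _ (hr' x), WL.act_apply, h.inv n n.2 _ (hr x) _ (hA y)]
  · intro x y hx hy
    obtain ⟨n, hn, e⟩ := htr _ (hA x) _ (hA y) (ho x hx) (ho y hy)
    exact ⟨_, ⟨⟨n, hn⟩, rfl⟩, Subtype.ext e⟩

end Cfsg.Gag
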