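import Cfsg.Agent.Gag.WL1
import Cfsg.Agent.Gag.WS1
import Cfsg.Agent.Gag.W3

/-!
# Piece WL3: two four-groups `[A, n]`, `[A, m]` generating `A`
-/

set_option autoImplicit false
set_option linter.style.haveILetI false

namespace Cfsg.Gag

open Subgroup Cfsg.FT
open scoped Pointwise

universe u

namespace WL

variable {G : Type u} [Group G] [Finite G] {A U W T : Subgroup G} {β : G → G → ℂˣ}
  {g n m x y s l t u w : G}

/-- no element of `N(A)` swaps two elements of `A` -/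
theorem no_swap (hS : Syl 2 A ⊤) (ha : IsMulCommutative A) (hg : g ∈ 𝐍[A]) (hx : x ∈ A)
    (h1 : g * x * g⁻¹ = y) (h2 : g * y * g⁻¹ = x) : y = x := by
  have h3 : g ^ 2 ∈ 𝐂₁[x] := mem_cent1.2 (by
    rw [← mul_inv_eq_iff_eq_mul]
    calc g ^ 2 * x * (g ^ 2)⁻¹ = g * (g * x * g⁻¹) * g⁻¹ := by rw [pow_two]; group
      _ = x := by rw [h1, h2])
  have h4 := Fin5.mem_of_pow_coprime h3 (cent_le_cent1 hx (abelian_iff.1 ha (pow_idx hg)))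
    (odd_relIndex hS).coprime_two_left
  rw [← h1, mem_cent1.1 h4, mul_inv_cancel_right]

theorem klein_cases (h : Klein T) (hs : s ∈ T) (hl : l ∈ T) (h1 : s ≠ 1) (h2 : l ≠ 1)
    (h3 : s ≠ l) (ht : t ∈ T) : t = 1 ∨ t = s ∨ t = l ∨ t = l * s := by
  rw [h.gen hs hl h1 h2 h3] at ht
  obtain ⟨a, ha, b, hb, rfl⟩ := (mem_join_norm
    ((zpowers_le.2 hs).trans (sub_abelian_norm h.ab (zpowers_le.2 hl)))).1 ht
  rcases Fin5.mem_cycle2 (h.2 l hl) ha with rfl | rfl <;>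
    rcases Fin5.mem_cycle2 (h.2 s hs) hb with rfl | rfl <;> simp

theorem sq_val (h : AF A β) (hU : U ≤ A) (hK : Klein U) (hs : s ∈ U) (hx : x ∈ A)
    (h1 : β s x ≠ 1) : β s x = -1 := by
  have : β s x * β s x = 1 := by rw [← h.mul_left s (hU hs) s (hU hs) x hx, hK.2 s hs, h.one_left hx]
  exact (Units.inv_eq_self_iff _).1 (inv_eq_of_mul_eq_one_right this) |>.resolve_left h1

/-- a character of a four-group trivial on two distinct involutions is trivial -/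
theorem perp_of_two (h : AF A β) (hU : U ≤ A) (hK : Klein U) (hs : s ∈ U) (hl : l ∈ U)
    (h1 : s ≠ 1) (h2 : l ≠ 1) (h3 : s ≠ l) (hx : x ∈ A) (e1 : β x s = 1) (e2 : β x l = 1) :
    x ∈ h.perp U := (h.mem_perp hU).2 ⟨hx, fun t ht => by
  rcases klein_cases hK hs hl h1 h2 h3 ht with rfl | rfl | rfl | rfl
  · exact h.one_right hx
  · exact e1
  · exact e2
  · rw [h.mul_right x hx _ (hU hl) _ (hU hs), e1, e2, one_mul]⟩

theorem klein_val (h : AF A β) (hU : U ≤ A) (hK : Klein U) (hd : U ⊓ h.perp U = ⊥) (hs : s ∈ U)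
    (hl : l ∈ U) (h1 : s ≠ 1) (h2 : l ≠ 1) (h3 : s ≠ l) : β s l = -1 :=
  sq_val h hU hK hs (hU hl) fun e => h1 (mem_bot.1 (hd ▸
    ⟨hs, perp_of_two h hU hK hs hl h1 h2 h3 (hU hs) (h.alt s (hU hs)) e⟩))

/-- the data attached to `U = [A, n]` -/
structure Dat (h : AF A β) (n : G) (U : Subgroup G) : Prop where
  nN : n ∈ 𝐍[A]
  le : U ≤ A
  kl : Klein U
  nU : n ∈ 𝐍[U]
  nd : U ⊓ h.perp U = ⊥
  fix : ∀ a ∈ h.perp U, n * a * n⁻¹ = a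
  free : ∀ a ∈ U, n * a * n⁻¹ = a → a = 1

theorem dat (h : AF A β) (hS : Syl 2 A ⊤) (hn : n ∈ 𝐍[A]) (hK : Klein ⁅A, ⟪n⟫⁆) :
    Dat h n ⁅A, ⟪n⟫⁆ := by
  have hN : ⟪n⟫ ≤ 𝐍[A] := zpowers_le.2 hn
  have hle : ⁅A, ⟪n⟫⁆ ≤ A := commg_subl.2 hN
  have hTI := WS.comm_TI hS h.ab (le_inf le_top hN)
  have hfree : ∀ a ∈ ⁅A, ⟪n⟫⁆, n * a * n⁻¹ = a → a = 1 := fun a ha e =>
    mem_bot.1 (hTI ▸ ⟨ha, by rw [cent_cycle]; exact mem_cent1.2 (mul_inv_eq_iff_eq_mul.1 e).symm⟩)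
  have hfix : ∀ a ∈ h.perp ⁅A, ⟪n⟫⁆, n * a * n⁻¹ = a := fun a ha => by
    refine h.eq_of_forall ((memJ_norm hn).2 ha.1) ha.1 fun c hc => ?_
    have hc' : n⁻¹ * c * n ∈ A := (memJ_norm' hn).2 hc
    have e := h.inv n hn a ha.1 _ hc'
    have h1 : c⁻¹ * n⁻¹ * c⁻¹⁻¹ * n⁻¹⁻¹ ∈ ⁅A, ⟪n⟫⁆ :=
      commutator_mem_commutator (A.inv_mem hc) (inv_mem (mem_zpowers n))
    rw [show n * (n⁻¹ * c * n) * n⁻¹ = c by group] at e
    rw [e, show n⁻¹ * c * n = c * (c⁻¹ * n⁻¹ * c⁻¹⁻¹ * n⁻¹⁻¹) by group,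
      h.mul_right a ha.1 c hc _ (hle h1), ha.2 _ h1 (hle h1), mul_one]
  exact ⟨hn, hle, hK, commg_normr _ _ (mem_zpowers n),
    eq_bot_iff.2 fun a ha => hfree a ha.1 (hfix a ha.2), hfix, hfree⟩

variable {h : AF A β}

theorem Dat.ne1 (D : Dat h n U) (h1 : u ≠ 1) : n * u * n⁻¹ ≠ 1 := fun e =>
  h1 (by simpa using e)

theorem Dat.ne (D : Dat h n U) (hu : u ∈ U) (h1 : u ≠ 1) : n * u * n⁻¹ ≠ u := fun e =>
  h1 (D.free u hu e)

theorem Dat.mem (D : Dat h n U) (hu : u ∈ U) : n * u * n⁻¹ ∈ U := (memJ_norm D.nU).2 hu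

theorem Dat.ne2 (D : Dat h n U) (hS : Syl 2 A ⊤) (hu : u ∈ U) (h1 : u ≠ 1) :
    n * (n * u * n⁻¹) * n⁻¹ ≠ u := fun e =>
  D.ne hu h1 (no_swap hS h.ab D.nN (D.le hu) rfl e)

theorem Dat.cube (D : Dat h n U) (hS : Syl 2 A ⊤) (hu : u ∈ U) (h1 : u ≠ 1) :
    n * (n * (n * u * n⁻¹) * n⁻¹) * n⁻¹ = u := by
  have h2 : n * (n * u * n⁻¹) * n⁻¹ = n * u * n⁻¹ * u :=
    ((((klein_cases D.kl hu (D.mem hu) h1 (D.ne1 h1) (D.ne hu h1).symm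
      (D.mem (D.mem hu))).resolve_left (D.ne1 (D.ne1 h1))).resolve_left
      (D.ne2 hS hu h1)).resolve_left (D.ne (D.mem hu) (D.ne1 h1)))
  calc n * (n * (n * u * n⁻¹) * n⁻¹) * n⁻¹
      = n * (n * u * n⁻¹) * n⁻¹ * (n * u * n⁻¹) := by
        conv_lhs => rw [h2]
        group
    _ = u * (n * u * n⁻¹ * (n * u * n⁻¹)) := by
      rw [h2, ← comm_of_abelian D.kl.ab hu (D.mem hu), mul_assoc]
    _ = u := by rw [D.kl.2 _ (D.mem hu), mul_one]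

theorem exists_perp (D : Dat h n U) (E : Dat h m W) (h4 : 4 < Nat.card A) (hA : U ⊔ W = A) :
    ∃ u ∈ U, u ≠ 1 ∧ u ∈ h.perp W := by
  have hb : h.perp W ≠ ⊥ := fun e => by
    have := h.card_perp E.le
    rw [e, card_bot, E.kl.1] at this
    omega
  obtain ⟨⟨y, hy⟩, hy1⟩ := ne_bot_iff_exists_ne_one.1 hb
  have hy1 : y ≠ 1 := fun e => hy1 (Subtype.ext e)
  obtain ⟨z, hz, hyz⟩ := h.restrict_nd (h.perp_le W)
    (by rw [h.perp_perp E.le, inf_comm, E.nd]) y hy hy1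
  have hz1 : z ≠ 1 := fun e => hyz (e ▸ h.one_right hy.1)
  have hne : y * z ≠ 1 := fun e => hyz (by
    rw [← inv_eq_of_mul_eq_one_right e, h.inv_right hy.1 hy.1, h.alt y hy.1, inv_one])
  have hn : W ≤ 𝐍[U] := E.le.trans (sub_abelian_norm h.ab D.le)
  obtain ⟨u1, hu1, w1, hw1, rfl⟩ := (mem_join_norm hn).1 (hA.ge hy.1)
  obtain ⟨u2, hu2, w2, hw2, rfl⟩ := (mem_join_norm hn).1 (hA.ge hz.1)
  have hW : ∀ a ∈ W, a ∈ h.perp W → a = 1 := fun a ha ha' => mem_bot.1 (E.nd ▸ ⟨ha, ha'⟩)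
  have hc : u1 * w1 * (u2 * w2) = u1 * u2 * (w1 * w2) := by
    rw [mul_assoc, mul_assoc, ← mul_assoc w1, comm_of_abelian h.ab (E.le hw1) (D.le hu2),
      mul_assoc]
  by_contra hcon
  push Not at hcon
  have a1 : w1 ≠ 1 := fun e => hcon u1 hu1 (by simpa [e] using hy1) (by simpa [e] using hy)
  have a2 : w2 ≠ 1 := fun e => hcon u2 hu2 (by simpa [e] using hz1) (by simpa [e] using hz)
  have a3 : w1 ≠ w2 := fun e => by
    have h1 := mul_mem hy hz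
    rw [hc, e, E.kl.2 w2 hw2, mul_one] at h1 hne
    exact hcon _ (mul_mem hu1 hu2) hne h1
  have b1 : u1 ≠ 1 := fun e => a1 (hW w1 hw1 (by simpa [e] using hy))
  have b2 : u2 ≠ 1 := fun e => a2 (hW w2 hw2 (by simpa [e] using hz))
  have b3 : u1 ≠ u2 := fun e => by
    have h1 := mul_mem hy hz
    rw [hc, e, D.kl.2 u2 hu2, one_mul] at h1 hne
    exact hne (hW _ (mul_mem hw1 hw2) h1)
  have c1 := klein_val h D.le D.kl D.nd hu1 hu2 b1 b2 b3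
  have c2 := klein_val h E.le E.kl E.nd hw2 hw1 a2 a1 a3.symm
  have c3 := hz.2 w1 hw1 (E.le hw1)
  rw [h.mul_left _ (D.le hu2) _ (E.le hw2) _ (E.le hw1), c2] at c3
  refine hyz ?_
  rw [h.mul_right _ hy.1 _ (D.le hu2) _ (E.le hw2), hy.2 w2 hw2 (E.le hw2), mul_one,
    h.mul_left _ (D.le hu1) _ (E.le hw1) _ (D.le hu2), c1, h.symm_inv (D.le hu2) (E.le hw1),
    eq_inv_of_mul_eq_one_left c3]
  simp

theorem mul_mem_perp (D : Dat h n U) (E : Dat h m W) (hne : ¬ U ≤ h.perp W) (hu : u ∈ U)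
    (hu1 : u ≠ 1) (hup : u ∈ h.perp W) (hw : w ∈ W) (hw1 : w ≠ 1) (hwp : w ∈ h.perp U)
    (hx : x ∈ U) (hx1 : x ≠ 1) (hxu : x ≠ u) : x * w ∈ h.perp W := by
  have h1 : β x w = 1 := (h.symm_eq_one (E.le hw) (D.le hx)).2 (hwp.2 x hx (D.le hx))
  have h2 : β x (m * w * m⁻¹) = -1 := sq_val h D.le D.kl hx (E.le (E.mem hw)) fun e => hne (by
    have := perp_of_two h E.le E.kl hw (E.mem hw) hw1 (E.ne1 hw1) (E.ne hw hw1).symm (D.le hx) h1 e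
    rw [D.kl.gen hx hu hx1 hu1 hxu]
    exact sup_le (zpowers_le.2 hup) (zpowers_le.2 this))
  refine perp_of_two h E.le E.kl hw (E.mem hw) hw1 (E.ne1 hw1) (E.ne hw hw1).symm
    (A.mul_mem (D.le hx) (E.le hw)) ?_ ?_
  · rw [h.mul_left _ (D.le hx) _ (E.le hw) _ (E.le hw), h1, h.alt w (E.le hw), one_mul]
  · rw [h.mul_left _ (D.le hx) _ (E.le hw) _ (E.le (E.mem hw)), h2,
      klein_val h E.le E.kl E.nd hw (E.mem hw) hw1 (E.ne1 hw1) (E.ne hw hw1).symm]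
    simp

theorem le_perp (D : Dat h n U) (E : Dat h m W) (hS : Syl 2 A ⊤) (h4 : 4 < Nat.card A)
    (hA : U ⊔ W = A) (hp : h.perp U ⊓ h.perp W = ⊥) : U ≤ h.perp W := by
  by_contra hne
  have hne' : ¬ W ≤ h.perp U := fun e => hne ((h.le_perp_comm D.le E.le).2 e)
  obtain ⟨u, hu, hu1, hup⟩ := exists_perp D E h4 hA
  obtain ⟨w, hw, hw1, hwp⟩ := exists_perp E D h4 (sup_comm U W ▸ hA)
  have p4 := mul_mem_perp D E hne hu hu1 hup hw hw1 hwp (D.mem hu) (D.ne1 hu1) (D.ne hu hu1)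
  have p3 := mul_mem_perp D E hne hu hu1 hup hw hw1 hwp (D.mem (D.mem hu)) (D.ne1 (D.ne1 hu1))
    (D.ne2 hS hu hu1)
  have p2 := mul_mem_perp E D hne' hw hw1 hwp hu hu1 hup (E.mem hw) (E.ne1 hw1) (E.ne hw hw1)
  rw [comm_of_abelian h.ab (E.le (E.mem hw)) (D.le hu)] at p2
  have n1 : ∀ x, n * (x * w) * n⁻¹ = n * x * n⁻¹ * w := fun x => by
    conv_rhs => rw [← D.fix w hwp]
    group
  have m1 : m * (u * w) * m⁻¹ = u * (m * w * m⁻¹) := by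
    conv_rhs => rw [← E.fix u hup]
    group
  have hg : n * m * n * m⁻¹ ∈ 𝐍[A] := mul_mem (mul_mem (mul_mem D.nN E.nN) D.nN) (inv_mem E.nN)
  have cj : ∀ a, n * m * n * m⁻¹ * a * (n * m * n * m⁻¹)⁻¹ =
      n * (m * (n * (m⁻¹ * a * m) * n⁻¹) * m⁻¹) * n⁻¹ := fun a => by group
  have e := no_swap hS h.ab hg p2.1 (y := n * (n * u * n⁻¹) * n⁻¹ * w) (by
      rw [cj, ← m1, show m⁻¹ * (m * (u * w) * m⁻¹) * m = u * w by group, n1, E.fix _ p4, n1]) (by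
      rw [cj, show m⁻¹ * (n * (n * u * n⁻¹) * n⁻¹ * w) * m = n * (n * u * n⁻¹) * n⁻¹ * w by
        conv_lhs => rw [← E.fix _ p3]
        group, n1, D.cube hS hu hu1, m1, D.fix _ p2])
  have h1 : u * (m * w * m⁻¹) = 1 := mem_bot.1 (hp ▸ ⟨p2, e ▸ p3⟩)
  exact hu1 (mem_bot.1 (E.nd ▸ ⟨eq_inv_of_mul_eq_one_left h1 ▸ W.inv_mem (E.mem hw), hup⟩))

end WL

theorem stWL3 : StWL3.{u} := fun G _ _ A β h hS h4 n hn m hm hU hW hp => by
  have D := WL.dat h hS hn hU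
  have E := WL.dat h hS hm hW
  have hA : ⁅A, ⟪n⟫⁆ ⊔ ⁅A, ⟪m⟫⁆ = A :=
    h.perp_inj (sup_le D.le E.le) le_rfl (by rw [h.perp_sup D.le E.le, hp, h.perp_top])
  have h1 := (h.le_perp_comm D.le E.le).1 (WL.le_perp D E hS h4 hA hp)
  refine le_antisymm h1 fun a ha => ?_
  obtain ⟨u, hu, w, hw, rfl⟩ := (mem_join_norm (E.le.trans (sub_abelian_norm h.ab D.le))).1
    (hA.ge ha.1)
  have : u = 1 := mem_bot.1 (D.nd ▸ ⟨hu, (mul_mem_cancel_right (h1 hw)).1 ha⟩)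
  rwa [this, one_mul]

end Cfsg.Gag
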